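import Cfsg.Agent.Lib.InvChar.CosetCert
import Mathlib.Algebra.Group.Subgroup.Basic

/-!
# Relators for the groups of unitary type `U₄(3)`

Seven involution letters.  As six by six matrices over three elements modulo sign, preserving the sum of
six squares (rows, left to right):

* 0 = z : 100000 / 010000 / 001000 / 000100 / 000020 / 000002
* 1 = r : 100000 / 020000 / 002000 / 000200 / 000010 / 000002
* 2 = u1 : 010000 / 100000 / 001000 / 000100 / 000001 / 000010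
* 3 = u2 : 100000 / 001000 / 010000 / 000100 / 000001 / 000010
* 4 = u3 : 100000 / 010000 / 000100 / 001000 / 000001 / 000010
* 5 = v : 010000 / 100000 / 001000 / 000010 / 000100 / 000001
* 6 = t : 111100 / 112200 / 121200 / 122100 / 000010 / 000002

The letters `0, 1, 2, 3, 4, 6` generate the centraliser of `0` (order 1152), the letters `0, ..., 5` the
normaliser `2^4 : A₆` (order 5760) of an elementary abelian group of order 16.  `relsH` holds in the former,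
`relsM` in the latter; `relCom` is the commutator of `y = wordY` with its conjugate by `wordS`.
-/

set_option autoImplicit false

namespace CfsgLib.U43

open CfsgLib.InvChar.Coset

/-- The letters of the centraliser. -/
def lettersH : List ℕ := [0, 1, 2, 3, 4, 6]

/-- The letters of the normaliser of the elementary group of order 16. -/
def lettersM : List ℕ := [0, 1, 2, 3, 4, 5]

/-- Relators in the letters of the centraliser. -/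
def relsH : List (List ℕ) :=
  [[6, 0, 6, 0], [1, 0, 1, 0], [2, 0, 2, 0], [4, 2, 4, 2], [3, 0, 3, 0], [0, 1, 4, 1, 4], [0, 1, 3, 1, 3],
   [0, 3, 6, 3, 6], [0, 4, 6, 4, 6], [1, 2, 0, 2, 1, 0], [1, 6, 0, 6, 1, 0], [2, 4, 0, 4, 2, 0],
   [3, 2, 3, 2, 3, 2], [3, 4, 1, 4, 3, 1], [6, 1, 6, 1, 6, 1], [2, 3, 0, 3, 2, 0], [2, 6, 0, 6, 2, 0],
   [3, 1, 6, 3, 6, 1], [4, 3, 4, 3, 4, 3], [4, 1, 6, 4, 6, 1], [6, 3, 4, 6, 4, 3], [3, 4, 0, 4, 3, 0],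
   [0, 6, 1, 4, 1, 4, 6], [0, 4, 3, 6, 3, 6, 4], [0, 2, 4, 6, 4, 6, 2], [0, 2, 1, 4, 1, 4, 2],
   [0, 3, 4, 1, 4, 1, 3], [0, 6, 1, 3, 1, 3, 6], [0, 4, 3, 1, 3, 1, 4], [0, 1, 6, 3, 6, 3, 1],
   [0, 2, 1, 3, 1, 3, 2], [0, 6, 2, 4, 2, 6, 4], [0, 3, 4, 6, 4, 6, 3], [1, 2, 4, 0, 2, 1, 4],
   [0, 1, 2, 4, 2, 1, 4], [3, 2, 6, 0, 6, 2, 3, 0], [6, 2, 6, 0, 6, 2, 6, 0], [1, 2, 3, 0, 3, 2, 1, 0],
   [2, 1, 2, 0, 2, 1, 2, 0], [3, 6, 1, 6, 1, 3, 6, 1], [3, 2, 4, 0, 4, 2, 3, 0], [2, 4, 1, 6, 2, 6, 2, 1],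
   [1, 6, 2, 0, 2, 6, 1, 0], [2, 1, 6, 0, 6, 1, 2, 0], [6, 2, 6, 4, 6, 2, 6, 4], [4, 1, 2, 1, 4, 1, 2, 1],
   [1, 6, 1, 0, 1, 6, 1, 0], [4, 1, 3, 6, 3, 6, 4, 1], [1, 2, 6, 0, 6, 2, 1, 0], [2, 1, 2, 6, 4, 2, 6, 1],
   [2, 1, 2, 1, 2, 1, 2, 1], [4, 1, 2, 6, 4, 6, 2, 1], [4, 3, 6, 4, 3, 6, 4, 3], [3, 1, 4, 6, 4, 6, 3, 1],
   [2, 3, 2, 0, 2, 3, 2, 0], [1, 2, 1, 0, 1, 2, 1, 0], [4, 6, 1, 6, 1, 4, 6, 1], [6, 3, 2, 4, 2, 6, 4, 3],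
   [2, 3, 4, 0, 4, 3, 2, 0], [4, 3, 2, 4, 2, 3, 4, 3], [4, 3, 2, 3, 2, 3, 4, 2], [4, 1, 3, 4, 3, 4, 1, 3],
   [3, 4, 3, 0, 3, 4, 3, 0], [2, 1, 6, 4, 2, 6, 2, 1], [2, 4, 3, 0, 3, 4, 2, 0],
   [2, 1, 2, 3, 2, 1, 2, 4, 3, 2, 1, 2, 3, 4, 3, 1]]

/-- Relators in the letters of the normaliser of the elementary group of order 16. -/
def relsM : List (List ℕ) :=
  [[5, 3, 5, 3, 5, 3], [3, 5, 2, 3, 5, 2], [5, 2, 5, 2, 5, 2], [0, 1, 5, 2, 1, 2, 5], [2, 5, 3, 1, 3, 5, 2, 1],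
   [5, 1, 5, 1, 5, 1, 5, 1], [5, 4, 5, 4, 5, 4, 5, 4], [3, 2, 5, 2, 3, 5, 3, 2], [5, 2, 1, 3, 5, 2, 1, 3],
   [3, 5, 4, 2, 4, 3, 5, 2], [4, 5, 2, 5, 2, 5, 4, 2], [5, 0, 5, 1, 5, 0, 5, 1], [2, 5, 4, 1, 4, 5, 2, 1],
   [5, 0, 5, 0, 5, 0, 5, 0], [2, 4, 5, 2, 4, 5, 4, 2, 5], [0, 5, 1, 4, 5, 1, 5, 4, 5], [1, 2, 1, 2, 3, 5, 1, 5, 3]]

/-- The element `y` of order three of the centraliser, with inverse its reverse. -/
def wordY : List ℕ := [1, 3, 4, 6]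

/-- The conjugating word. -/
def wordS : List ℕ := [2, 3, 5, 4, 3, 5, 3]

/-- The commutator of `y` and its conjugate by `wordS`. -/
def relCom : List ℕ :=
  wordY ++ (wordS ++ wordY ++ wordS.reverse) ++ wordY.reverse ++ (wordS ++ wordY.reverse ++ wordS.reverse)

/-- What the local analysis supplies. -/
structure Rels {G : Type*} [Group G] (z : G) (f : ℕ → G) : Prop where
  sq : ∀ x, f x * f x = 1
  zeq : f 0 = z
  relH : ∀ r ∈ relsH, wprod f r = 1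
  relM : ∀ r ∈ relsM, wprod f r = 1
  com : wprod f relCom = 1
  centralizer_le : Subgroup.centralizer ({z} : Set G) ≤ Subgroup.closure (f '' {x | x ∈ lettersH})

end CfsgLib.U43
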