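import Cfsg.Agent.Lib.InvChar.J3Table
import Cfsg.Agent.Lib.U43.Pres
import Cfsg.Agent.Lib.U43.CertH

/-!
# Computing in an involution centraliser of type `U₄(3)`

`HFrame z f` says that six involutions `f 0, f 1, f 2, f 3, f 4, f 6` satisfy the relators `relsH` and
generate the centraliser of `z = f 0`, of order 1152.  A word `L` in positions below six stands for the
product of the letters at these positions in `lettersH`; its value `hv L` in the table `CertH` determines
and is determined by that product.
-/

set_option autoImplicit false
set_option maxRecDepth 100000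

namespace CfsgLib.U43

open Subgroup CfsgLib.InvChar.Coset

/-- Words (in the letters of `Pres`) generating the largest normal two-subgroup of the centraliser. -/
def qWords : List (List ℕ) :=
  [[2, 4], [0, 2, 4], [1, 2, 1, 2], [3, 2, 4, 3], [1, 3, 2, 1, 2, 3]]

/-- The subgroup `Q`. -/
def qSub {G : Type*} [Group G] (f : ℕ → G) : Subgroup G := closure {x | x ∈ qWords.map (wprod f)}

/-- What the structure of the centraliser supplies. -/
structure HFrame {G : Type*} [Group G] (z : G) (f : ℕ → G) : Prop where
  sq : ∀ x, f x * f x = 1
  zeq : f 0 = z
  relH : ∀ r ∈ relsH, wprod f r = 1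
  centralizer_le : centralizer ({z} : Set G) ≤ closure (f '' {x | x ∈ lettersH})
  card : Nat.card ↥(centralizer ({z} : Set G)) = 1152

/-- The value of a word in positions below six. -/
noncomputable def hv (L : List ℕ) : ℕ := CertH.table.val L

/-- Parents. -/
noncomputable def parH : Tr := (.node (.node (.node (.node (.leaf 0x7510034100541003210034300251003d30079200272001c2003d4001a3007420073100a0500713006e2006d1006c2004330015300263002f300093006820023200222001e40018400252000e200241002b100121001e2003240025300225004a400512004b40012500044005550054300141001110051400355002d500425001420013200115004a2003c4001640021100371002d20042200061001230011300345003d500012000b2003c500165000c200114000a500374002b20002200181001b5000c3000e1000d40009100071001f400085002b3000f30010100021000b40019500134001930008300133000750006500073001310001100043001b4000a40006300182000a20007400055000450005200042000140003400013000a100081000330000300064000040003200002000310000100000000350000500000) (.leaf 0x3f53047f2047a4047f4047a20461104033038b30469104711043f304323046d104692030b3043e3047540469402273039b503b6201d7301c930460404614023a50361304774035c3022e30442302122042210313302455024d503b64031910448404241022e10381103d01044a303743036e3044b404562039e3044f2045a2044b204183013c10407102e410420302b93029f103de103de201c12032240317403a0203cc203121045c1043c2028b20375202281023c1022910231104304044f4030b104302035b103a9402ce102cd103f6302b03042b203f13027b102f610408403de40339303403024a203421041f2032d102f8102b52038e20302303f03045a402241041620272102993032e102f71031c102751029b101c81028a103d1103222029e4029d403fe502a23013c303f7103fd103fd5036f403f2103fe1027f2))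 (.leaf 0x1983019a20276200ab201be201271027a200c02024420116101b9201c4401d340129300a6101d3201242026f1026e202534021b2016e1016b101ec101f710265101bb201fb200b520111400a1100c1100ab100bf1013b101b0200b12008940088400cd102582025730256402c9302522014d301e350251201ad2017b3017c3016c40073501373017f2003e3009e5024720175200665010a202431013c501814012810105102265010b2010c1020e2023a10237300ed4015e3022c402091022a202085010320225102255023c402124019530230202261023d4020450128200c6200332010e201b51022f20205302212021e2021d3021c400f3201133020c302082022a5010f2009b2023d202093015450160301963010e1015f501453010f101464015d3003b1011250112301465003a1011210226402041011850272501ff2)) (.node (.leaf 0xe0300e13017e200d9400e3401525014f5003a200f5500e4501e250175401721017120079500e6300eb400e2200c9200e8500f7500c8300e810169201683016740233301cc3014930155200db400db201473014740047500f7100ba5015b3006f3022b3015620148300483004730154200d8100e05014f200dd100e0101522014450147500dc20144201472001610017100471003c1003a402254022a40129501403013d2016930127201072012350126101df50152400863019e5013310132200de3011b2026e4013b502755012c201523011c201294010d2010150104500493010b100c4301013012320122101fd5027b5011d200d910064301083010420105201002010b4010530068500c73005d40017400903010d1003a30017500185010d400c65002e3010010033400993002010063500633004d3001f100c64001f3)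 (.leaf 0x380102e91024c102ba301f8101eb1031110139201ca102724033150264402cd201aa503ff1036f101f020378402ce201335040010369101e12041540346202964035d40347201d410363201f8201c610346400fb503823035b401d630139402033035720072302223014130353202491028b102e81034f1034e2017f50317201a5103231029d201f3401e54023d3006d5011a101574024e2027b4032d2011d4017c503311030b5024d201ba1021c101d52033a202f72017c101bf1006e402eb101725016a203ce4032e2032d3021c50248201f04021a20328203103014a3031e2030a202322020b2019b3023210321201a6202141012c5032d4031640315402243021140212101b630178303152021d101c6201c5202c74033a401d65030e302b1201d420244302195030920306202131009c1012a1018a303fe4024f5032c5))) (.node (.node (.leaf 0x186401f1501e5500fb2033a302c73006c100eb20031200f5400322007450051300661016d500f1300ee200ed100ec200583003930038300ea200c52004140040400cc20021200dd300cc300dd400d8400434004b5000d200dd500d850040100402001b2006920169400b9500a2500d22022a30225300443006b2006a200292001a5003850054200c550038100c4500423005530042400a4200c1200cd50067500c04026e500bc20107100a6200a52002a200cc100cb10060200c91001f200972008a3005a10102200a5100af200ac20065500ac3011a500aa200a72011510035300235005b10075300a03005b2005a2007b4007940051500873005c1005910009500491004a1005310099200202004b1008a5004d1001d2007650057100874002c100991003d100773007630037200875006150028200b4100791002a100361)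 (.leaf 0x2d2502ff401ff502f240271403c6402f8200ed502c75021d501ae401e1400ec401e7100b2400824028e2020430142302ed2006d400d14024b3033c502e8202e52034e101f2301e2101634016440200301a610309102dc102132029e2018f4018e4011d501aa401362014e302d3202d2101d220138402cf401262026f502435028e4035b501c8502c8202c7100da2006c400d04023b201fb4011020214202c11030a100a2400bb4024b101f11016d101f210244101a7100b9102b4300a010180402ef3018630129101b0401af4016c100ba100ac100c0100aa101fd101af2017140172402a320177302102019e301a0400ba303151018d301a0101c1402c8501bd201e7401e3300b3300f9400fa400ee4015310252401842025850067100962018650249501eb3028a20287203ed100f6300e530285201e2401de4008d101511)) (.node (.leaf 0xe910116201152012640098301992016b200e9501f8402d3501f4201bb101e7200f42005320093300f4101ef2016c2016c301ca501eb201e8201c5100ca300573016d301e0401df400f5301df1004c3004b301df201cb202d340265502315015f200f8401d6401c0201b850170500b430050301b8301d1201d0103115023c50146201bc30170201ba201b7201be401ba300ea50094301c0100db300d950040501c0400f3501b7100da400cb300e65009d300f34004a3003b2010e4023050109200a64009e30083301d3100b03009c501ad401aa101382008120169500ac40153500aa301a5201a22020b1008d30062301a02009c400784016110160100db100e2100f5100e4100462007c200dc100f61015d101431006110188301873017810080201893020620087100452003020065101862018530184403383011e301503)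 (.leaf 0x2e3200b220082202e34027040416403751036950305202a7404421042b402ff1018b2025c403fd401d0502e92015130422503e6202ff203ab4013d503e6400ad30377301e5102922037c40446403904012a3011930284404454038e402e4403e4402b5403d620336303144033c102ee2037c203ed2045c20319402c2302f84023d100ee5022f102eb503e420347101b33034610156402ea302eb303b810237500d25006e5023710167203b1202ce40423202d5203b5501ed303453030f30219103b1500f23028e5036f502d6503b850278300c230394402851029c404444037630342303034027f4018b40305401c11033f101d610118101ff402362039b10294301d7101c210285402833027e301fe1029f4019f402ac30324100a210335201c220369402a450122502b150360201ec202835032c1033a501c32033f303812))))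

/-- The word of an element of the centraliser. -/
noncomputable def wd (i : ℕ) : List ℕ := parWord parH 10 i

theorem wd_ok : ∀ i < 1152, CertH.table.val (wd i) = i ∧ ∀ x ∈ wd i, x < CertH.table.g := by
  decide +kernel

theorem wd_lt {i : ℕ} (hi : i < 1152) : ∀ x ∈ wd i, x < 6 := (wd_ok i hi).2

theorem hv_wd {i : ℕ} (hi : i < 1152) : hv (wd i) = i := (wd_ok i hi).1

theorem cert_rels_H : ∀ r ∈ CertH.cert.rels, (∀ x ∈ r, x < 6) ∧
    r.map (fun x => lettersH.getD x 0) ∈ relsH ++ ([] :: lettersH.map fun x => [x, x]) := by
  decide +kernel

theorem hv_lt {L : List ℕ} (hL : ∀ x ∈ L, x < 6) : hv L < 1152 := CertH.covered.val_lt L hL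

/-- The position of a letter in `lettersH`. -/
def pos (x : ℕ) : ℕ := if x = 6 then 5 else x

/-- The value of a word in the letters of the centraliser. -/
noncomputable def hvA (L : List ℕ) : ℕ := hv (L.map pos)

/-- The word of an element, in the letters of the centraliser. -/
noncomputable def wdA (i : ℕ) : List ℕ := (wd i).map fun x => lettersH.getD x 0

theorem pos_spec : ∀ x ∈ lettersH, pos x < 6 ∧ lettersH.getD (pos x) 0 = x := by decide

theorem pos_getD : ∀ i < 6, pos (lettersH.getD i 0) = i ∧ lettersH.getD i 0 ∈ lettersH := by decide

theorem wdA_mem {i : ℕ} (hi : i < 1152) : ∀ x ∈ wdA i, x ∈ lettersH := by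
  intro x hx
  obtain ⟨y, hy, rfl⟩ := List.mem_map.1 hx
  exact (pos_getD y (wd_lt hi y hy)).2

theorem map_pos_wdA {i : ℕ} (hi : i < 1152) : (wdA i).map pos = wd i := by
  rw [wdA, List.map_map]
  conv_rhs => rw [← List.map_id (wd i)]
  exact List.map_congr_left fun y hy => (pos_getD y (wd_lt hi y hy)).1

theorem hvA_wdA {i : ℕ} (hi : i < 1152) : hvA (wdA i) = i := by
  rw [hvA, map_pos_wdA hi, hv_wd hi]

namespace HFrame

variable {G : Type*} [Group G] {z : G} {f : ℕ → G} (Φ : HFrame z f)
include Φ

/-- The product of a word in positions. -/
theorem wprod_emb (L : List ℕ) (hL : ∀ x ∈ L, x < 6) :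
    wprod (subGen f lettersH) L = wprod f (L.map fun x => lettersH.getD x 0) :=
  wprod_subGen f lettersH L hL

theorem sq' : ∀ x, subGen f lettersH x * subGen f lettersH x = 1 := by
  intro x
  unfold subGen
  split <;> simp [Φ.sq]

theorem rels' : ∀ r ∈ CertH.cert.rels, wprod (subGen f lettersH) r = 1 := by
  intro r hr
  obtain ⟨h1, h2⟩ := cert_rels_H r hr
  rw [Φ.wprod_emb r h1]
  rcases List.mem_append.1 h2 with h | h
  · exact Φ.relH _ h
  rcases List.mem_cons.1 h with h | h
  · rw [h]; rfl
  · obtain ⟨x, -, e⟩ := List.mem_map.1 h
    rw [← e]; simp [wprod, Φ.sq]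

theorem eq_of_hv {L M : List ℕ} (hL : ∀ x ∈ L, x < 6) (hM : ∀ x ∈ M, x < 6) (h : hv L = hv M) :
    wprod (subGen f lettersH) L = wprod (subGen f lettersH) M :=
  CertH.covered.eq_of_val _ Φ.sq' Φ.rels' rfl hL hM h

theorem mem_letters {x : ℕ} (hx : x ∈ lettersH) : f x ∈ centralizer ({z} : Set G) := by
  obtain ⟨i, hi, e⟩ := List.mem_iff_getElem.1 hx
  have hi6 : i < 6 := hi
  have h : wprod (subGen f lettersH) [i, 0] = wprod (subGen f lettersH) [0, i] := by
    refine Φ.eq_of_hv (by simp; omega) (by simp; omega) ?_
    revert hi6; revert i
    exact fun i _ _ h => (by decide +kernel : ∀ i < 6, hv [i, 0] = hv [0, i]) i h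
  rw [Φ.wprod_emb _ (by simp; omega), Φ.wprod_emb _ (by simp; omega)] at h
  have e0 : lettersH.getD i 0 = x := by simp [List.getD_eq_getElem?_getD, hi, e]
  simp only [List.map_cons, List.map_nil, e0] at h
  rw [mem_centralizer_singleton_iff, ← Φ.zeq]
  simpa [wprod, lettersH] using h

theorem wprod_pos {L : List ℕ} (hL : ∀ x ∈ L, x ∈ lettersH) :
    wprod (subGen f lettersH) (L.map pos) = wprod f L := by
  rw [Φ.wprod_emb _ (fun y hy => by
    obtain ⟨x, hx, rfl⟩ := List.mem_map.1 hy
    exact (pos_spec x (hL x hx)).1), List.map_map]
  congr 1
  conv_rhs => rw [← List.map_id L]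
  exact List.map_congr_left fun x hx => (pos_spec x (hL x hx)).2

omit Φ in
theorem pos_lt {L : List ℕ} (hL : ∀ x ∈ L, x ∈ lettersH) : ∀ y ∈ L.map pos, y < 6 := fun y hy => by
  obtain ⟨x, hx, rfl⟩ := List.mem_map.1 hy
  exact (pos_spec x (hL x hx)).1

theorem mem_C {L : List ℕ} (hL : ∀ x ∈ L, x ∈ lettersH) : wprod f L ∈ centralizer ({z} : Set G) := by
  induction L with
  | nil => exact one_mem _
  | cons x L ih =>
    rw [show wprod f (x :: L) = f x * wprod f L from by simp [wprod]]
    exact mul_mem (Φ.mem_letters (hL x List.mem_cons_self))
      (ih fun y hy => hL y (List.mem_cons_of_mem x hy))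

/-- Products and values determine each other. -/
theorem eq_iff [Finite G] {L M : List ℕ} (hL : ∀ x ∈ L, x ∈ lettersH) (hM : ∀ x ∈ M, x ∈ lettersH) :
    wprod f L = wprod f M ↔ hvA L = hvA M := by
  let s' : ℕ → ↥(centralizer ({z} : Set G)) := fun x => if h : x < 6 then
    ⟨f (lettersH.getD x 0), Φ.mem_letters (pos_getD x h).2⟩ else 1
  have hval : ∀ x, ((s' x : ↥(centralizer ({z} : Set G))) : G) = subGen f lettersH x := by
    intro x
    by_cases h : x < 6
    · simp only [s', dif_pos h]
      rw [subGen, if_pos (show x < lettersH.length from h)]
    · simp only [s', dif_neg h]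
      rw [subGen, if_neg (show ¬ x < lettersH.length from h)]
      rfl
  have hwp : ∀ W : List ℕ, ((wprod s' W : ↥(centralizer ({z} : Set G))) : G) =
      wprod (subGen f lettersH) W := fun W =>
    map_wprod (centralizer ({z} : Set G)).subtype s' _ W fun x _ => hval x
  have hgen : closure (s' '' Set.Iio CertH.table.g) = ⊤ := by
    refine map_injective (centralizer ({z} : Set G)).subtype_injective ?_
    rw [← MonoidHom.range_eq_map, range_subtype, MonoidHom.map_closure]
    refine le_antisymm ((closure_le _).2 ?_) (Φ.centralizer_le.trans (closure_mono ?_))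
    · rintro _ ⟨u, -, rfl⟩
      exact u.2
    · rintro _ ⟨x, hx, rfl⟩
      refine ⟨s' (pos x), ⟨pos x, (pos_spec x hx).1, rfl⟩, ?_⟩
      show ((s' (pos x) : ↥(centralizer ({z} : Set G))) : G) = f x
      rw [hval, subGen, if_pos (show pos x < lettersH.length from (pos_spec x hx).1),
        (pos_spec x hx).2]
  have h := CertH.covered.val_eq_iff s' (fun x => Subtype.ext (by
      simpa [hval] using Φ.sq' x))
    (fun r hr => Subtype.ext (by rw [hwp, Φ.rels' r hr]; rfl)) rfl hgen (by
      rw [Φ.card]; decide +kernel) (pos_lt hL) (pos_lt hM)
  rw [← Φ.wprod_pos hL, ← Φ.wprod_pos hM, ← hwp, ← hwp]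
  exact Subtype.ext_iff.symm.trans h

/-- Every element of the centraliser is the product of one of the words. -/
theorem exists_word [Finite G] {g : G} (hg : g ∈ centralizer ({z} : Set G)) :
    ∃ i < 1152, wprod f (wdA i) = g := by
  let F : Fin 1152 → ↥(centralizer ({z} : Set G)) := fun i => ⟨_, Φ.mem_C (wdA_mem i.2)⟩
  have hF : Function.Injective F := fun i j e => by
    have := (Φ.eq_iff (wdA_mem i.2) (wdA_mem j.2)).1 (congrArg Subtype.val e)
    rw [hvA_wdA i.2, hvA_wdA j.2] at this
    exact Fin.ext this
  have hb := hF.bijective_of_nat_card_le (by rw [Φ.card, Nat.card_fin])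
  obtain ⟨i, hi⟩ := hb.2 ⟨g, hg⟩
  exact ⟨i, i.2, congrArg Subtype.val hi⟩

end HFrame

end CfsgLib.U43
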