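import Cfsg.Agent.Lib.U43.Inst
import Cfsg.Agent.Lib.U43.HTable

/-!
# Root elements of order three in a group of unitary type `U₄(3)`

An element of order three of the centraliser of `z` that commutes with a square root of `z` is a single
commutator of two elements commuting with it.
-/

set_option autoImplicit false
set_option maxRecDepth 100000
set_option Elab.async false

namespace CfsgLib.U43.RootThree

open CfsgLib.InvChar.Coset CfsgLib.KnownA.PermCert CfsgLib.KnownA.U4ThreeSchur

/-- Conjugators of `[1, 3, 4, 6]` to its class in the centraliser. -/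
def conjY : List (List ℕ) := [
  [], [1], [2], [3], [1, 2], [1, 3], [2, 1], [2, 3], [3, 2], [6, 2], [1, 2, 1], [1, 2, 3], [1, 3, 2],
  [1, 6, 2], [2, 1, 3], [1, 2, 1, 3]]

/-- Conjugators of `[1, 6]` to its class in the centraliser. -/
def conjA : List (List ℕ) := [
  [], [1], [2], [1, 2], [2, 1], [3, 2], [6, 2], [1, 2, 1], [1, 3, 2], [1, 6, 2], [3, 2, 1], [3, 6, 2],
  [4, 3, 2], [1, 3, 2, 1], [1, 3, 6, 2], [1, 4, 3, 2], [2, 1, 3, 2], [2, 3, 6, 2], [4, 3, 2, 1],
  [4, 3, 6, 2], [1, 2, 1, 3, 2], [1, 2, 3, 6, 2], [1, 4, 3, 2, 1], [1, 4, 3, 6, 2], [2, 1, 3, 2, 1],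
  [2, 1, 3, 6, 2], [2, 1, 4, 3, 2], [2, 4, 3, 6, 2], [6, 2, 1, 3, 2], [6, 2, 3, 6, 2],
  [1, 2, 1, 3, 2, 1], [1, 6, 2, 1, 3, 2]]

/-- Conjugators of `[2, 3]` to its class in the centraliser. -/
def conjB : List (List ℕ) := [
  [], [1], [2], [4], [6], [1, 2], [1, 4], [2, 1], [2, 4], [2, 6], [3, 4], [3, 6], [4, 6], [1, 2, 1],
  [1, 2, 4], [1, 2, 6], [1, 3, 4], [2, 1, 2], [2, 1, 4], [2, 3, 4], [2, 3, 6], [2, 4, 6], [3, 2, 1],
  [3, 2, 4], [3, 2, 6], [3, 4, 6], [4, 3, 6], [6, 2, 1], [6, 2, 6], [1, 3, 2, 4], [2, 1, 3, 4],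
  [2, 3, 2, 4]]

/-- The first factor of the commutator. -/
def gW : List ℕ := [0, 5, 0, 6, 5, 1, 6]

/-- The second factor of the commutator. -/
def hW : List ℕ := [0, 1, 6, 5, 0, 6, 5]

/-- Whether `i` is the value of a conjugate of `w` by one of the words. -/
noncomputable def inCls (i : ℕ) (w : List ℕ) (L : List (List ℕ)) : Bool :=
  L.any fun c => Nat.beq (hvA (c ++ w ++ c.reverse)) i

theorem cube_check : ((List.range 1152).all fun i =>
    !Nat.beq (hvA (wdA i ++ wdA i ++ wdA i)) (hvA []) || Nat.beq i (hvA []) ||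
      inCls i wordY conjY || inCls i [1, 6] conjA || inCls i [2, 3] conjB) = true := by
  decide +kernel

theorem no_root : ([[1, 6], [2, 3]].all fun w => (List.range 1152).all fun i =>
    !Nat.beq (hvA (wdA i ++ wdA i)) (hvA [0]) || !Nat.beq (hvA (wdA i ++ w)) (hvA (w ++ wdA i))) = true := by
  decide +kernel

theorem mem_check : ((conjY ++ conjA ++ conjB).all fun c => c.all fun x => decide (x ∈ lettersH)) = true := by
  decide +kernel

theorem model_check : ([gW ++ wordY ++ gW.reverse ++ wordY.reverse, hW ++ wordY ++ hW.reverse ++ wordY.reverse,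
    gW ++ hW ++ gW.reverse ++ hW.reverse ++ wordY.reverse].all relOK) = true := by
  decide +kernel

attribute [local irreducible] hvA wdA relOK

variable {G : Type*} [Group G] {z : G} {f : ℕ → G}

theorem wprod_reverse (hsq : ∀ x, f x * f x = 1) (L : List ℕ) : wprod f L.reverse = (wprod f L)⁻¹ := by
  refine eq_inv_of_mul_eq_one_left ?_
  induction L with
  | nil => simp [wprod]
  | cons x L ih =>
    rw [List.reverse_cons, wprod_append, show wprod f [x] = f x by simp [wprod],
      show wprod f (x :: L) = f x * wprod f L by simp [wprod], mul_assoc, ← mul_assoc (f x), hsq, one_mul, ih]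

open scoped commutatorElement

/-- **The element is a commutator in its centraliser.** -/
theorem mem_commutator_centralizer [Finite G] (h : Rels z f) (hz : orderOf z = 2)
    (hcard : Nat.card (Subgroup.centralizer ({z} : Set G)) = 1152)
    (hF : IsPGroup 2 (Cfsg.generalizedFittingSubgroup (Subgroup.centralizer ({z} : Set G))))
    {w a : G} (hw : orderOf w = 3) (hwz : w * z = z * w) (haz : a * z = z * a) (haw : a * w = w * a)
    (ha : a * a = z) :
    w ∈ ⁅Subgroup.centralizer ({w} : Set G), Subgroup.centralizer ({w} : Set G)⁆ := by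
  have : IsSimpleGroup GP := model_facts.2.1
  obtain ⟨ψ, -, hψ⟩ := exists_injective_of_rels modelFacts.toIsModel h (CfsgLib.Invol.invol_ne_one hz)
    fun u hu hc h3 => eq_one_of_central hF hu hc h3
  have Φ : HFrame z f := ⟨h.sq, h.zeq, h.relH, h.centralizer_le, hcard⟩
  have hmod : ∀ r, relOK r = true → (∀ x ∈ r, x < 7) → wprod f r = 1 := fun r hr hlt => by
    rw [← map_wprod ψ mGen f r fun x hx => hψ x (hlt x hx), wprod_eq_one hr, map_one]
  have h0 : (0 : ℕ) ∈ lettersH := by decide
  obtain ⟨i, hi, hwi⟩ := Φ.exists_word (Subgroup.mem_centralizer_singleton_iff.2 hwz)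
  have hiL := wdA_mem hi
  have app : ∀ {L M : List ℕ}, (∀ x ∈ L, x ∈ lettersH) → (∀ x ∈ M, x ∈ lettersH) →
      ∀ x ∈ L ++ M, x ∈ lettersH := fun hL hM x hx => (List.mem_append.1 hx).elim (hL x) (hM x)
  have rev : ∀ {L : List ℕ}, (∀ x ∈ L, x ∈ lettersH) → ∀ x ∈ L.reverse, x ∈ lettersH :=
    fun hL x hx => hL x (List.mem_reverse.1 hx)
  have hcube : hvA (wdA i ++ wdA i ++ wdA i) = hvA [] := by
    refine (Φ.eq_iff (app (app hiL hiL) hiL) (by simp)).1 ?_
    rw [wprod_append, wprod_append, hwi, ← pow_three', ← hw, pow_orderOf_eq_one]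
    rfl
  have hne : i ≠ hvA [] := fun e => by
    have := (Φ.eq_iff hiL (M := []) (by simp)).2 (by rw [hvA_wdA hi, e])
    rw [hwi] at this
    rw [show w = 1 from this, orderOf_one] at hw
    exact absurd hw (by norm_num)
  have hclass := List.all_eq_true.1 cube_check i (List.mem_range.2 hi)
  simp only [hcube, Bool.or_eq_true, Nat.beq_eq, inCls, List.any_eq_true, Bool.not_eq_true'] at hclass
  have hmem := List.all_eq_true.1 mem_check
  have conj_eq : ∀ {c v : List ℕ}, (∀ x ∈ c, x ∈ lettersH) → (∀ x ∈ v, x ∈ lettersH) →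
      hvA (c ++ v ++ c.reverse) = i → wprod f c * wprod f v * (wprod f c)⁻¹ = w := fun {c v} hc hv e => by
    have := (Φ.eq_iff (app (app hc hv) (rev hc)) hiL).2 (by rw [e, hvA_wdA hi])
    rwa [wprod_append, wprod_append, wprod_reverse h.sq, hwi] at this
  have hcm : ∀ c ∈ conjY ++ conjA ++ conjB, ∀ x ∈ c, x ∈ lettersH := fun c hc x hx =>
    of_decide_eq_true (List.all_eq_true.1 (hmem c hc) x hx)
  -- the other two classes have no square root of `z` in their centralisers
  have bad : ∀ v ∈ [[1, 6], [2, 3]], (∀ x ∈ v, x ∈ lettersH) → ∀ c, (∀ x ∈ c, x ∈ lettersH) →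
      hvA (c ++ v ++ c.reverse) = i → False := by
    intro v hv hvL c hc e
    have he := conj_eq hc hvL e
    have hcz : wprod f c * z = z * wprod f c := Subgroup.mem_centralizer_singleton_iff.1 (Φ.mem_C hc)
    set u := wprod f c
    obtain ⟨k, hk, hku⟩ := Φ.exists_word (g := u⁻¹ * a * u) (Subgroup.mem_centralizer_singleton_iff.2 (by
      have hu : Commute u z := hcz
      exact ((hu.inv_left).mul_left (show Commute a z from haz)).mul_left hu))
    have hkL := wdA_mem hk
    have hk0 := List.all_eq_true.1 (List.all_eq_true.1 no_root v hv) k (List.mem_range.2 hk)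
    have e1 : hvA (wdA k ++ wdA k) = hvA [0] := (Φ.eq_iff (app hkL hkL) (by simp [h0])).1 (by
      rw [wprod_append, hku, show wprod f [0] = f 0 by simp [wprod], Φ.zeq,
        show u⁻¹ * a * u * (u⁻¹ * a * u) = u⁻¹ * (a * a) * u by group, ha, mul_assoc, ← hcz, ← mul_assoc,
        inv_mul_cancel, one_mul])
    have e2 : hvA (wdA k ++ v) = hvA (v ++ wdA k) := (Φ.eq_iff (app hkL hvL) (app hvL hkL)).1 (by
      rw [wprod_append, wprod_append, hku]
      have e' : wprod f v = u⁻¹ * w * u := by rw [← he]; group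
      rw [e', show u⁻¹ * a * u * (u⁻¹ * w * u) = u⁻¹ * (a * w) * u by group, haw]
      group)
    simp [e1, e2] at hk0
  rcases hclass with (((h1 | h1) | ⟨c, hc, e⟩) | ⟨c, hc, e⟩) | ⟨c, hc, e⟩
  · exact absurd h1 (by simp)
  · exact absurd h1 hne
  · have hcL := hcm c (by simp [hc])
    have he := conj_eq hcL (by decide) e
    have hchk := List.all_eq_true.1 model_check
    have r1 := hmod _ (hchk _ List.mem_cons_self) (by decide)
    have r2 := hmod _ (hchk _ (List.mem_cons_of_mem _ List.mem_cons_self)) (by decide)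
    have r3 := hmod _ (hchk _ (List.mem_cons_of_mem _ (List.mem_cons_of_mem _ List.mem_cons_self))) (by decide)
    simp only [wprod_append, wprod_reverse h.sq, mul_inv_eq_one] at r1 r2 r3
    set u := wprod f c
    set g := wprod f gW
    set k := wprod f hW
    set y := wprod f wordY
    have hw' : w = ⁅MulAut.conj u g, MulAut.conj u k⁆ := by
      rw [← map_commutatorElement, commutatorElement_def, r3, ← he]
      rfl
    have hin : ∀ {q : G}, q * y * q⁻¹ = y → MulAut.conj u q ∈ Subgroup.centralizer ({w} : Set G) := by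
      intro q hq
      rw [Subgroup.mem_centralizer_singleton_iff, ← he]
      show MulAut.conj u q * MulAut.conj u y = MulAut.conj u y * MulAut.conj u q
      rw [← map_mul, ← map_mul, mul_inv_eq_iff_eq_mul.1 hq]
    have hh := Subgroup.commutator_mem_commutator (hin r1) (hin r2)
    rwa [← hw'] at hh
  · exact (bad [1, 6] (by simp) (by decide) c (hcm c (by simp [hc])) e).elim
  · exact (bad [2, 3] (by simp) (by decide) c (hcm c (by simp [hc])) e).elim

end CfsgLib.U43.RootThree
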