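import Cfsg.Agent.Lib.U43.ModelFacts
import Cfsg.Agent.Lib.U43.ModelSevenData
import Mathlib.GroupTheory.Perm.Cycle.Type

/-!
An element of the permutation model of `PSU₄(3)` commuting with an element of order seven and fixing a point is
trivial, so there is no element of order 21.
-/

set_option autoImplicit false
set_option maxRecDepth 100000
set_option Elab.async false
set_option linter.style.haveILetI false

namespace CfsgLib.U43

open CfsgLib.KnownA.PermCert CfsgLib.KnownA.U4ThreeSchur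
open Matrix (mulVec)

theorem produced_seven : producedBy gensG opsSeven [codeSeven, codeOne] = true := by decide +kernel

theorem seven_mem : valid 112 codeSeven = true ∧ permOf 112 codeSeven ∈ GP :=
  mem_of_producedBy produced_seven codeSeven (by simp)

/-- The element of order seven. -/
noncomputable def xGP : GP := ⟨permOf 112 codeSeven, seven_mem.2⟩

/-- The image of a point under the powers of the code. -/
def orbPt (r k : ℕ) : ℕ := actW (List.replicate k codeSeven) r

/-- The frame of an orbit. -/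
def frame (r : ℕ) : Matrix I6 I6 (ZMod 3) :=
  Matrix.of fun a b => vecOf (ptCodes.getD (orbPt r (ix b)) 0) a

/-- Every orbit consists of seven vectors in general position. -/
def sevenOK : Bool :=
  sevenHints.all fun h =>
    decide (matOf h.2 * frame h.1 = 1) && decide (frame h.1 * matOf h.2 = 1) &&
      decide (∀ a : I6, mulVec (matOf h.2) (vecOf (ptCodes.getD (orbPt h.1 6) 0)) a ≠ 0)

theorem seven_ok : sevenOK = true := by decide +kernel

theorem seven_cover : ∀ i : Fin 112, ∃ k : Fin 7, sevenHints.any (fun h => Nat.beq h.1 (orbPt i k)) = true := by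
  decide +kernel

theorem seven_pow : eqW 112 (List.replicate 7 codeSeven) [codeOne] = true := by decide +kernel

theorem seven_move : pimg codeSeven 0 ≠ 0 := by decide +kernel

theorem orbPt_lt (r : Fin 112) (k : ℕ) : orbPt r k < 112 := by
  rw [orbPt, ← prodW_val (fun c hc => by rw [(List.mem_replicate.1 hc).2]; exact seven_mem.1) r]
  exact Fin.isLt _

theorem pow_smul_val (r : Fin 112) (k : ℕ) : ((xGP ^ k • r : Fin 112) : ℕ) = orbPt r k := by
  rw [orbPt, ← prodW_val (fun c hc => by rw [(List.mem_replicate.1 hc).2]; exact seven_mem.1) r]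
  have e : ((xGP ^ k : GP) : Equiv.Perm (Fin 112)) = prodW 112 (List.replicate k codeSeven) := by
    rw [SubgroupClass.coe_pow]; simp [prodW, List.map_replicate, xGP]
  show ((((xGP ^ k : GP) : Equiv.Perm (Fin 112)) r : Fin 112) : ℕ) = _
  rw [e]

theorem xGP_pow : xGP ^ 7 = 1 := by
  refine Subtype.ext ?_
  have h := (eqW_iff (n := 112) (L := List.replicate 7 codeSeven) (L' := [codeOne])
    (fun c hc => by rw [(List.mem_replicate.1 hc).2]; exact seven_mem.1)
    (by simp [(mem_facts (show codeOne ∈ needFacts by simp [needFacts])).1])).1 seven_pow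
  rw [prodW_one, permOf_codeOne] at h
  rw [SubgroupClass.coe_pow]
  show _ = (1 : Equiv.Perm (Fin 112))
  rw [← h, prodW, List.map_replicate, List.prod_replicate]
  rfl

theorem orderOf_xGP : orderOf xGP = 7 := by
  haveI : Fact (Nat.Prime 7) := ⟨by norm_num⟩
  refine orderOf_eq_prime xGP_pow fun e => seven_move ?_
  have := congrArg (fun g : GP => (((g : Equiv.Perm (Fin 112)) (⟨0, by norm_num⟩ : Fin 112)) : ℕ)) e
  simpa [xGP, permOf_val seven_mem.1] using this

/-- Commuting with the element of order seven and fixing a point forces triviality. -/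
theorem eq_one_of_comm_fix {w : GP} (hw : Commute w xGP) {i : Fin 112} (hi : w • i = i) : w = 1 := by
  obtain ⟨k, hk⟩ := seven_cover i
  obtain ⟨⟨r0, N⟩, hh, he⟩ := List.any_eq_true.1 hk
  obtain ⟨r, hr⟩ : ∃ r : Fin 112, r = xGP ^ (k : ℕ) • i := ⟨_, rfl⟩
  have hr0 : (r : ℕ) = r0 := by rw [hr, pow_smul_val]; exact (Nat.eq_of_beq_eq_true he).symm
  have hfix : ∀ j : ℕ, w • (xGP ^ j • r) = xGP ^ j • r := fun j => by
    rw [hr, ← mul_smul (xGP ^ j), ← pow_add, ← mul_smul, (hw.pow_right _).eq, mul_smul, hi]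
  have hok := seven_ok
  simp only [sevenOK, List.all_eq_true, Bool.and_eq_true, decide_eq_true_iff] at hok
  obtain ⟨⟨hNV, hVN⟩, hne⟩ := hok _ hh
  obtain ⟨o, ho⟩ : ∃ o : Cfsg.Omega (ZMod 3) Q6, omegaPerm o = (w : Equiv.Perm (Fin 112)) := GP_le_range w.2
  obtain ⟨M, hM⟩ : ∃ M, M = mat o.1 := ⟨_, rfl⟩
  have hsign : ∀ j : ℕ, ∃ ε : ZMod 3, (ε = 1 ∨ ε = -1) ∧
      mulVec M (vecOf (ptCodes.getD (orbPt r0 j) 0)) = ε • vecOf (ptCodes.getD (orbPt r0 j) 0) := by
    intro j
    have hv : ptVec (xGP ^ j • r) = vecOf (ptCodes.getD (orbPt r0 j) 0) := by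
      rw [ptVec, pow_smul_val, hr0]
    rw [← hv]
    have him : img o.1 (xGP ^ j • r) = xGP ^ j • r := by
      refine Eq.trans ?_ (hfix j)
      show omegaPerm o (xGP ^ j • r) = _
      rw [ho]; rfl
    rcases (CfsgLib.KnownA.U4ThreeSchur.exists_img o.1 (xGP ^ j • r)).choose_spec with e | e
    · refine ⟨1, Or.inl rfl, ?_⟩
      have : ptVec (img o.1 (xGP ^ j • r)) = mulVec (mat o.1) (ptVec (xGP ^ j • r)) := e
      rw [him] at this
      rw [one_smul, hM, ← this]
    · refine ⟨-1, Or.inr rfl, ?_⟩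
      have : ptVec (img o.1 (xGP ^ j • r)) = -mulVec (mat o.1) (ptVec (xGP ^ j • r)) := e
      rw [him] at this
      rw [neg_one_smul, hM]
      exact (neg_eq_iff_eq_neg.2 this).symm
  choose ε hε hcol using hsign
  have hMV : M * frame r0 = frame r0 * Matrix.diagonal (fun b => ε (ix b)) := by
    refine Matrix.ext fun a b => ?_
    rw [Matrix.mul_diagonal, Matrix.mul_apply]
    have := congrFun (hcol (ix b)) a
    simp only [mulVec, dotProduct, Pi.smul_apply, smul_eq_mul] at this
    rw [mul_comm]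
    exact this
  obtain ⟨c, hc⟩ : ∃ c, c = mulVec (matOf N) (vecOf (ptCodes.getD (orbPt r0 6) 0)) := ⟨_, rfl⟩
  have hv6 : vecOf (ptCodes.getD (orbPt r0 6) 0) = mulVec (frame r0) c := by
    rw [hc, Matrix.mulVec_mulVec, hVN, Matrix.one_mulVec]
  have hconst : ∀ b, ε (ix b) = ε 6 := fun b => by
    have h := hcol 6
    rw [hv6, Matrix.mulVec_mulVec, hMV, ← Matrix.mulVec_mulVec, ← Matrix.mulVec_smul] at h
    have h' := congrArg (mulVec (matOf N)) h
    simp only [Matrix.mulVec_mulVec, ← Matrix.mul_assoc, hNV, Matrix.one_mul, Matrix.one_mulVec] at h'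
    have := congrFun h' b
    rw [Matrix.mulVec_diagonal, Pi.smul_apply, smul_eq_mul] at this
    exact mul_right_cancel₀ (hc ▸ hne b) this
  have hMs : M = ε 6 • (1 : Matrix I6 I6 (ZMod 3)) := by
    calc M = M * (frame r0 * matOf N) := by rw [hVN, mul_one]
      _ = ε 6 • (1 : Matrix I6 I6 (ZMod 3)) := by
        rw [← mul_assoc, hMV, show (fun b => ε (ix b)) = fun _ => ε 6 from funext hconst,
          ← Matrix.smul_one_eq_diagonal, mul_smul_comm, mul_one, Matrix.smul_mul, hVN]
  refine Subtype.ext (Equiv.ext fun j => ?_)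
  rw [← ho]
  show img o.1 j = j
  refine img_eq ?_
  rw [← hM, hMs, Matrix.smul_mulVec, Matrix.one_mulVec]
  rcases hε 6 with e | e <;> simp [e]

/-- No element has order 21. -/
theorem order_ne_21 (g : GP) : orderOf g ≠ 21 := by
  intro hg
  haveI : Fact (Nat.Prime 7) := ⟨by norm_num⟩
  haveI : Fact (Nat.Prime 3) := ⟨Nat.prime_three⟩
  haveI : Finite GP := Subtype.finite
  have hv : orderOf (g ^ 3) = 7 := by rw [orderOf_pow, hg]; rfl
  have hw : orderOf (g ^ 7) = 3 := by rw [orderOf_pow, hg]; rfl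
  have hcard : ∀ x : GP, orderOf x = 7 → ∃ P : Sylow 7 GP, (P : Subgroup GP) = Subgroup.zpowers x := fun x hx =>
    ⟨Sylow.ofCard (Subgroup.zpowers x) (by
      rw [Nat.card_zpowers, hx, card_GP, show (3265920 : ℕ) = 7 ^ 1 * 466560 by norm_num,
        Nat.factorization_mul (by norm_num) (by norm_num)]
      simp only [Finsupp.coe_add, Pi.add_apply, Nat.Prime.factorization_pow (by norm_num : Nat.Prime 7),
        Finsupp.single_eq_same]
      rw [Nat.factorization_eq_zero_of_not_dvd (by norm_num)]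
      rfl), rfl⟩
  obtain ⟨P, hP⟩ := hcard _ hv
  obtain ⟨R, hR⟩ := hcard _ orderOf_xGP
  obtain ⟨y, hy⟩ := MulAction.exists_smul_eq GP P R
  obtain ⟨w, hwdef⟩ : ∃ w, w = y * g ^ 7 * y⁻¹ := ⟨_, rfl⟩
  have hw3 : orderOf w = 3 := by rw [hwdef, orderOf_conj']; exact hw
  have hcomm : Commute w xGP := by
    have hm : xGP ∈ (y • P : Sylow 7 GP).toSubgroup := by
      rw [hy, hR]; exact Subgroup.mem_zpowers _
    obtain ⟨v, hv', e⟩ := hm
    obtain ⟨k, rfl⟩ := Subgroup.mem_zpowers_iff.1 (hP ▸ hv')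
    rw [← e]
    show w * (y * (g ^ 3) ^ k * y⁻¹) = y * (g ^ 3) ^ k * y⁻¹ * w
    rw [hwdef]
    calc y * g ^ 7 * y⁻¹ * (y * (g ^ 3) ^ k * y⁻¹) = y * (g ^ 7 * (g ^ 3) ^ k) * y⁻¹ := by group
      _ = y * ((g ^ 3) ^ k * g ^ 7) * y⁻¹ := by rw [(((Commute.refl g).pow_pow 7 3).zpow_right k).eq]
      _ = y * (g ^ 3) ^ k * y⁻¹ * (y * g ^ 7 * y⁻¹) := by group
  have hp3 : (w : Equiv.Perm (Fin 112)) ^ (3 : ℕ) ^ 1 = 1 := by
    have := congrArg Subtype.val (show w ^ 3 = 1 by rw [← hw3, pow_orderOf_eq_one])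
    simpa using this
  obtain ⟨i, hi⟩ := Equiv.Perm.exists_fixed_point_of_prime (by simp) hp3
  rw [eq_one_of_comm_fix hcomm hi, orderOf_one] at hw3
  norm_num at hw3

end CfsgLib.U43
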