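import Cfsg.Agent.Lib.U43.Pres
import Cfsg.Agent.Lib.U43.ModelSeven
import Cfsg.Agent.Lib.U43.ModelLettersData

/-!
The seven letters in the permutation model of `PSU₄(3)`: the relators hold and they generate.
-/

set_option autoImplicit false
set_option maxRecDepth 100000
set_option Elab.async false

namespace CfsgLib.U43

open CfsgLib.KnownA.PermCert CfsgLib.KnownA.U4ThreeSchur CfsgLib.InvChar.Coset

theorem produced_letters : producedBy gensG opsLetters letterCodes = true := by decide +kernel

theorem produced_back : producedBy letterCodes opsBack gensG = true := by decide +kernel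

/-- The code of a letter; other numbers give the identity. -/
def letterCode (x : ℕ) : ℕ := letterCodes.getD x codeOne

theorem letterCode_mem (x : ℕ) : valid 112 (letterCode x) = true ∧ permOf 112 (letterCode x) ∈ GP := by
  rw [letterCode, List.getD_eq_getElem?_getD]
  cases h : letterCodes[x]? with
  | none => exact mem_facts (by simp [needFacts])
  | some c => exact mem_of_producedBy produced_letters c (List.mem_of_getElem? h)

/-- The letters in the model. -/
noncomputable def mGen (x : ℕ) : GP := ⟨permOf 112 (letterCode x), (letterCode_mem x).2⟩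

theorem coe_wprod (L : List ℕ) :
    ((wprod mGen L : GP) : Equiv.Perm (Fin 112)) = prodW 112 (L.map letterCode) := by
  induction L with
  | nil => rfl
  | cons x L ih =>
    show ((mGen x * wprod mGen L : GP) : Equiv.Perm (Fin 112)) = _
    rw [Subgroup.coe_mul, ih]
    rfl

/-- The check of one relator. -/
def relOK (r : List ℕ) : Bool := eqW 112 (r.map letterCode) [codeOne]

theorem wprod_eq_one {r : List ℕ} (h : relOK r = true) : wprod mGen r = 1 := by
  refine Subtype.ext ?_
  have e := (eqW_iff (n := 112) (L := r.map letterCode) (L' := [codeOne]) (fun c hc => by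
      obtain ⟨x, -, rfl⟩ := List.mem_map.1 hc
      exact (letterCode_mem x).1)
    (by simp [(mem_facts (show codeOne ∈ needFacts by simp [needFacts])).1])).1 h
  rw [prodW_one, permOf_codeOne] at e
  rw [coe_wprod, e]
  rfl

theorem rels_ok : (relsH ++ relsM ++ [relCom]).all relOK = true := by decide +kernel

theorem sq_ok : (List.range 7).all (fun x => relOK [x, x]) = true ∧ relOK [7, 7] = true := by decide +kernel

theorem mGen_rel {r : List ℕ} (hr : r ∈ relsH ++ relsM ++ [relCom]) : wprod mGen r = 1 :=
  wprod_eq_one (List.all_eq_true.1 rels_ok r hr)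

theorem mGen_relH : ∀ r ∈ relsH, wprod mGen r = 1 := fun _ hr => mGen_rel (by simp [hr])

theorem mGen_relM : ∀ r ∈ relsM, wprod mGen r = 1 := fun _ hr => mGen_rel (by simp [hr])

theorem mGen_com : wprod mGen relCom = 1 := mGen_rel (by simp)

theorem mGen_sq (x : ℕ) : mGen x * mGen x = 1 := by
  have h : ∀ k, relOK [k, k] = true → mGen k * mGen k = 1 := fun k hk => by
    simpa [wprod] using wprod_eq_one hk
  by_cases hx : x < 7
  · exact h x (List.all_eq_true.1 sq_ok.1 x (List.mem_range.2 hx))
  · have e : letterCode x = letterCode 7 := by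
      have hlen : letterCodes.length = 7 := by decide +kernel
      simp only [letterCode]
      rw [List.getD_eq_default _ _ (by omega), List.getD_eq_default _ _ (by omega)]
    have e' : mGen x = mGen 7 := Subtype.ext (congrArg (permOf 112) e)
    rw [e']
    exact h 7 sq_ok.2

theorem mGen_zero : mGen 0 = zGP :=
  Subtype.ext (congrArg (permOf 112) (by decide +kernel : letterCode 0 = codeZ))

/-- The letters generate. -/
theorem closure_mGen : Subgroup.closure (mGen '' Set.Iio 7) = ⊤ := by
  have h : GP ≤ (Subgroup.closure (mGen '' Set.Iio 7)).map GP.subtype := by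
    refine genGroup_le fun c hc => ?_
    have := (mem_of_producedBy produced_back c hc).2
    refine (genGroup_le (K := (Subgroup.closure (mGen '' Set.Iio 7)).map GP.subtype) fun d hd => ?_) this
    obtain ⟨x, hx, rfl⟩ := List.getElem_of_mem hd
    have hlen : letterCodes.length = 7 := by decide +kernel
    refine ⟨mGen x, Subgroup.subset_closure ⟨x, by simpa [hlen] using hx, rfl⟩, ?_⟩
    show permOf 112 (letterCode x) = _
    rw [letterCode, List.getD_eq_getElem _ _ hx]
  rw [eq_top_iff]
  intro g _
  obtain ⟨w, hw, e⟩ := h g.2
  rwa [← Subtype.ext e]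

/-- All facts about the model. -/
theorem model_facts : Nat.card GP = 3265920 ∧ IsSimpleGroup GP ∧ (∀ g : GP, orderOf g = 2 → IsConj (mGen 0) g) ∧
    (∀ g : GP, orderOf g ≠ 21) ∧ ∀ g : GP, orderOf g ≠ 35 :=
  ⟨card_GP, isSimple_GP, fun g hg => mGen_zero ▸ isConj_z g hg, order_ne_21, order_ne⟩

end CfsgLib.U43
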