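import Cfsg.Agent.Lib.U43.Recog
import Cfsg.Agent.Lib.U43.Model
import Cfsg.Agent.Lib.KnownA.U4ThreeSchur.Model
import Cfsg.Prelude.Def_Classical

/-!
# The recognition applied to `PSU₄(3)`: order and one class of involutions
-/

set_option autoImplicit false
set_option maxRecDepth 100000
set_option Elab.async false

namespace CfsgLib.U43

open CfsgLib.KnownA.PermCert CfsgLib.KnownA.U4ThreeSchur CfsgLib.InvChar.Coset

theorem relOK_wordC : relOK wordC = true := by decide +kernel

theorem modelFacts : ModelFacts mGen := by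
  obtain ⟨hc, -, hconj, h21, h35⟩ := model_facts
  refine ⟨⟨fun r hr => ?_, wprod_eq_one relOK_wordC, closure_mGen, hc⟩, fun x hx => ?_, h21, h35⟩
  · simp only [relsAll, List.mem_append, List.mem_cons, List.mem_map, List.not_mem_nil, or_false] at hr
    rcases hr with ((hr | hr) | rfl) | rfl | ⟨x, -, rfl⟩
    · exact mGen_relH r hr
    · exact mGen_relM r hr
    · exact mGen_com
    · simp [wprod]
    · simp [wprod, mGen_sq x]
  · exact isConj_iff.1 (hconj x hx)

variable {G : Type*} [Group G] [Finite G] {z : G}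

/-- A group of unitary type with generators satisfying the relators is the model. -/
theorem nonempty_equiv_GP (hz : orderOf z = 2)
    (hcard : Nat.card (Subgroup.centralizer ({z} : Set G)) = 1152)
    (hF : IsPGroup 2 (Cfsg.generalizedFittingSubgroup (Subgroup.centralizer ({z} : Set G))))
    {f : ℕ → G} (h : Rels z f) : Nonempty (G ≃* GP) :=
  have : IsSimpleGroup GP := model_facts.2.1
  nonempty_mulEquiv_of_rels modelFacts h hz hcard hF

/-- It is `PSU₄(3)`. -/
theorem nonempty_equiv_psu (hz : orderOf z = 2)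
    (hcard : Nat.card (Subgroup.centralizer ({z} : Set G)) = 1152)
    (hF : IsPGroup 2 (Cfsg.generalizedFittingSubgroup (Subgroup.centralizer ({z} : Set G))))
    {f : ℕ → G} (h : Rels z f) (K : Type) [Field K] [Fintype K] (hK : Fintype.card K = 9) :
    Nonempty (G ≃* Cfsg.PSU 4 K 3) := by
  obtain ⟨e⟩ := nonempty_equiv_GP hz hcard hF h
  obtain ⟨e'⟩ := exists_equiv hK
  exact ⟨e.trans e'⟩

/-- Its order and its one class of involutions. -/
theorem card_and_involutions (hz : orderOf z = 2)
    (hcard : Nat.card (Subgroup.centralizer ({z} : Set G)) = 1152)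
    (hF : IsPGroup 2 (Cfsg.generalizedFittingSubgroup (Subgroup.centralizer ({z} : Set G))))
    {f : ℕ → G} (h : Rels z f) :
    Nat.card G = 2 ^ 7 * 3 ^ 6 * 5 * 7 ∧ ∀ x y : G, orderOf x = 2 → orderOf y = 2 → IsConj x y := by
  obtain ⟨e⟩ := nonempty_equiv_GP hz hcard hF h
  refine ⟨by rw [Nat.card_congr e.toEquiv, card_GP]; norm_num, fun x y hx hy => ?_⟩
  have key : ∀ g : G, orderOf g = 2 → IsConj (e.symm (mGen 0)) g := fun g hg => by
    have h1 := model_facts.2.2.1 (e g) (by rw [MulEquiv.orderOf_eq]; exact hg)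
    have h2 := e.symm.toMonoidHom.map_isConj h1
    simpa using h2
  exact (key x hx).symm.trans (key y hy)

end CfsgLib.U43

namespace CfsgLib.U43

/-- The generalised Fitting subgroup in the hypotheses of the type is a two-group. -/
theorem isPGroup_of_hyp {H : Type*} [Group H] [Finite H] {K F Q : Subgroup H}
    (hQ : Q = (Cfsg.pCore 2 K).map K.subtype) (hF : F = Q) : IsPGroup 2 F := by
  rw [hF, hQ]
  exact (CfsgLib.Comp.isPGroup_pCore (p := 2) (G := K)).map _

end CfsgLib.U43
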