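import Cfsg.Agent.Lib.U43.HFrameFacts
import Cfsg.Agent.Lib.U43.HTable

/-!
# The six letters of a frame

A `Frame z` gives an `HFrame z`; the numbers of the letters are found by search.
-/

set_option autoImplicit false
set_option maxRecDepth 100000
set_option Elab.async false

namespace CfsgLib.U43

open Subgroup CfsgLib.InvChar.Coset

universe u

/-- The numbers of the letters. -/
noncomputable def letNum (x : ℕ) : ℕ :=
  bif Nat.beq x 1 then 576 else bif Nat.beq x 2 then 864 else bif Nat.beq x 3 then 932 else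
  bif Nat.beq x 4 then 945 else bif Nat.beq x 6 then 590 else 144

/-- The value of a word in the model. -/
noncomputable def evw : List ℕ → ℕ
  | [] => 0
  | x :: L => mul (letNum x) (evw L)

/-- Words giving the elements of `SL(2, 3)` from `X, J, K`. -/
def slWords : List (List ℕ) :=
  [[], [1], [1, 1], [3], [3, 1], [3, 1, 1], [6], [6, 1], [6, 1, 1], [3, 6], [1, 6], [1, 6, 1],
   [3, 3], [3, 3, 1], [3, 3, 1, 1], [3, 3, 3], [1, 6, 3], [1, 6, 3, 1], [3, 3, 6], [3, 1, 6],
   [3, 1, 6, 1], [6, 3], [6, 3, 1], [6, 3, 1, 1]]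

/-- The numbers in `Q`. -/
def qList : List ℕ :=
  [0, 3, 6, 9, 36, 39, 42, 45, 72, 75, 78, 81, 108, 111, 114, 117, 144, 147, 150, 153, 180, 183,
   186, 189, 216, 219, 222, 225, 252, 255, 258, 261]

/-- Expressions of the numbers in `Q` by positions in `qWords`. -/
def qExpr : List (List ℕ) :=
  [[], [1, 2, 4], [1, 3, 4], [3, 2], [0, 4], [2], [3], [0, 3, 2, 4], [0, 2, 3], [3, 4],
   [0, 1, 2, 4], [0], [3, 2, 4], [0, 3], [1, 2], [0, 1, 4], [0, 1], [0, 2, 4], [0, 3, 4], [2, 3],
   [1, 4], [0, 1, 2], [0, 1, 3], [0, 2, 3, 4], [0, 3, 2], [0, 1, 3, 4], [2, 4], [1], [2, 3, 4],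
   [1, 3], [0, 2], [4]]

theorem letNum_cases (x : ℕ) : letNum x ∈ [144, 576, 864, 932, 945, 590] := by
  unfold letNum
  cases Nat.beq x 1 <;> cases Nat.beq x 2 <;> cases Nat.beq x 3 <;> cases Nat.beq x 4 <;>
    cases Nat.beq x 6 <;> simp

theorem letNum_sq_check :
    ([144, 576, 864, 932, 945, 590].all fun n => Nat.blt n 1152 && Nat.beq (mul n n) 0) = true := by
  decide +kernel

theorem rels_check : (relsH.all fun r => Nat.beq (evw r) 0) = true := by decide +kernel

theorem gen_check :
    (Nat.beq (evw [1, 3, 4, 6]) 12 && Nat.beq (evw [1, 2, 3, 2, 1, 2, 3, 4]) 36 &&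
      Nat.beq (evw [1, 2, 1, 3, 2, 4, 3, 2]) 72 && Nat.beq (evw [2, 1]) 288 &&
      Nat.beq (evw [1]) 576) = true := by decide +kernel

theorem slWords_check : allBelow 24 (fun a =>
    ((slWords.getD a []).all fun x => Nat.beq x 1 || Nat.beq x 3 || Nat.beq x 6) &&
      Nat.beq ((slWords.getD a []).foldr mt 0) a) = true := by decide +kernel

theorem inQ_check : allBelow 1152 (fun n => !inQ n || qList.contains n) = true := by decide +kernel

theorem qList_check : allBelow 32 (fun i => inQ (qList.getD i 0) &&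
    ((qExpr.getD i []).all fun j => Nat.blt j 5) &&
    Nat.beq (evw ((qExpr.getD i []).flatMap fun j => qWords.getD j [])) (qList.getD i 0)) = true := by
  decide +kernel

theorem qWords_check : (qWords.all fun w => inQ (evw w)) = true := by decide +kernel

namespace Frame

variable {G : Type u} [Group G] {z : G} (F : Frame z)

/-- The letters. -/
noncomputable def lets (x : ℕ) : G := F.phi (letNum x)

theorem letNum_ok (x : ℕ) : letNum x < 1152 ∧ mul (letNum x) (letNum x) = 0 := by
  have h := List.all_eq_true.1 letNum_sq_check _ (letNum_cases x)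
  rw [Bool.and_eq_true, Nat.blt_eq] at h
  exact ⟨h.1, Nat.eq_of_beq_eq_true h.2⟩

theorem lets_sq (x : ℕ) : F.lets x * F.lets x = 1 := by
  obtain ⟨h1, h2⟩ := letNum_ok x
  rw [lets, (F.phi_mul h1 h1).1, h2, F.phi_zero]

theorem wprod_lets (L : List ℕ) : wprod F.lets L = F.phi (evw L) ∧ evw L < 1152 := by
  induction L with
  | nil => exact ⟨F.phi_zero.symm, by norm_num [evw]⟩
  | cons x L ih =>
    obtain ⟨h1, h2⟩ := F.phi_mul (letNum_ok x).1 ih.2
    refine ⟨?_, h2⟩
    rw [show wprod F.lets (x :: L) = F.lets x * wprod F.lets L from by simp [wprod], ih.1]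
    exact h1

/-- The centraliser has order 1152. -/
theorem card_centralizer (F : Frame z) : Nat.card ↥(centralizer ({z} : Set G)) = 1152 := F.card

theorem wprod_mem (L : List ℕ) (hL : ∀ x ∈ L, x ∈ lettersH) :
    wprod F.lets L ∈ closure (F.lets '' {x | x ∈ lettersH}) := by
  refine list_prod_mem fun y hy => ?_
  obtain ⟨x, hx, rfl⟩ := List.mem_map.1 hy
  exact subset_closure ⟨x, hL x hx, rfl⟩

theorem phi_mem_closure {n : ℕ} (hn : n < 1152) :
    F.phi n ∈ closure (F.lets '' {x | x ∈ lettersH}) := by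
  set C := closure (F.lets '' {x | x ∈ lettersH})
  have h := gen_check
  simp only [Bool.and_eq_true] at h
  obtain ⟨⟨⟨⟨h1, h2⟩, h3⟩, h4⟩, h5⟩ := h
  have m : ∀ {w : List ℕ} {k : ℕ}, (∀ x ∈ w, x ∈ lettersH) → Nat.beq (evw w) k = true →
      F.phi k ∈ C := fun {w k} hw hk => by
    rw [← Nat.eq_of_beq_eq_true hk, ← (F.wprod_lets w).1]
    exact F.wprod_mem w hw
  have mD : F.D ∈ C := F.phi_D ▸ m (by decide) h4
  have mS : F.S ∈ C := F.phi_S ▸ m (by decide) h5
  have base : ∀ a < 24, F.phi (12 * a) = F.e (el a) := fun a ha => by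
    rw [show 12 * a = 288 * 0 + 12 * a + 0 by omega, F.phi_eq ha (by norm_num), F.kk_left, rr_zero,
      mul_one]
  have mg : ∀ x, x = 1 ∨ x = 3 ∨ x = 6 → F.e (el x) ∈ C := by
    rintro x (rfl | rfl | rfl) <;> rw [← base _ (by norm_num)]
    · exact m (by decide) h1
    · exact m (by decide) h2
    · exact m (by decide) h3
  have me : ∀ a < 24, F.e (el a) ∈ C := fun a ha => by
    have h := allBelow_get slWords_check ha
    simp only [Bool.and_eq_true, List.all_eq_true, Bool.or_eq_true] at h
    have hw : ∀ x ∈ slWords.getD a [], x = 1 ∨ x = 3 ∨ x = 6 := fun x hx => by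
      rcases h.1 x hx with (h' | h') | h' <;> simp [Nat.eq_of_beq_eq_true h']
    have : ∀ L : List ℕ, (∀ x ∈ L, x = 1 ∨ x = 3 ∨ x = 6) →
        L.foldr mt 0 < 24 ∧ F.e (el (L.foldr mt 0)) ∈ C := by
      intro L
      induction L with
      | nil => exact fun _ => ⟨by norm_num, by simp [F.e_zero]⟩
      | cons x L ih =>
        intro hL
        obtain ⟨i1, i2⟩ := ih fun y hy => hL y (List.mem_cons_of_mem _ hy)
        have hx := hL x List.mem_cons_self
        have hx24 : x < 24 := by omega
        obtain ⟨e1, e2⟩ := el_mul hx24 i1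
        refine ⟨e2, ?_⟩
        show F.e (el (mt x (L.foldr mt 0))) ∈ C
        rw [← e1, map_mul]
        exact mul_mem (mg x hx) i2
    have := (this _ hw).2
    rwa [Nat.eq_of_beq_eq_true h.2] at this
  rw [phi_def, kk]
  refine mul_mem (mul_mem (me _ (by omega)) (mul_mem (mul_mem mS (me _ (by omega))) mS)) ?_
  unfold rr
  cases Nat.beq (n / 288) 1 <;> cases Nat.beq (n / 288) 2 <;> cases Nat.beq (n / 288) 3 <;>
    simp only [cond_true, cond_false] <;>
    first | exact mD | exact mS | exact mul_mem mD mS | exact one_mem C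

/-- The letters satisfy the interface. -/
theorem hframe : HFrame z F.lets where
  sq := F.lets_sq
  zeq := by
    show F.phi (letNum 0) = z
    exact F.phi_zc
  relH r hr := by
    rw [(F.wprod_lets r).1, Nat.eq_of_beq_eq_true (List.all_eq_true.1 rels_check r hr), F.phi_zero]
  centralizer_le g hg := by
    obtain ⟨n, hn, rfl⟩ := F.cover g (mem_centralizer_singleton_iff.1 hg)
    exact F.phi_mem_closure hn
  card := F.card_centralizer

/-- The subgroup `Q` in numbers. -/
noncomputable def qSet : Set G := {x | ∃ n, inQ n = true ∧ F.phi n = x}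

theorem inQ_lt {n : ℕ} (h : inQ n = true) : n < 288 := by
  simp only [inQ, Bool.and_eq_true, Nat.blt_eq] at h
  exact h.1.1

/-- The subgroup generated by the words is `qSet`. -/
theorem qSub_eq : qSub F.lets = closure F.qSet := by
  refine le_antisymm ((closure_le _).2 ?_) ((closure_le _).2 ?_)
  · rintro x hx
    obtain ⟨w, hw, rfl⟩ := List.mem_map.1 hx
    exact subset_closure ⟨_, List.all_eq_true.1 qWords_check w hw, (F.wprod_lets w).1.symm⟩
  · rintro _ ⟨n, hn, rfl⟩
    have hn' : n ∈ qList := by
      have h := allBelow_get inQ_check (show n < 1152 by have := inQ_lt hn; omega)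
      simpa [hn] using h
    obtain ⟨i, hi, rfl⟩ := List.mem_iff_getElem.1 hn'
    have h := allBelow_get qList_check (show i < 32 from hi)
    simp only [Bool.and_eq_true, List.all_eq_true, Nat.blt_eq] at h
    rw [← List.getD_eq_getElem qList 0 hi, ← Nat.eq_of_beq_eq_true h.2, ← (F.wprod_lets _).1]
    have : ∀ L : List ℕ, (∀ j ∈ L, j < 5) →
        wprod F.lets (L.flatMap fun j => qWords.getD j []) ∈ qSub F.lets := by
      intro L
      induction L with
      | nil => exact fun _ => one_mem _
      | cons j L ih =>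
        intro hL
        rw [List.flatMap_cons, wprod_append]
        refine mul_mem (subset_closure ?_) (ih fun y hy => hL y (List.mem_cons_of_mem _ hy))
        have hj : j < qWords.length := hL j List.mem_cons_self
        rw [List.getD_eq_getElem _ _ hj]
        exact List.mem_map.2 ⟨_, List.getElem_mem hj, rfl⟩
    exact this _ h.1.2

end Frame

end CfsgLib.U43
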