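import Cfsg.Agent.Lib.U43.HDerive
import Cfsg.Agent.Lib.U43.HLetters
import Cfsg.Agent.Lib.Comp.FStar
import Cfsg.Agent.Lib.Comp.Subnormal
import Cfsg.Prelude.Def_Local

/-!
# The centraliser in the hypotheses of unitary type `U₄(3)`

The hypotheses give a `Frame`, so the six letters of `HTable`.
-/

set_option autoImplicit false
set_option maxRecDepth 100000
set_option Elab.async false

namespace CfsgLib.U43

open Subgroup

universe u

/-- The numbers are those of all elements. -/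
noncomputable def elEquiv : Fin 24 ≃ SL23 :=
  Equiv.ofBijective (fun i => el i) ⟨fun i j h => Fin.ext (el_inj i.2 j.2 h), fun x => by
    obtain ⟨a, ha, e⟩ := el_surj x
    exact ⟨⟨a, ha⟩, e⟩⟩

theorem card_sl : Nat.card SL23 = 24 := by rw [← Nat.card_congr elEquiv, Nat.card_fin]

theorem el12_ne : el 12 ≠ 1 := fun e => by
  have := el_inj (show 12 < 24 by norm_num) (show 0 < 24 by norm_num) (e.trans el_zero.symm)
  omega

theorem sl_sq {x : SL23} (h : x * x = 1) : x = 1 ∨ x = el 12 := by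
  obtain ⟨a, ha, rfl⟩ := el_surj x
  rw [(el_mul ha ha).1, ← el_zero] at h
  have h' := el_inj (el_mul ha ha).2 (by norm_num) h
  have := allBelow_get (show allBelow 24 (fun a =>
    !Nat.beq (mt a a) 0 || Nat.beq a 0 || Nat.beq a 12) = true by decide +kernel) ha
  simp [h'] at this
  rcases this with rfl | rfl
  · exact Or.inl el_zero
  · exact Or.inr rfl

theorem three_check : allBelow 24 (fun a => (List.range 24).any fun b => Nat.beq (mt b (mt b b)) 0 &&
    (List.range 24).any fun c => Nat.beq (mt c (mt c c)) 0 &&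
    (List.range 24).any fun d => Nat.beq (mt d (mt d d)) 0 && Nat.beq (mt b (mt c d)) a) = true := by
  decide +kernel

/-- `SL(2, 3)` is generated by its elements of order three. -/
theorem sl_three {P : SL23 → Prop} (h : ∀ x, x * (x * x) = 1 → P x)
    (hm : ∀ x y, P x → P y → P (x * y)) (x : SL23) : P x := by
  obtain ⟨a, ha, rfl⟩ := el_surj x
  have h' := allBelow_get three_check ha
  simp only [List.any_eq_true, Bool.and_eq_true, List.mem_range, Nat.beq_eq] at h'
  obtain ⟨b, hb, eb, c, hc, ec, d, hd, ed, e⟩ := h'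
  have hP : ∀ u, u < 24 → mt u (mt u u) = 0 → P (el u) := fun u hu eu => h _ (by
    rw [(el_mul hu hu).1, (el_mul hu (el_mul hu hu).2).1, eu, el_zero])
  rw [← e, ← (el_mul hb (el_mul hc hd).2).1, ← (el_mul hc hd).1]
  exact hm _ _ (hP b hb eb) (hm _ _ (hP c hc ec) (hP d hd ed))

theorem four_of {a : ℕ} (ha : qa a = true) : a = 0 ∨ a = 12 ∨ (qa a = true ∧ mt a a = 12) := by
  have := allBelow_get (show allBelow 24 (fun a =>
    !qa a || Nat.beq a 0 || Nat.beq a 12 || Nat.beq (mt a a) 12) = true by decide +kernel) (qa_lt ha)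
  simp [ha] at this
  tauto

variable {G : Type u} [Group G]

/-- An element of the two-core other than `1, z` that squares to one can be made `ck 3 3`. -/
theorem Dat.exists_twist {z s : G} (A : Dat z) (hs : A.InQ s) (hss : s * s = 1) (h1 : s ≠ 1)
    (h2 : s ≠ z) :
    ∃ A' : Dat z, A'.ck 3 3 = s ∧ ∀ x, A'.InQ x ↔ A.InQ x := by
  obtain ⟨a, b, ha, hb, rfl⟩ := hs
  have ha' := qa_lt ha
  have hb' := qa_lt hb
  rw [A.ck_mul ha' hb' ha' hb', ← A.ck_zero,
    A.eq_iff (el_mul ha' ha').2 (el_mul hb' hb').2 (by norm_num) (by norm_num)] at hss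
  rw [ne_eq, ← A.ck_zero, A.eq_iff ha' hb' (by norm_num) (by norm_num)] at h1
  replace h2 : ¬ eqK a b 12 0 = true := fun e =>
    h2 (((A.eq_iff ha' hb' (by norm_num) (by norm_num)).2 e).trans A.ck_neg)
  have hc := allBelow_get (allBelow_get (show allBelow 24 (fun a => allBelow 24 fun b =>
    !(qa a && qa b) || !eqK (mt a a) (mt b b) 0 0 || eqK a b 0 0 || eqK a b 12 0 ||
      ((List.range 24).any fun u => Nat.beq (cj u 3) a) &&
      ((List.range 24).any fun v => Nat.beq (cj v 3) b)) = true by decide +kernel) ha') hb'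
  simp only [ha, hb, hss, Bool.eq_false_iff.2 h1, Bool.eq_false_iff.2 h2, Bool.and_self,
    Bool.not_true, Bool.or_self, Bool.false_or, Bool.and_eq_true, List.any_eq_true, List.mem_range,
    Nat.beq_eq] at hc
  obtain ⟨⟨u, hu, eu⟩, v, hv, ev⟩ := hc
  refine ⟨A.twist (el u) (el v), ?_, fun x => A.twist_inQ hu hv x⟩
  show A.i1 (el u * el 3 * (el u)⁻¹) * A.i2 (el v * el 3 * (el v)⁻¹) = _
  rw [(cj_spec hu (by norm_num)).2, (cj_spec hv (by norm_num)).2, eu, ev]
  rfl

variable [Finite G]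

/-- The hypotheses of unitary type give the two factors. -/
theorem exists_dat {z : G} (hz : orderOf z = 2) (H₁ H₂ : Subgroup (centralizer ({z} : Set G)))
    (hK : H₁ ⊔ H₂ = closure {x : centralizer ({z} : Set G) | Odd (orderOf x)})
    (hn₁ : (H₁.subgroupOf (H₁ ⊔ H₂)).Normal) (hn₂ : (H₂.subgroupOf (H₁ ⊔ H₂)).Normal)
    (e₁ : H₁ ≃* Matrix.SpecialLinearGroup (Fin 2) (ZMod 3))
    (e₂ : H₂ ≃* Matrix.SpecialLinearGroup (Fin 2) (ZMod 3))
    (hmeet : (H₁ ⊓ H₂).map (Subgroup.subtype (centralizer ({z} : Set G))) = zpowers z)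
    (Q : Subgroup (centralizer ({z} : Set G)))
    (hQ : Q = (Cfsg.pCore 2 ↥(H₁ ⊔ H₂)).map (Subgroup.subtype (H₁ ⊔ H₂)))
    (hF : Cfsg.generalizedFittingSubgroup (centralizer ({z} : Set G)) = Q)
    (hH : Nat.card ↥(centralizer ({z} : Set G)) = 2 ^ 7 * 3 ^ 2) :
    ∃ A : Dat z, ∀ x, A.InQ x ↔ x ∈ Q.map (centralizer ({z} : Set G)).subtype := by
  have hz1 : z ≠ 1 := fun e => by rw [e, orderOf_one] at hz; omega
  have hzz : z * z = 1 := by rw [← pow_two, ← hz, pow_orderOf_eq_one]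
  obtain ⟨zc, hzc, hzcz⟩ : z ∈ (H₁ ⊓ H₂).map (centralizer ({z} : Set G)).subtype := by rw [hmeet]; exact mem_zpowers z
  change (zc : G) = z at hzcz
  have hzc_sq : zc * zc = 1 := Subtype.ext (by show (zc : G) * zc = 1; rw [hzcz, hzz])
  have hzc1 : zc ≠ 1 := fun e => hz1 (by rw [← hzcz, e]; rfl)
  have hinf : ∀ h, h ∈ H₁ ⊓ H₂ → h = 1 ∨ h = zc := fun h hh => by
    have hm : (h : G) ∈ zpowers z := by rw [← hmeet]; exact ⟨h, hh, rfl⟩
    obtain ⟨n, hn⟩ := mem_zpowers_iff.1 hm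
    rcases Int.even_or_odd n with ⟨k, rfl⟩ | ⟨k, rfl⟩
    · left
      refine Subtype.ext ?_
      rw [← hn, ← two_mul, zpow_mul, zpow_two, hzz, one_zpow]
      rfl
    · right
      refine Subtype.ext ?_
      rw [← hn, zpow_add, zpow_mul, zpow_two, hzz, one_zpow, one_mul, zpow_one, hzcz]
  have hzcen : ∀ h : (centralizer ({z} : Set G)), h * zc = zc * h := fun h =>
    Subtype.ext (by show (h : G) * zc = zc * h; rw [hzcz]; exact mem_centralizer_singleton_iff.1 h.2)
  let f1 : SL23 →* (centralizer ({z} : Set G)) := H₁.subtype.comp e₁.symm.toMonoidHom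
  let f2 : SL23 →* (centralizer ({z} : Set G)) := H₂.subtype.comp e₂.symm.toMonoidHom
  have hf1 : Function.Injective f1 := H₁.subtype_injective.comp e₁.symm.injective
  have hf2 : Function.Injective f2 := H₂.subtype_injective.comp e₂.symm.injective
  have hr1 : f1.range = H₁ := by
    refine le_antisymm ?_ fun h hh => ⟨e₁ ⟨h, hh⟩, by simp [f1]⟩
    rintro _ ⟨x, rfl⟩
    exact (e₁.symm x).2
  have hr2 : f2.range = H₂ := by
    refine le_antisymm ?_ fun h hh => ⟨e₂ ⟨h, hh⟩, by simp [f2]⟩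
    rintro _ ⟨x, rfl⟩
    exact (e₂.symm x).2
  have m1 : ∀ x, f1 x ∈ H₁ := fun x => (e₁.symm x).2
  have m2 : ∀ x, f2 x ∈ H₂ := fun x => (e₂.symm x).2
  have hneg : ∀ (f : SL23 →* (centralizer ({z} : Set G))), Function.Injective f → zc ∈ f.range → f (el 12) = zc := by
    rintro f hf ⟨x, hx⟩
    rcases sl_sq (hf (by rw [map_mul, hx, map_one, hzc_sq])) with rfl | rfl
    · exact absurd (by rw [← hx, map_one]) hzc1
    · exact hx
  have hn1 : f1 (el 12) = zc := hneg f1 hf1 (hr1.symm ▸ hzc.1)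
  have hn2 : f2 (el 12) = zc := hneg f2 hf2 (hr2.symm ▸ hzc.2)
  have hcomm : ∀ x y, Commute (f1 x) (f2 y) := by
    intro x
    refine sl_three (P := fun y => Commute (f1 x) (f2 y)) (fun y hy => ?_)
      fun u v hu hv => by rw [map_mul]; exact hu.mul_right hv
    have hx2 : f1 x ∈ H₁ ⊔ H₂ := mem_sup_left (m1 x)
    have hy2 : f2 y ∈ H₁ ⊔ H₂ := mem_sup_right (m2 y)
    have hc : f1 x * f2 y * (f1 x)⁻¹ * (f2 y)⁻¹ ∈ H₁ ⊓ H₂ := by
      refine ⟨?_, ?_⟩
      · have := hn₁.conj_mem ⟨(f1 x)⁻¹, inv_mem hx2⟩ (mem_subgroupOf.2 (inv_mem (m1 x))) ⟨f2 y, hy2⟩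
        rw [mem_subgroupOf] at this
        show f1 x * f2 y * (f1 x)⁻¹ * (f2 y)⁻¹ ∈ H₁
        have e : f1 x * f2 y * (f1 x)⁻¹ * (f2 y)⁻¹ = f1 x * (f2 y * (f1 x)⁻¹ * (f2 y)⁻¹) := by
          simp [mul_assoc]
        rw [e]
        exact mul_mem (m1 x) this
      · have := hn₂.conj_mem ⟨f2 y, hy2⟩ (mem_subgroupOf.2 (m2 y)) ⟨f1 x, hx2⟩
        rw [mem_subgroupOf] at this
        exact H₂.mul_mem this (H₂.inv_mem (m2 y))
    rcases hinf _ hc with e | e
    · rw [mul_inv_eq_one, mul_inv_eq_iff_eq_mul] at e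
      exact e
    · exfalso
      have h3 : f2 y * (f2 y * f2 y) = 1 := by rw [← map_mul, ← map_mul, hy, map_one]
      have e1 : f1 x * f2 y * (f1 x)⁻¹ = zc * f2 y := by rw [← e, inv_mul_cancel_right]
      have e2 : f1 x * (f2 y * (f2 y * f2 y)) * (f1 x)⁻¹ =
          (zc * f2 y) * ((zc * f2 y) * (zc * f2 y)) := by
        rw [← e1]; simp [mul_assoc]
      rw [h3, mul_one, mul_inv_cancel] at e2
      refine hzc1 ?_
      calc zc = zc * (zc * zc) * (f2 y * (f2 y * f2 y)) := by rw [h3, hzc_sq, mul_one, mul_one]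
        _ = (zc * f2 y) * ((zc * f2 y) * (zc * f2 y)) := by
          have hzy : Commute (f2 y) zc := hzcen (f2 y)
          rw [hzy.mul_mul_mul_comm zc (f2 y), (hzy.mul_right hzy).mul_mul_mul_comm zc (f2 y * f2 y)]
        _ = 1 := e2.symm
  let Φ : SL23 × SL23 →* (centralizer ({z} : Set G)) := f1.noncommCoprod f2 hcomm
  have hΦ : ∀ x y, Φ (x, y) = f1 x * f2 y := fun x y => rfl
  have hrange : Φ.range = H₁ ⊔ H₂ := by
    rw [MonoidHom.noncommCoprod_range, hr1, hr2]
  have hsep : ∀ x y, f1 x = f2 y → x = el 0 ∨ x = el 12 := fun x y h => by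
    rcases hinf _ ⟨m1 x, h ▸ m2 y⟩ with e | e
    · exact Or.inl (hf1 (by rw [e, el_zero, map_one]))
    · exact Or.inr (hf1 (e.trans hn1.symm))
  have hker : Nat.card Φ.ker = 2 := by
    rw [Nat.card_eq_two_iff]
    have hmem : ∀ p ∈ ({(el 0, el 0), (el 12, el 12)} : Set (SL23 × SL23)), p ∈ Φ.ker := by
      rintro p (rfl | rfl)
      · simp [MonoidHom.mem_ker, hΦ, el_zero]
      · simp [MonoidHom.mem_ker, hΦ, hn1, hn2, hzc_sq]
    refine ⟨⟨_, hmem (el 0, el 0) (Or.inl rfl)⟩, ⟨_, hmem (el 12, el 12) (Or.inr rfl)⟩, ?_, ?_⟩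
    · intro e
      exact el12_ne ((congrArg (fun q : Φ.ker => (q : SL23 × SL23).1) e).symm.trans el_zero)
    · refine Set.eq_univ_of_forall fun q => ?_
      obtain ⟨⟨x, y⟩, hq⟩ := q
      rw [MonoidHom.mem_ker, hΦ] at hq
      have h1 : f1 x = f2 y⁻¹ := by rw [map_inv]; exact eq_inv_of_mul_eq_one_left hq
      rcases hsep _ _ h1 with rfl | rfl
      · left
        have : f2 y = 1 := by rwa [el_zero, map_one, one_mul] at hq
        exact Subtype.ext (Prod.ext rfl ((hf2 (this.trans (map_one f2).symm)).trans el_zero.symm))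
      · right
        have : f2 y = zc := by
          rw [hn1] at hq
          exact (eq_inv_of_mul_eq_one_right hq).trans (inv_eq_of_mul_eq_one_right hzc_sq)
        exact Subtype.ext (Prod.ext rfl (hf2 (this.trans hn2.symm)))
  have hKcard : Nat.card ↥(H₁ ⊔ H₂) = 288 := by
    have h1 := Subgroup.card_eq_card_quotient_mul_card_subgroup Φ.ker
    rw [Nat.card_prod, card_sl, hker, Nat.card_congr (QuotientGroup.quotientKerEquivRange Φ).toEquiv,
      hrange] at h1
    omega
  haveI hKn : (H₁ ⊔ H₂).Normal := by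
    rw [hK]
    refine ⟨fun n hn g => ?_⟩
    induction hn using Subgroup.closure_induction with
    | mem x hx =>
      refine subset_closure ?_
      show Odd (orderOf (g * x * g⁻¹))
      rw [show g * x * g⁻¹ = MulAut.conj g x from rfl, MulEquiv.orderOf_eq]
      exact hx
    | one => simp
    | mul x y _ _ hx hy => rw [← conj_mul]; exact mul_mem hx hy
    | inv x _ hx => rw [← conj_inv]; exact inv_mem hx
  have hquot : ∀ a b : (centralizer ({z} : Set G)), a * b * a⁻¹ * b⁻¹ ∈ H₁ ⊔ H₂ := by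
    intro a b
    haveI : Fact (Nat.Prime 2) := ⟨Nat.prime_two⟩
    have hc : Nat.card ((centralizer ({z} : Set G)) ⧸ (H₁ ⊔ H₂)) = 2 ^ 2 := by
      have h1 := Subgroup.card_eq_card_quotient_mul_card_subgroup (H₁ ⊔ H₂)
      rw [hH, hKcard] at h1
      omega
    rw [← QuotientGroup.eq_one_iff]
    simp only [QuotientGroup.mk_mul, QuotientGroup.mk_inv]
    rw [(IsPGroup.isMulCommutative_of_card_eq_prime_sq hc).is_comm.comm (a : (centralizer ({z} : Set G)) ⧸ (H₁ ⊔ H₂)),
      mul_inv_cancel_right, mul_inv_cancel]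
  have hmemK : ∀ h : (centralizer ({z} : Set G)), h ∈ H₁ ⊔ H₂ → ∃ a b, a < 24 ∧ b < 24 ∧ f1 (el a) * f2 (el b) = h := by
    intro h hh
    rw [← hrange] at hh
    obtain ⟨⟨x, y⟩, rfl⟩ := hh
    obtain ⟨a, ha, rfl⟩ := el_surj x
    obtain ⟨b, hb, rfl⟩ := el_surj y
    exact ⟨a, b, ha, hb, rfl⟩
  have hinK : ∀ x y, f1 x * f2 y ∈ H₁ ⊔ H₂ := fun x y =>
    mul_mem (mem_sup_left (m1 x)) (mem_sup_right (m2 y))
  -- the structure with everything but the self-centralisation
  have hnK : ∀ h : G, h * z = z * h → ∀ x y,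
      ∃ x' y', h * ((f1 x : G) * f2 y) * h⁻¹ = (f1 x' : G) * f2 y' := by
    intro h hh x y
    obtain ⟨a, b, -, -, e⟩ := hmemK _ (hKn.conj_mem _ (hinK x y) ⟨h, mem_centralizer_singleton_iff.2 hh⟩)
    exact ⟨el a, el b, (congrArg Subtype.val e).symm⟩
  have hcK : ∀ a b : G, a * z = z * a → b * z = z * b →
      ∃ x y, a * b * a⁻¹ * b⁻¹ = (f1 x : G) * f2 y := by
    intro a b ha hb
    obtain ⟨p, q, -, -, e⟩ := hmemK _ (hquot ⟨a, mem_centralizer_singleton_iff.2 ha⟩
      ⟨b, mem_centralizer_singleton_iff.2 hb⟩)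
    exact ⟨el p, el q, (congrArg Subtype.val e).symm⟩
  -- the numbered two-core as a subgroup
  let N : Subgroup (centralizer ({z} : Set G)) :=
    { carrier := {h | ∃ a b, qa a = true ∧ qa b = true ∧ f1 (el a) * f2 (el b) = h}
      one_mem' := ⟨0, 0, by decide +kernel, by decide +kernel, by rw [el_zero, map_one, map_one, one_mul]⟩
      mul_mem' := by
        rintro _ _ ⟨a, b, ha, hb, rfl⟩ ⟨c, d, hc, hd, rfl⟩
        refine ⟨mt a c, mt b d, qa_mul ha hc, qa_mul hb hd, ?_⟩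
        rw [← (el_mul (qa_lt ha) (qa_lt hc)).1, ← (el_mul (qa_lt hb) (qa_lt hd)).1, map_mul, map_mul,
          (hcomm (el c) (el b)).mul_mul_mul_comm]
      inv_mem' := by
        rintro _ ⟨a, b, ha, hb, rfl⟩
        refine ⟨iv a, iv b, (iv_spec (qa_lt ha)).2.2.2.2.2 ha, (iv_spec (qa_lt hb)).2.2.2.2.2 hb, ?_⟩
        rw [el_iv (qa_lt ha), el_iv (qa_lt hb), map_inv, map_inv, mul_inv_rev,
          ((hcomm (el a) (el b)).inv_inv).eq] }
  have hpow12 : ∀ a b, a < 24 → b < 24 → (f1 (el a) * f2 (el b)) ^ 12 = 1 := by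
    intro a b ha hb
    have h12 : ∀ a, a < 24 → el a ^ 12 = 1 := fun a ha => by
      have hp : ∀ n, el a ^ n = el ((mt a)^[n] 0) ∧ (mt a)^[n] 0 < 24 := by
        intro n
        induction n with
        | zero => exact ⟨by rw [pow_zero]; exact el_zero.symm, (by norm_num : (0:ℕ) < 24)⟩
        | succ n ih =>
          rw [Function.iterate_succ_apply', pow_succ', ih.1]
          exact el_mul ha ih.2
      rw [(hp 12).1]
      have := allBelow_get (show allBelow 24 (fun a => Nat.beq ((mt a)^[12] 0) 0) = true by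
        decide +kernel) ha
      rw [Nat.eq_of_beq_eq_true this, el_zero]
    rw [(hcomm _ _).mul_pow, ← map_pow, ← map_pow, h12 a ha, h12 b hb, map_one, map_one, one_mul]
  have hNK : N ≤ H₁ ⊔ H₂ := by
    rintro _ ⟨a, b, -, -, rfl⟩
    exact hinK _ _
  have hz12 : ∀ h : (centralizer ({z} : Set G)), h = zc → (h : G) = z := fun h e => e ▸ hzcz
  -- membership by fourth powers
  have hfour : ∀ h : (centralizer ({z} : Set G)), h ∈ H₁ ⊔ H₂ → (h ∈ N ↔ h ^ 4 = 1) := by
    intro h hh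
    obtain ⟨a, b, ha, hb, rfl⟩ := hmemK h hh
    have e4 : (f1 (el a) * f2 (el b)) ^ 4 =
        f1 (el (mt (mt a a) (mt a a))) * f2 (el (mt (mt b b) (mt b b))) := by
      rw [(hcomm _ _).mul_pow, ← map_pow, ← map_pow,
        show (4 : ℕ) = 2 + 2 by rfl, pow_add, pow_add, pow_two, pow_two, (el_mul ha ha).1,
        (el_mul (el_mul ha ha).2 (el_mul ha ha).2).1, (el_mul hb hb).1,
        (el_mul (el_mul hb hb).2 (el_mul hb hb).2).1]
    have la := (el_mul (el_mul ha ha).2 (el_mul ha ha).2).2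
    have lb := (el_mul (el_mul hb hb).2 (el_mul hb hb).2).2
    have hone : f1 (el (mt (mt a a) (mt a a))) * f2 (el (mt (mt b b) (mt b b))) = 1 ↔
        eqK (mt (mt a a) (mt a a)) (mt (mt b b) (mt b b)) 0 0 = true := by
      rw [eqK_iff]
      constructor
      · intro e
        have h1 : f1 (el (mt (mt a a) (mt a a))) = f2 (el (mt (mt b b) (mt b b)))⁻¹ := by
          rw [map_inv]; exact eq_inv_of_mul_eq_one_left e
        rcases hsep _ _ h1 with e0 | e0
        · rw [e0, el_zero, map_one, one_mul] at e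
          exact Or.inl ⟨el_inj la (by norm_num) e0,
            el_inj lb (by norm_num) (hf2 (by rw [e, el_zero, map_one]))⟩
        · rw [e0, hn1] at e
          have e' := (eq_inv_of_mul_eq_one_right e).trans (inv_eq_of_mul_eq_one_right hzc_sq)
          rw [el_inj la (by norm_num) e0, el_inj lb (by norm_num) (hf2 (e'.trans hn2.symm))]
          exact Or.inr ⟨by decide +kernel, by decide +kernel⟩
      · rintro (⟨e1, e2⟩ | ⟨e1, e2⟩)
        · rw [e1, e2, el_zero, map_one, map_one, one_mul]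
        · have inv12 : ∀ {u}, u < 24 → mt 12 u = 0 → u = 12 := fun {u} hu e => by
            have := allBelow_get (show allBelow 24 (fun u => !Nat.beq (mt 12 u) 0 || Nat.beq u 12) = true
              by decide +kernel) hu
            simpa [e] using this
          rw [inv12 la e1, inv12 lb e2, hn1, hn2, hzc_sq]
    constructor
    · rintro ⟨c, d, hc, hd, e⟩
      have e' : (f1 (el c) * f2 (el d)) ^ 4 = 1 := by
        rw [(hcomm _ _).mul_pow, ← map_pow, ← map_pow]
        have h4 : ∀ u, qa u = true → el u ^ 4 = 1 := fun u hu => by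
          have hu' := qa_lt hu
          rw [show (4 : ℕ) = 2 + 2 by rfl, pow_add, pow_two, (el_mul hu' hu').1,
            (el_mul (el_mul hu' hu').2 (el_mul hu' hu').2).1]
          have := allBelow_get (show allBelow 24 (fun u => !qa u || Nat.beq (mt (mt u u) (mt u u)) 0)
            = true by decide +kernel) hu'
          simp [hu] at this
          rw [this, el_zero]
        rw [h4 c hc, h4 d hd, map_one, map_one, one_mul]
      rw [← e, e']
    · intro e
      rw [e4, hone] at e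
      have := allBelow_get (allBelow_get Dat.four_check ha) hb
      simp [e] at this
      exact ⟨a, b, this.1, this.2, rfl⟩
  have hQN : Q = N := by
    subst hQ
    refine le_antisymm ?_ ?_
    · rintro _ ⟨x, hx, rfl⟩
      obtain ⟨k, hk⟩ := (CfsgLib.Comp.isPGroup_pCore (p := 2) (G := ↥(H₁ ⊔ H₂))) ⟨x, hx⟩
      have hk' : (x : (centralizer ({z} : Set G))) ^ 2 ^ k = 1 :=
        congrArg (fun y : Cfsg.pCore 2 ↥(H₁ ⊔ H₂) => ((y : ↥(H₁ ⊔ H₂)) : (centralizer ({z} : Set G)))) hk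
      refine (hfour _ x.2).2 ?_
      obtain ⟨a, b, ha, hb, e⟩ := hmemK _ x.2
      have h12 : (x : (centralizer ({z} : Set G))) ^ 12 = 1 := e ▸ hpow12 a b ha hb
      rw [← orderOf_dvd_iff_pow_eq_one]
      refine Nat.Coprime.dvd_of_dvd_mul_right ?_ (show orderOf (x : (centralizer ({z} : Set G))) ∣ 4 * 3 from orderOf_dvd_of_pow_eq_one h12)
      exact Nat.Coprime.coprime_dvd_left (orderOf_dvd_of_pow_eq_one hk')
        (Nat.Coprime.pow_left k (by norm_num))
    · intro h hh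
      refine ⟨⟨h, hNK hh⟩, ?_, rfl⟩
      refine (le_sSup ?_ : N.subgroupOf (H₁ ⊔ H₂) ≤ Cfsg.pCore 2 ↥(H₁ ⊔ H₂)) (mem_subgroupOf.2 hh)
      refine ⟨⟨fun n hn g => ?_⟩, fun y => ⟨2, ?_⟩⟩
      · rw [mem_subgroupOf] at hn ⊢
        have hm : ((g * n * g⁻¹ : ↥(H₁ ⊔ H₂)) : (centralizer ({z} : Set G))) ∈ H₁ ⊔ H₂ := (g * n * g⁻¹).2
        rw [hfour _ hm]
        push_cast
        rw [conj_pow, (hfour _ n.2).1 hn, mul_one, mul_inv_cancel]
      · refine Subtype.ext (Subtype.ext ?_)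
        push_cast
        exact (hfour _ y.1.2).1 (mem_subgroupOf.1 y.2)
  let i1 : SL23 →* G := (centralizer ({z} : Set G)).subtype.comp f1
  let i2 : SL23 →* G := (centralizer ({z} : Set G)).subtype.comp f2
  have hmemQ : ∀ x, (∃ a b, qa a = true ∧ qa b = true ∧ x = i1 (el a) * i2 (el b)) ↔
      x ∈ Q.map (centralizer ({z} : Set G)).subtype := by
    intro x
    rw [hQN]
    constructor
    · rintro ⟨a, b, ha, hb, rfl⟩
      exact ⟨_, ⟨a, b, ha, hb, rfl⟩, rfl⟩
    · rintro ⟨_, ⟨a, b, ha, hb, rfl⟩, rfl⟩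
      exact ⟨a, b, ha, hb, rfl⟩
  refine ⟨{ i1 := i1, i2 := i2, inj1 := (centralizer ({z} : Set G)).subtype_injective.comp hf1,
            inj2 := (centralizer ({z} : Set G)).subtype_injective.comp hf2,
            neg1 := hz12 _ hn1, neg2 := hz12 _ hn2,
            comm := fun x y => congrArg Subtype.val (hcomm x y).eq,
            sep := fun x y h => hsep x y ((centralizer ({z} : Set G)).subtype_injective h),
            card := by rw [hH]; norm_num,
            normK := hnK, commK := hcK, centQ := ?_ }, hmemQ⟩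
  intro h hh hc
  set hC : (centralizer ({z} : Set G)) := ⟨h, mem_centralizer_singleton_iff.2 hh⟩
  have hmem : hC ∈ Cfsg.generalizedFittingSubgroup (centralizer ({z} : Set G)) := by
    refine CfsgLib.Comp.centralizer_generalizedFitting_le (centralizer ({z} : Set G)) (mem_centralizer_iff.2 ?_)
    intro y hy
    rw [hF, hQN] at hy
    obtain ⟨a, b, ha, hb, rfl⟩ := hy
    exact Subtype.ext (hc a b ha hb).symm
  rw [hF, hQN] at hmem
  obtain ⟨a, b, ha, hb, e⟩ := hmem
  have q0 : qa 0 = true := by decide +kernel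
  have hinner : ∀ v, qa v = true → mt a v = mt v a ∧ mt b v = mt v b := by
    intro v hv
    have hv' := qa_lt hv
    constructor
    · have h1 : hC * (f1 (el v) * f2 (el 0)) = f1 (el v) * f2 (el 0) * hC :=
        Subtype.ext (hc v 0 hv q0)
      rw [← e, el_zero, map_one, mul_one, mul_assoc, ← (hcomm (el v) (el b)).eq, ← mul_assoc,
        ← mul_assoc] at h1
      have h2 := mul_right_cancel h1
      rw [← map_mul, ← map_mul, (el_mul (qa_lt ha) hv').1, (el_mul hv' (qa_lt ha)).1] at h2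
      exact el_inj (el_mul (qa_lt ha) hv').2 (el_mul hv' (qa_lt ha)).2 (hf1 h2)
    · have h1 : hC * (f1 (el 0) * f2 (el v)) = f1 (el 0) * f2 (el v) * hC :=
        Subtype.ext (hc 0 v q0 hv)
      rw [← e, el_zero, map_one, one_mul, ← mul_assoc (f2 (el v)), ← (hcomm (el a) (el v)).eq,
        mul_assoc, mul_assoc] at h1
      have h2 := mul_left_cancel h1
      rw [← map_mul, ← map_mul, (el_mul (qa_lt hb) hv').1, (el_mul hv' (qa_lt hb)).1] at h2
      exact el_inj (el_mul (qa_lt hb) hv').2 (el_mul hv' (qa_lt hb)).2 (hf2 h2)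
  have hcen : ∀ u, u < 24 → mt u 3 = mt 3 u → mt u 6 = mt 6 u → u = 0 ∨ u = 12 := fun u hu e1 e2 => by
    have := allBelow_get (show allBelow 24 (fun u => !(Nat.beq (mt u 3) (mt 3 u) &&
      Nat.beq (mt u 6) (mt 6 u)) || Nat.beq u 0 || Nat.beq u 12) = true by decide +kernel) hu
    simpa [e1, e2] using this
  have e' : h = (f1 (el a) : G) * f2 (el b) := (congrArg Subtype.val e).symm
  obtain ⟨a3, b3⟩ := hinner 3 (by decide +kernel)
  obtain ⟨a6, b6⟩ := hinner 6 (by decide +kernel)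
  rcases hcen a (qa_lt ha) a3 a6 with rfl | rfl <;> rcases hcen b (qa_lt hb) b3 b6 with rfl | rfl
  · left; rw [e', el_zero, map_one, map_one]; exact one_mul 1
  · right; rw [e', hz12 _ hn2, el_zero, map_one]; exact one_mul z
  · right; rw [e', hz12 _ hn1, el_zero, map_one]; exact mul_one z
  · left; rw [e', hz12 _ hn1, hz12 _ hn2, hzz]

/-- **The centraliser in a group of unitary type `U₄(3)`.** -/
theorem exists_frame_of_hyp {z : G} (hz : orderOf z = 2) (H₁ H₂ : Subgroup (centralizer ({z} : Set G)))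
    (hK : H₁ ⊔ H₂ = closure {x : centralizer ({z} : Set G) | Odd (orderOf x)})
    (hn₁ : (H₁.subgroupOf (H₁ ⊔ H₂)).Normal) (hn₂ : (H₂.subgroupOf (H₁ ⊔ H₂)).Normal)
    (e₁ : H₁ ≃* Matrix.SpecialLinearGroup (Fin 2) (ZMod 3))
    (e₂ : H₂ ≃* Matrix.SpecialLinearGroup (Fin 2) (ZMod 3))
    (hmeet : (H₁ ⊓ H₂).map (Subgroup.subtype (centralizer ({z} : Set G))) = zpowers z)
    (Q : Subgroup (centralizer ({z} : Set G)))
    (hQ : Q = (Cfsg.pCore 2 ↥(H₁ ⊔ H₂)).map (Subgroup.subtype (H₁ ⊔ H₂)))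
    (hF : Cfsg.generalizedFittingSubgroup (centralizer ({z} : Set G)) = Q)
    (hnwc : ∃ g : G, (∃ hq : g * z * g⁻¹ ∈ centralizer ({z} : Set G),
      (⟨g * z * g⁻¹, hq⟩ : centralizer ({z} : Set G)) ∈ Q) ∧ g * z * g⁻¹ ≠ z)
    (hH : Nat.card ↥(centralizer ({z} : Set G)) = 2 ^ 7 * 3 ^ 2)
    (hQQg : ∀ g : G, g * z * g⁻¹ ∈ Q.map (Subgroup.subtype (centralizer ({z} : Set G))) →
      g * z * g⁻¹ ≠ z → Nat.card ↥((Q.map (Subgroup.subtype (centralizer ({z} : Set G)))) ⊓
        (Q.map (Subgroup.subtype (centralizer ({z} : Set G)))).map (MulAut.conj g).toMonoidHom) = 4) :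
    ∃ F : Frame z, closure F.qSet = Q.map (centralizer ({z} : Set G)).subtype := by
  obtain ⟨A0, hA0⟩ := exists_dat hz H₁ H₂ hK hn₁ hn₂ e₁ e₂ hmeet Q hQ hF hH
  obtain ⟨g, ⟨hgC, hgQ'⟩, hne⟩ := hnwc
  set QQ := Q.map (centralizer ({z} : Set G)).subtype
  set t := g * z * g⁻¹ with ht
  have htQ : t ∈ QQ := ⟨_, hgQ', rfl⟩
  have hz1 : z ≠ 1 := fun e => by rw [e, orderOf_one] at hz; omega
  have ht1 : t ≠ 1 := fun e => hz1 (by
    have := congrArg (fun u => g⁻¹ * u * g) e
    simpa [ht, mul_assoc] using this)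
  have htt : t * t = 1 := by rw [ht, conj_mul, A0.z_sq, mul_one, mul_inv_cancel]
  obtain ⟨A, hAt, hAQ'⟩ := A0.exists_twist ((hA0 t).2 htQ) htt ht1 hne
  have hAQ : ∀ x, A.InQ x ↔ x ∈ QQ := fun x => (hAQ' x).trans (hA0 x)
  have hzt : z * t = t * z := by rw [← hAt]; exact (A.ck_central 3 3).symm
  -- `z` lies in the two-core of `t`
  set B0 := A.move g
  have hq : A.ck 3 0 * t = t * A.ck 3 0 := by
    rw [← hAt, A.ck_mul (by norm_num) (by norm_num) (by norm_num) (by norm_num),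
      A.ck_mul (by norm_num) (by norm_num) (by norm_num) (by norm_num),
      A.eq_iff (el_mul (by norm_num) (by norm_num)).2 (el_mul (by norm_num) (by norm_num)).2
        (el_mul (by norm_num) (by norm_num)).2 (el_mul (by norm_num) (by norm_num)).2]
    decide +kernel
  have hu : A.ck 6 6 * t = t * A.ck 6 6 := by
    rw [← hAt, A.ck_mul (by norm_num) (by norm_num) (by norm_num) (by norm_num),
      A.ck_mul (by norm_num) (by norm_num) (by norm_num) (by norm_num),
      A.eq_iff (el_mul (by norm_num) (by norm_num)).2 (el_mul (by norm_num) (by norm_num)).2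
        (el_mul (by norm_num) (by norm_num)).2 (el_mul (by norm_num) (by norm_num)).2]
    decide +kernel
  have hcz : A.ck 3 0 * A.ck 6 6 * (A.ck 3 0)⁻¹ * (A.ck 6 6)⁻¹ = z := by
    rw [A.ck_conj (by norm_num) (by norm_num) (by norm_num) (by norm_num),
      A.ck_inv (by norm_num) (by norm_num),
      A.ck_mul (cj_spec (by norm_num) (by norm_num)).1 (cj_spec (by norm_num) (by norm_num)).1
        (iv_spec (by norm_num)).1 (iv_spec (by norm_num)).1]
    refine Eq.trans ?_ A.ck_neg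
    rw [A.eq_iff (el_mul (cj_spec (by norm_num) (by norm_num)).1 (iv_spec (by norm_num)).1).2
      (el_mul (cj_spec (by norm_num) (by norm_num)).1 (iv_spec (by norm_num)).1).2 (by norm_num)
      (by norm_num)]
    decide +kernel
  have hzB : B0.InQ z := by
    have := B0.inQ_comm hq hu (by rw [hcz, A.z_sq, one_mul])
    rwa [hcz] at this
  obtain ⟨B, hBz, hBQ'⟩ := B0.exists_twist hzB A.z_sq hz1 (fun e => hne e.symm)
  have hBQ : ∀ x, B.InQ x ↔ A.InQ (g⁻¹ * x * g) := fun x => (hBQ' x).trans (A.move_inQ g x)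
  have hI := hQQg g htQ hne
  set I := QQ ⊓ QQ.map (MulAut.conj g).toMonoidHom
  have hImem : ∀ x, x ∈ I ↔ A.InQ x ∧ B.InQ x := by
    intro x
    rw [mem_inf, ← hAQ x, hBQ x, hAQ (g⁻¹ * x * g)]
    refine and_congr_right fun _ => ?_
    constructor
    · rintro ⟨y, hy, rfl⟩
      simpa [mul_assoc] using hy
    · intro h
      exact ⟨_, h, by simp [mul_assoc]⟩
  have hzA : A.InQ z := ⟨12, 0, by decide +kernel, by decide +kernel, A.ck_neg.symm⟩
  have htA : A.InQ t := ⟨3, 3, by decide +kernel, by decide +kernel, hAt.symm⟩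
  have htB : B.InQ t := ⟨12, 0, by decide +kernel, by decide +kernel, B.ck_neg.symm⟩
  have hzB' : B.InQ z := ⟨3, 3, by decide +kernel, by decide +kernel, hBz.symm⟩
  have h4 : ∀ x ∈ I, InR z t x := by
    have hsub : ({1, z, t, z * t} : Set G) ⊆ (I : Set G) := by
      have a1 : A.InQ 1 := ⟨0, 0, by decide +kernel, by decide +kernel, A.ck_zero.symm⟩
      have b1 : B.InQ 1 := ⟨0, 0, by decide +kernel, by decide +kernel, B.ck_zero.symm⟩
      rintro x (rfl | rfl | rfl | rfl) <;> refine (hImem _).2 ⟨?_, ?_⟩ <;>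
        first | assumption | exact A.inQ_mul hzA htA | exact B.inQ_mul hzB' htB
    have hn : ({1, z, t, z * t} : Set G).ncard = 4 := by
      have n1 : z * t ≠ 1 := fun e => hne (by
        rw [eq_inv_of_mul_eq_one_right e, inv_eq_of_mul_eq_one_right A.z_sq])
      have n2 : z * t ≠ z := fun e => ht1 (mul_eq_left.1 e)
      have n3 : z * t ≠ t := fun e => hz1 (mul_eq_right.1 e)
      rw [Set.ncard_insert_of_notMem (by simp [hz1.symm, ht1.symm, n1.symm]),
        Set.ncard_insert_of_notMem (by simp [Ne.symm hne, n2.symm]),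
        Set.ncard_insert_of_notMem (by simp [n3.symm]), Set.ncard_singleton]
    have heq : ({1, z, t, z * t} : Set G) = (I : Set G) := by
      refine Set.eq_of_subset_of_ncard_le hsub ?_
      rw [hn, ← Nat.card_coe_set_eq]
      exact hI.le
    intro x hx
    have : x ∈ ({1, z, t, z * t} : Set G) := by rw [heq]; exact hx
    simpa [InR] using this
  let P : Pair z t :=
    { A := A, B := B, ht := hAt, hz := hBz, meet := fun x h1 h2 => h4 x ((hImem x).2 ⟨h1, h2⟩) }
  obtain ⟨F, hF'⟩ := P.exists_frame g rfl hBQ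
  refine ⟨F, le_antisymm ((closure_le _).2 fun x hx => ?_) fun x hx => subset_closure ?_⟩
  · exact (hAQ x).1 ((hF' x).1 hx)
  · exact (hF' x).2 ((hAQ x).2 hx)

/-- The interface of the recognition. -/
theorem exists_hframe {z : G} (hz : orderOf z = 2) (H₁ H₂ : Subgroup (centralizer ({z} : Set G)))
    (hK : H₁ ⊔ H₂ = closure {x : centralizer ({z} : Set G) | Odd (orderOf x)})
    (hn₁ : (H₁.subgroupOf (H₁ ⊔ H₂)).Normal) (hn₂ : (H₂.subgroupOf (H₁ ⊔ H₂)).Normal)
    (e₁ : H₁ ≃* Matrix.SpecialLinearGroup (Fin 2) (ZMod 3))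
    (e₂ : H₂ ≃* Matrix.SpecialLinearGroup (Fin 2) (ZMod 3))
    (hmeet : (H₁ ⊓ H₂).map (Subgroup.subtype (centralizer ({z} : Set G))) = zpowers z)
    (Q : Subgroup (centralizer ({z} : Set G)))
    (hQ : Q = (Cfsg.pCore 2 ↥(H₁ ⊔ H₂)).map (Subgroup.subtype (H₁ ⊔ H₂)))
    (hF : Cfsg.generalizedFittingSubgroup (centralizer ({z} : Set G)) = Q)
    (hnwc : ∃ g : G, (∃ hq : g * z * g⁻¹ ∈ centralizer ({z} : Set G),
      (⟨g * z * g⁻¹, hq⟩ : centralizer ({z} : Set G)) ∈ Q) ∧ g * z * g⁻¹ ≠ z)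
    (hH : Nat.card ↥(centralizer ({z} : Set G)) = 2 ^ 7 * 3 ^ 2)
    (hQQg : ∀ g : G, g * z * g⁻¹ ∈ Q.map (Subgroup.subtype (centralizer ({z} : Set G))) →
      g * z * g⁻¹ ≠ z → Nat.card ↥((Q.map (Subgroup.subtype (centralizer ({z} : Set G)))) ⊓
        (Q.map (Subgroup.subtype (centralizer ({z} : Set G)))).map (MulAut.conj g).toMonoidHom) = 4) :
    ∃ f : ℕ → G, HFrame z f ∧ qSub f = Q.map (centralizer ({z} : Set G)).subtype := by
  obtain ⟨F, hFQ⟩ := exists_frame_of_hyp hz H₁ H₂ hK hn₁ hn₂ e₁ e₂ hmeet Q hQ hF hnwc hH hQQg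
  exact ⟨F.lets, F.hframe, by rw [F.qSub_eq, hFQ]⟩

end CfsgLib.U43
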