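import Mathlib.GroupTheory.Transfer
import Mathlib.GroupTheory.Sylow
import Mathlib.GroupTheory.PGroup
import Mathlib.Tactic

/-!
# Elements of odd order in a group whose involution centraliser has a cyclic Sylow two-subgroup of order two
-/

set_option autoImplicit false

namespace CfsgLib.U43.Local

open Subgroup

/-- If `1` and `z` are the only `2`-elements of `C` commuting with the involution `z`, the elements of
odd order of `C` are closed under products and every involution of `C` differs from `z` by one of them. -/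
theorem odd_elements {C : Type*} [Group C] [Finite C] {z : C} (hz : z * z = 1) (hz1 : z ≠ 1)
    (hc : ∀ g : C, g * z = z * g → (∃ k : ℕ, g ^ 2 ^ k = 1) → g = 1 ∨ g = z) :
    (∀ a b : C, Odd (orderOf a) → Odd (orderOf b) → Odd (orderOf (a * b))) ∧
      ∀ a : C, a * a = 1 → a ≠ 1 → Odd (orderOf (a * z)) := by
  have : Fact (Nat.Prime 2) := ⟨Nat.prime_two⟩
  have hzo : orderOf z = 2 := orderOf_eq_prime (by rw [pow_two, hz]) hz1
  obtain ⟨T, hT⟩ := IsPGroup.exists_le_sylow (p := 2) (P := zpowers z)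
    (IsPGroup.of_card (n := 1) (by rw [Nat.card_zpowers, hzo, pow_one]))
  have hzT : z ∈ (T : Subgroup C) := hT (mem_zpowers z)
  have hpow : ∀ t ∈ (T : Subgroup C), ∃ k : ℕ, t ^ 2 ^ k = 1 := fun t ht => by
    obtain ⟨k, hk⟩ := T.isPGroup' ⟨t, ht⟩
    exact ⟨k, congrArg Subtype.val hk⟩
  have : Nontrivial (T : Subgroup C) := ⟨⟨z, hzT⟩, 1, fun h => hz1 (congrArg Subtype.val h)⟩
  obtain ⟨w, hw⟩ : ∃ w : Subgroup.center (T : Subgroup C), orderOf w = 2 := by
    refine exists_prime_orderOf_dvd_card' 2 ?_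
    have := T.isPGroup'.center_nontrivial
    obtain ⟨n, hn, hcard⟩ := (T.isPGroup'.to_subgroup (Subgroup.center (T : Subgroup C))).nontrivial_iff_card.1 this
    rw [hcard]; exact dvd_pow_self 2 hn.ne'
  have hwc : ∀ t ∈ (T : Subgroup C), t * ((w : T.toSubgroup) : C) = ((w : T.toSubgroup) : C) * t := fun t ht =>
    congrArg Subtype.val (Subgroup.mem_center_iff.1 w.2 ⟨t, ht⟩)
  have hwz : ((w : T.toSubgroup) : C) = z := by
    have ho : orderOf ((w : T.toSubgroup) : C) = 2 := by rw [Subgroup.orderOf_coe, Subgroup.orderOf_coe, hw]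
    refine (hc _ (hwc z hzT).symm ⟨1, ?_⟩).resolve_left fun h => ?_
    · have h1 := pow_orderOf_eq_one ((w : T.toSubgroup) : C)
      rw [ho] at h1; simpa using h1
    rw [h, orderOf_one] at ho
    exact absurd ho (by norm_num)
  have hTel : ∀ t ∈ (T : Subgroup C), t = 1 ∨ t = z := fun t ht =>
    hc t (hwz ▸ hwc t ht) (hpow t ht)
  have hP : Subgroup.normalizer ((T : Subgroup C) : Set C) ≤ Subgroup.centralizer ((T : Subgroup C) : Set C) := by
    intro n hn t ht
    rcases hTel t ht with rfl | rfl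
    · simp
    · have hm : n * t * n⁻¹ ∈ (T : Subgroup C) := (Subgroup.mem_normalizer_iff.1 hn t).1 ht
      rcases hTel _ hm with h | h
      · exfalso; apply hz1
        calc t = n⁻¹ * (n * t * n⁻¹) * n := by group
          _ = 1 := by rw [h]; group
      · exact (mul_inv_eq_iff_eq_mul.1 h).symm
  let τ := MonoidHom.transferSylow T hP
  have hval : ∀ a, τ a = 1 ∨ τ a = ⟨z, hzT⟩ := fun a =>
    (hTel _ (τ a).2).imp (fun h => Subtype.ext h) (fun h => Subtype.ext h)
  have hodd : ∀ a : C, τ a = 1 → Odd (orderOf a) := fun a ha => by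
    rw [Nat.odd_iff, Nat.two_dvd_ne_zero.symm]
    intro h2
    exact MonoidHom.not_dvd_card_ker_transferSylow T hP
      (h2.trans (Subgroup.orderOf_dvd_natCard τ.ker ha))
  have hker : ∀ a : C, Odd (orderOf a) → τ a = 1 := fun a ha => by
    refine (hval a).resolve_right fun h => ?_
    have h1 : orderOf (τ a) ∣ orderOf a := orderOf_map_dvd τ a
    rw [h, ← Subgroup.orderOf_coe] at h1
    have h2 : 2 ∣ orderOf a := hzo ▸ h1
    exact (Nat.not_even_iff_odd.2 ha) (even_iff_two_dvd.2 h2)
  refine ⟨fun a b ha hb => hodd _ (by rw [map_mul, hker a ha, hker b hb, one_mul]), fun a ha ha1 => ?_⟩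
  have hne : ∀ g : C, g * g = 1 → g ≠ 1 → τ g = ⟨z, hzT⟩ := fun g hg hg1 => by
    refine (hval g).resolve_left fun h => ?_
    have := hodd g h
    rw [orderOf_eq_prime (by rw [pow_two, hg]) hg1] at this
    exact absurd this (by decide)
  refine hodd _ ?_
  rw [map_mul, hne a ha ha1, hne z hz hz1]
  exact Subtype.ext hz

/-- An element of odd order inverted by an involution has a square root inverted by it. -/
theorem exists_root {G : Type*} [Group G] {z k : G} (hz : z * z = 1) (hk : Odd (orderOf k))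
    (hi : z * k * z = k⁻¹) : ∃ m : ℕ, k ^ m * k ^ m = k ∧ z * k ^ m * z = (k ^ m)⁻¹ := by
  obtain ⟨r, hr⟩ := hk
  have hzi : z⁻¹ = z := inv_eq_of_mul_eq_one_right hz
  refine ⟨r + 1, ?_, ?_⟩
  · rw [← pow_add, show r + 1 + (r + 1) = (2 * r + 1) + 1 from by ring, pow_succ, ← hr,
      pow_orderOf_eq_one, one_mul]
  · have h := conj_pow (a := z) (b := k) (i := r + 1)
    rw [hzi, hi, inv_pow] at h
    exact h.symm

/-- A group of elements of exponent three generated by two commuting elements. -/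
theorem mem_closure_pair {G : Type*} [Group G] {a b : G} (ha : a ^ 3 = 1) (hb : b ^ 3 = 1)
    (hab : Commute a b) {g : G} (hg : g ∈ closure ({a, b} : Set G)) :
    ∃ i < 3, ∃ j < 3, g = a ^ i * b ^ j := by
  suffices ∃ i j, g = a ^ i * b ^ j by
    obtain ⟨i, j, rfl⟩ := this
    exact ⟨i % 3, Nat.mod_lt _ (by norm_num), j % 3, Nat.mod_lt _ (by norm_num), by
      rw [← pow_eq_pow_mod i ha, ← pow_eq_pow_mod j hb]⟩
  induction hg using Subgroup.closure_induction with
  | mem x hx =>
    rcases hx with rfl | hx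
    · exact ⟨1, 0, by simp⟩
    · rw [Set.mem_singleton_iff] at hx; exact ⟨0, 1, by simp [hx]⟩
  | one => exact ⟨0, 0, by simp⟩
  | mul x y _ _ hx hy =>
    obtain ⟨i, j, rfl⟩ := hx
    obtain ⟨i', j', rfl⟩ := hy
    exact ⟨i + i', j + j', ((hab.pow_pow i' j).symm.mul_mul_mul_comm _ _).trans (by rw [← pow_add, ← pow_add])⟩
  | inv x _ hx =>
    obtain ⟨i, j, rfl⟩ := hx
    refine ⟨2 * i, 2 * j, inv_eq_of_mul_eq_one_right ?_⟩
    rw [(hab.pow_pow (2 * i) j).symm.mul_mul_mul_comm, ← pow_add, ← pow_add,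
      show i + 2 * i = 3 * i from by ring, show j + 2 * j = 3 * j from by ring, pow_mul, pow_mul, ha, hb,
      one_pow, one_pow, one_mul]

end CfsgLib.U43.Local
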