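import Cfsg.Agent.Lib.U43.LocalExtRels
import Cfsg.Agent.Lib.U43.LocalComAlg

/-!
# The element `y` commutes with its conjugate by `s`

The subgroup `P = ⟨x, y₀⟩` of order nine of the centraliser is a Sylow three-subgroup of the group and, if
`y₀` did not commute with `s y₀ s⁻¹`, its normaliser would lie in the centraliser of `z`; the normaliser of
the conjugate subgroup `⟨x, x₂⟩` of `2^4 : A₆` forbids this.
-/

set_option autoImplicit false
set_option maxRecDepth 100000
set_option Elab.async false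

namespace CfsgLib.U43.Local

open Subgroup CfsgLib.InvChar.Coset

/-- The element `x` of order three. -/
def xW : List ℕ := [3, 4]

/-- The element `x⁻¹ y`. -/
def y0W : List ℕ := [4, 3] ++ wordY

/-- A second element of order three commuting with `x`. -/
def x2W : List ℕ := [2, 3, 2, 5, 4, 3, 5]

/-- An element rotating `x` and the second element. -/
def qW : List ℕ := [2, 5, 4, 5]

/-- A power of a word. -/
def pw (n : ℕ) (L : List ℕ) : List ℕ := (List.replicate n L).flatten

/-- Whether a value is that of an element of `⟨x, y₀⟩`. -/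
noncomputable def inP (v : ℕ) : Bool :=
  (List.range 3).any fun a => (List.range 3).any fun b => Nat.beq (hvA (pw a xW ++ pw b y0W)) v

theorem h_facts : hvA (pw 3 xW) = hvA [] ∧ hvA (pw 3 y0W) = hvA [] ∧ comm xW y0W = true ∧
    hvA wordY = hvA (xW ++ y0W) ∧ comm xW [0] = true ∧ comm y0W [0] = true ∧ comm [0, 1] xW = true ∧
    comm [1] xW = true ∧ hvA ([0, 1] ++ y0W ++ [0, 1]) = hvA y0W.reverse ∧
    hvA ([1] ++ y0W ++ [1]) = hvA y0W.reverse ∧ comm [0, 1] [0] = true ∧
    hvA ([0, 1] ++ [0, 1]) = hvA [] ∧ hvA [1] = hvA ([0] ++ [0, 1]) := by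
  decide +kernel

theorem pair_inj : ((List.range 3).all fun a => (List.range 3).all fun b => (List.range 3).all fun c =>
    (List.range 3).all fun d => (Nat.beq a c && Nat.beq b d) ||
      !Nat.beq (hvA (pw a xW ++ pw b y0W)) (hvA (pw c xW ++ pw d y0W))) = true := by
  decide +kernel

theorem cent_six : ((List.range 1152).all fun i =>
    !(comm (wdA i) xW && comm (wdA i) y0W) || Nat.beq (hvA (pw 6 (wdA i))) (hvA [])) = true := by
  decide +kernel

theorem cent_invol : ((List.range 1152).all fun i =>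
    !(comm (wdA i) xW && comm (wdA i) y0W && Nat.beq (hvA (pw 2 (wdA i))) (hvA [])) ||
      Nat.beq i (hvA []) || Nat.beq i (hvA [0])) = true := by
  decide +kernel

theorem cent_nine : ((List.range 1152).all fun i =>
    !(comm (wdA i) xW && Nat.beq (hvA (pw 9 (wdA i))) (hvA [])) || inP i) = true := by
  decide +kernel

theorem norm_facts : ((List.range 1152).all fun i =>
    !(inP (hvA (wdA i ++ xW ++ (wdA i).reverse)) && inP (hvA (wdA i ++ y0W ++ (wdA i).reverse))) ||
      ((!Nat.beq (hvA (pw 9 (wdA i))) (hvA []) || inP i) && comm (pw 2 (wdA i)) xW &&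
        comm (pw 2 (wdA i)) y0W)) = true := by
  decide +kernel

theorem m_facts : CertExt.table.val (pw 3 wordS) = CertExt.table.val [] ∧
    CertExt.table.val (wordS ++ xW) = CertExt.table.val (xW ++ wordS) ∧
    CertExt.table.val (wordS ++ [0] ++ wordS.reverse) = CertExt.table.val [0, 1] ∧
    CertExt.table.val (wordS ++ [0, 1] ++ wordS.reverse) = CertExt.table.val [1] ∧
    CertExt.table.val (pw 3 x2W) = CertExt.table.val [] ∧
    CertExt.table.val (x2W ++ xW) = CertExt.table.val (xW ++ x2W) ∧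
    CertExt.table.val (qW ++ xW ++ qW.reverse) = CertExt.table.val x2W ∧
    CertExt.table.val (qW ++ x2W ++ qW.reverse) = CertExt.table.val xW.reverse := by
  decide +kernel

theorem nine_acts : ((List.range 3).all fun a => (List.range 3).all fun b => (List.range 3).all fun c =>
    (List.range 3).all fun d => (Nat.beq a c && Nat.beq b d) ||
      !leq ((List.range 16).map (actW (aL.getD 5 []) (pw a xW ++ pw b x2W)))
        ((List.range 16).map (actW (aL.getD 5 []) (pw c xW ++ pw d x2W)))) = true := by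
  decide +kernel

theorem pw_mem {n : ℕ} {L : List ℕ} {s : List ℕ} (hL : ∀ x ∈ L, x ∈ s) : ∀ x ∈ pw n L, x ∈ s := fun x hx => by
  obtain ⟨M, hM, hxM⟩ := List.mem_flatten.1 hx
  exact hL x ((List.eq_of_mem_replicate hM) ▸ hxM)

theorem pw_lt {n : ℕ} {L : List ℕ} (hL : ∀ x ∈ L, x < 6) : ∀ x ∈ pw n L, x < 6 := fun x hx => by
  obtain ⟨M, hM, hxM⟩ := List.mem_flatten.1 hx
  exact hL x ((List.eq_of_mem_replicate hM) ▸ hxM)

theorem leq_refl : ∀ L : List ℕ, leq L L = true
  | [] => rfl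
  | a :: L => by show (Nat.beq a a && leq L L) = true; rw [leq_refl L]; simp [Nat.beq_eq]

section
variable {G : Type*} [Group G] {f : ℕ → G}

theorem wprod_pw (n : ℕ) (L : List ℕ) : wprod f (pw n L) = wprod f L ^ n := by
  induction n with
  | zero => simp [pw, wprod]
  | succ n ih =>
    rw [pw, List.replicate_succ, List.flatten_cons, wprod_append, ← pw, ih, pow_succ']

theorem xW_mem : ∀ x ∈ xW, x ∈ lettersH := by decide
theorem y0W_mem : ∀ x ∈ y0W, x ∈ lettersH := by decide
theorem wordY_mem : ∀ x ∈ wordY, x ∈ lettersH := by decide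

end

variable {G : Type*} [Group G] [Finite G] {z : G} {f : ℕ → G} (Φ : HFrame z f)
include Φ

theorem inP_iff {L : List ℕ} (hL : ∀ x ∈ L, x ∈ lettersH) : inP (hvA L) = true ↔
    ∃ a < 3, ∃ b < 3, wprod f L = wprod f xW ^ a * wprod f y0W ^ b := by
  simp only [inP, List.any_eq_true, List.mem_range, Nat.beq_eq]
  refine exists_congr fun a => and_congr_right fun _ => exists_congr fun b => and_congr_right fun _ => ?_
  rw [← Φ.eq_iff (mem_app (pw_mem xW_mem) (pw_mem y0W_mem)) hL, wprod_append, wprod_pw, wprod_pw]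
  exact eq_comm

theorem pw_one_iff {n i : ℕ} (hi : i < 1152) :
    Nat.beq (hvA (pw n (wdA i))) (hvA []) = true ↔ wprod f (wdA i) ^ n = 1 := by
  rw [Nat.beq_eq, ← Φ.eq_iff (pw_mem (wdA_mem hi)) (by simp), wprod_pw]
  rfl

/-- The two elements generating the subgroup of order nine. -/
theorem xy_facts : wprod f xW ^ 3 = 1 ∧ wprod f y0W ^ 3 = 1 ∧
    Commute (wprod f xW) (wprod f y0W) ∧ wprod f wordY = wprod f xW * wprod f y0W ∧
    Commute (wprod f xW) z ∧ Commute (wprod f y0W) z := by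
  obtain ⟨h1, h2, h3, h4, h5, h6, -⟩ := h_facts
  refine ⟨?_, ?_, (commute_iff Φ xW_mem y0W_mem).2 h3, ?_, ?_, ?_⟩
  · rw [← wprod_pw]; exact (Φ.eq_iff (M := []) (pw_mem xW_mem) (by simp)).2 h1
  · rw [← wprod_pw]; exact (Φ.eq_iff (M := []) (pw_mem y0W_mem) (by simp)).2 h2
  · rw [← wprod_append]; exact (Φ.eq_iff wordY_mem (mem_app xW_mem y0W_mem)).2 h4
  · rw [← wprod_z Φ]; exact (commute_iff Φ xW_mem zW_mem).2 h5
  · rw [← wprod_z Φ]; exact (commute_iff Φ y0W_mem zW_mem).2 h6

/-- An element of odd order commuting with `z` and `x` lies in `⟨x, y₀⟩`. -/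
theorem odd_cent {g : G} (hz : Commute g z) (hx : Commute g (wprod f xW)) (ho : Odd (orderOf g)) :
    ∃ a < 3, ∃ b < 3, g = wprod f xW ^ a * wprod f y0W ^ b := by
  have hg : g ∈ centralizer ({z} : Set G) := mem_centralizer_singleton_iff.2 hz
  have h9 : orderOf g ∣ 9 := by
    refine Nat.Coprime.dvd_of_dvd_mul_left (m := 128) ?_ ?_
    · exact ((Nat.coprime_two_right.2 ho).pow_right 7)
    · have := Subgroup.orderOf_dvd_natCard (centralizer ({z} : Set G)) hg
      rwa [Φ.card] at this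
  obtain ⟨i, hi, rfl⟩ := Φ.exists_word hg
  have h := range_of_all cent_nine hi
  simp only [Bool.or_eq_true, Bool.not_eq_true', Bool.and_eq_false_iff] at h
  rw [← inP_iff Φ (wdA_mem hi), hvA_wdA hi]
  refine h.resolve_left ?_
  rintro (h | h)
  · rw [(commute_iff Φ (wdA_mem hi) xW_mem).1 hx] at h; exact absurd h (by decide)
  · rw [(pw_one_iff Φ hi).2 (orderOf_dvd_iff_pow_eq_one.1 h9)] at h; exact absurd h (by decide)

variable (hM : ∀ r ∈ relsM, wprod f r = 1)
include hM

theorem relCom_eq_one : wprod f relCom = 1 := by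
  obtain ⟨hX3, hY3, hXY, hy, hXz, hYz⟩ := xy_facts Φ
  obtain ⟨X, hXd⟩ : ∃ X, X = wprod f xW := ⟨_, rfl⟩
  obtain ⟨Y, hYd⟩ : ∃ Y, Y = wprod f y0W := ⟨_, rfl⟩
  obtain ⟨S, hSd⟩ : ∃ S, S = wprod f wordS := ⟨_, rfl⟩
  rw [← hXd, ← hYd] at hXY hy
  rw [← hXd] at hX3 hXz
  rw [← hYd] at hY3 hYz
  obtain ⟨m1, m2, m3, m4, m5, m6, m7, m8⟩ := m_facts
  have l5 : ∀ x ∈ wordS, x < 6 := by decide
  have lx : ∀ x ∈ xW, x < 6 := by decide
  have hS3 : S ^ 3 = 1 := by
    rw [hSd, ← wprod_pw]; exact eq_of_ext Φ hM (M := []) (pw_lt l5) (by simp) m1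
  have hSX : Commute S X := by
    rw [hSd, hXd]
    have := eq_of_ext Φ hM (by decide) (by decide) m2
    rw [wprod_append, wprod_append] at this
    exact this
  -- the commutation implies the relator
  suffices hcom : Commute Y (S * Y * S⁻¹) by
    have hS : S * (X * Y) * S⁻¹ = X * (S * Y * S⁻¹) := by
      rw [← mul_assoc, hSX.eq]; group
    have hXY' : Commute X (S * Y * S⁻¹) := (hSX.symm.mul_right hXY).mul_right hSX.symm.inv_right
    have hAB : Commute (X * Y) (X * (S * Y * S⁻¹)) :=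
      ((Commute.refl X).mul_right hXY').mul_left (hXY.symm.mul_right hcom)
    have hS' : S * (X * Y)⁻¹ * S⁻¹ = (X * (S * Y * S⁻¹))⁻¹ := by rw [← hS]; group
    rw [relCom, wprod_append, wprod_append, wprod_append, wprod_append, wprod_append, wprod_append,
      wprod_append, wprod_reverse f Φ.sq, wprod_reverse f Φ.sq, hy, ← hSd, hS, hS', hAB.eq]
    group
  by_contra hne
  obtain ⟨-, -, -, -, -, -, f7, f8, f9, f10, f11, f12, f13⟩ := h_facts
  obtain ⟨U, hUd⟩ : ∃ U, U = wprod f [0, 1] := ⟨_, rfl⟩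
  obtain ⟨R, hRd⟩ : ∃ R, R = wprod f [1] := ⟨_, rfl⟩
  have l01 : ∀ x ∈ ([0, 1] : List ℕ), x ∈ lettersH := by decide
  have l1 : ∀ x ∈ ([1] : List ℕ), x ∈ lettersH := by decide
  have hzz := z_sq Φ
  have hzi : z⁻¹ = z := inv_eq_of_mul_eq_one_right hzz
  have hUU : U * U = 1 := by
    rw [hUd, ← wprod_append]; exact (Φ.eq_iff (M := []) (mem_app l01 l01) (by simp)).2 f12
  have hRR : R * R = 1 := by rw [hRd, wprod_single]; exact Φ.sq 1
  have hUz : Commute U z := by rw [hUd, ← wprod_z Φ]; exact (commute_iff Φ l01 zW_mem).2 f11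
  have hRzU : R = z * U := by
    rw [hRd, hUd, ← wprod_z Φ, ← wprod_append]; exact (Φ.eq_iff l1 (mem_app zW_mem l01)).2 f13
  have hUX : Commute U X := by rw [hUd, hXd]; exact (commute_iff Φ l01 xW_mem).2 f7
  have hRX : Commute R X := by rw [hRd, hXd]; exact (commute_iff Φ l1 xW_mem).2 f8
  have hUY : U * Y * U = Y⁻¹ := by
    rw [hUd, hYd, ← wprod_append, ← wprod_append, ← wprod_reverse f Φ.sq]
    exact (Φ.eq_iff (mem_app (mem_app l01 y0W_mem) l01) (mem_rev y0W_mem)).2 f9
  have hRY : R * Y * R = Y⁻¹ := by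
    rw [hRd, hYd, ← wprod_append, ← wprod_append, ← wprod_reverse f Φ.sq]
    exact (Φ.eq_iff (mem_app (mem_app l1 y0W_mem) l1) (mem_rev y0W_mem)).2 f10
  have hTU : S * z * S⁻¹ = U := by
    rw [hSd, hUd, ← wprod_z Φ, ← conj_word Φ.sq]
    exact eq_of_ext Φ hM (by decide) (by decide) m3
  have hTR : (S * S) * z * (S * S)⁻¹ = R := by
    rw [show (S * S) * z * (S * S)⁻¹ = S * (S * z * S⁻¹) * S⁻¹ from by group, hTU, hSd, hUd, hRd,
      ← conj_word Φ.sq]
    exact eq_of_ext Φ hM (by decide) (by decide) m4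
  -- the centraliser of `x` and `y₀`
  let C : Subgroup G := centralizer ({X, Y} : Set G)
  have hC : ∀ g : G, g ∈ C ↔ Commute g X ∧ Commute g Y := fun g => by
    simp only [C, Subgroup.mem_centralizer_iff, Set.mem_insert_iff, Set.mem_singleton_iff,
      forall_eq_or_imp, forall_eq]
    exact and_congr eq_comm eq_comm
  have hzC : z ∈ C := (hC z).2 ⟨hXz.symm, hYz.symm⟩
  have hPC : ∀ a b : ℕ, X ^ a * Y ^ b ∈ C := fun a b =>
    mul_mem (pow_mem ((hC X).2 ⟨Commute.refl X, hXY⟩) a) (pow_mem ((hC Y).2 ⟨hXY.symm, Commute.refl Y⟩) b)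
  obtain ⟨hoddmul, hinvol⟩ := odd_elements (C := C) (z := ⟨z, hzC⟩) (Subtype.ext hzz)
    (fun h => z_ne_one Φ (congrArg Subtype.val h)) (by
      rintro ⟨g, hg⟩ hgz ⟨k, hk⟩
      have hgz' : Commute g z := congrArg Subtype.val hgz
      have hk' : g ^ 2 ^ k = 1 := congrArg Subtype.val hk
      obtain ⟨hgX, hgY⟩ := (hC g).1 hg
      obtain ⟨i, hi, hie⟩ := Φ.exists_word (mem_centralizer_singleton_iff.2 hgz')
      have cx : comm (wdA i) xW = true :=
        (commute_iff Φ (wdA_mem hi) xW_mem).1 (by rw [hie, ← hXd]; exact hgX)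
      have cy : comm (wdA i) y0W = true :=
        (commute_iff Φ (wdA_mem hi) y0W_mem).1 (by rw [hie, ← hYd]; exact hgY)
      have h6 := range_of_all cent_six hi
      simp only [cx, cy, Bool.and_self, Bool.not_true, Bool.false_or, pw_one_iff Φ hi, hie] at h6
      have h2 : g ^ 2 = 1 := by
        refine orderOf_dvd_iff_pow_eq_one.1 ?_
        have h63 := orderOf_dvd_iff_pow_eq_one.2 h6
        have h2k := orderOf_dvd_iff_pow_eq_one.2 hk'
        obtain ⟨j, -, hj⟩ := (Nat.dvd_prime_pow Nat.prime_two).1 h2k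
        rw [hj] at h63 ⊢
        exact (Nat.Coprime.pow_left j (by norm_num : Nat.Coprime 2 3)).dvd_of_dvd_mul_right h63
      have h1 := range_of_all cent_invol hi
      rw [(pw_one_iff Φ hi).2 (by rw [hie]; exact h2)] at h1
      simp only [cx, cy, Bool.and_self, Bool.not_true, Bool.false_or, Bool.or_eq_true, Nat.beq_eq] at h1
      rw [← hvA_wdA hi] at h1
      rcases h1 with h1 | h1
      · exact Or.inl (Subtype.ext (hie.symm.trans ((Φ.eq_iff (wdA_mem hi) (by simp)).2 h1)))
      · exact Or.inr (Subtype.ext (hie.symm.trans (((Φ.eq_iff (wdA_mem hi) zW_mem).2 h1).trans (wprod_z Φ)))))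
  have omul : ∀ a ∈ C, ∀ b ∈ C, Odd (orderOf a) → Odd (orderOf b) → Odd (orderOf (a * b)) := by
    intro a ha b hb oa ob
    have := hoddmul ⟨a, ha⟩ ⟨b, hb⟩ (by rwa [← Subgroup.orderOf_coe]) (by rwa [← Subgroup.orderOf_coe])
    rwa [← Subgroup.orderOf_coe] at this
  have odd_pow : ∀ (a : G) (n : ℕ), Odd (orderOf a) → Odd (orderOf (a ^ n)) := fun a n h => by
    obtain ⟨c, hc⟩ := orderOf_pow_dvd (x := a) n
    exact (Nat.odd_mul.1 (hc ▸ h)).1
  have odd_inv : ∀ a : G, Odd (orderOf a) → Odd (orderOf a⁻¹) := fun a h => by rwa [orderOf_inv]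
  -- odd elements centralised by a rotation of `z`
  have hfix : ∀ T w : G, Commute T X → T * z * T⁻¹ = w → ¬ Commute Y (T * Y * T⁻¹) →
      ∀ g ∈ C, Odd (orderOf g) → Commute g w → ∀ c ∈ C, Commute g c := by
    intro T w hTX hw hT g hg ho hgw c hc
    obtain ⟨hgX, hgY⟩ := (hC g).1 hg
    obtain ⟨a, -, b, hb, hab⟩ := odd_cent Φ (g := T⁻¹ * g * T)
      (by
        show T⁻¹ * g * T * z = z * (T⁻¹ * g * T)
        calc T⁻¹ * g * T * z = T⁻¹ * (g * (T * z * T⁻¹)) * T := by group
          _ = T⁻¹ * ((T * z * T⁻¹) * g) * T := by rw [hw, hgw.eq]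
          _ = z * (T⁻¹ * g * T) := by group)
      (by
        rw [← hXd]
        exact ((hTX.inv_left).mul_left hgX).mul_left hTX)
      (by
        rw [show T⁻¹ * g * T = MulAut.conj T⁻¹ g from by simp, MulEquiv.orderOf_eq]
        exact ho)
    rw [← hXd, ← hYd] at hab
    have hg' : g = X ^ a * (T * Y * T⁻¹) ^ b := by
      rw [conj_pow, show X ^ a * (T * Y ^ b * T⁻¹) = (X ^ a * T) * Y ^ b * T⁻¹ from by group,
        (hTX.symm.pow_left a).eq, show T * X ^ a * Y ^ b * T⁻¹ = T * (X ^ a * Y ^ b) * T⁻¹ from by group,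
        ← hab]
      group
    have hb0 : b = 0 := by
      by_contra hb0
      apply hT
      have h1 : Commute ((T * Y * T⁻¹) ^ b) Y := by
        have := ((hXY.pow_left a).inv_left).mul_left (hgY : Commute g Y)
        rw [hg', inv_mul_cancel_left] at this
        exact this
      obtain rfl | rfl : b = 1 ∨ b = 2 := by omega
      · rw [pow_one] at h1; exact h1.symm
      · have h2 := h1.pow_left 2
        rw [← pow_mul, show (T * Y * T⁻¹) ^ (2 * 2) = T * Y * T⁻¹ from by
          rw [conj_pow, show 2 * 2 = 3 + 1 from rfl, pow_succ, hY3, one_mul]] at h2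
        exact h2.symm
    rw [hg', hb0, pow_zero, mul_one]
    exact ((hC c).1 hc).1.symm.pow_left a
  have hneS : ¬ Commute Y (S * Y * S⁻¹) := hne
  have hneSS : ¬ Commute Y ((S * S) * Y * (S * S)⁻¹) := fun h => hne (by
    have h' := (Commute.map h (MulAut.conj S).toMonoidHom).symm
    simp only [MulEquiv.coe_toMonoidHom, MulAut.conj_apply] at h'
    have hS3' : S * (S * S) = 1 := by rw [← hS3, pow_succ', pow_two]
    rwa [show S * (S * S * Y * (S * S)⁻¹) * S⁻¹ = (S * (S * S)) * Y * (S * (S * S))⁻¹ from by group,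
      hS3', one_mul, inv_one, mul_one] at h')
  -- a conjugate of an element of `C` by `U` or `R`
  have hconj : ∀ w : G, w * w = 1 → Commute w X → w * Y * w = Y⁻¹ → ∀ g ∈ C, w * g * w ∈ C := by
    intro w hw hwX hwY g hg
    obtain ⟨hgX, hgY⟩ := (hC g).1 hg
    refine (hC _).2 ⟨(hwX.mul_left hgX).mul_left hwX, ?_⟩
    show w * g * w * Y = Y * (w * g * w)
    calc w * g * w * Y = w * g * (w * Y * w) * w := by
          rw [show w * g * (w * Y * w) * w = w * g * w * Y * (w * w) from by group, hw, mul_one]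
      _ = w * (Y⁻¹ * g) * w := by rw [hwY, mul_assoc w g, hgY.inv_right.eq]
      _ = (w * Y⁻¹ * w) * (w * g * w) := by
          rw [show (w * Y⁻¹ * w) * (w * g * w) = w * Y⁻¹ * (w * w) * g * w from by group, hw]; group
      _ = Y * (w * g * w) := by
          rw [← hwY, show w * (w * Y * w) * w = (w * w) * Y * (w * w) from by group, hw]; group
  have key : ∀ T w : G, Commute T X → T * z * T⁻¹ = w → ¬ Commute Y (T * Y * T⁻¹) → w * w = 1 →
      Commute w X → w * Y * w = Y⁻¹ → Commute w z → ∀ i ∈ C, Odd (orderOf i) → z * i * z = i⁻¹ →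
      ∃ a, Commute a z ∧ Commute a i ∧ w * i * w = a * a * i⁻¹ := by
    intro T w hTX hTw hT hw hwX hwY hwz i hi ho hiz
    have hwi : w⁻¹ = w := inv_eq_of_mul_eq_one_right hw
    have hui := hconj w hw hwX hwY i hi
    have oui : Odd (orderOf (w * i * w)) := by
      rw [show w * i * w = MulAut.conj w i from by simp [hwi], MulEquiv.orderOf_eq]; exact ho
    have ok : Odd (orderOf (i⁻¹ * (w * i * w))) := omul _ (inv_mem hi) _ hui (odd_inv i ho) oui
    have hwk : w * (i⁻¹ * (w * i * w)) * w = (i⁻¹ * (w * i * w))⁻¹ := by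
      simp only [mul_inv_rev, inv_inv, hwi]
      calc w * (i⁻¹ * (w * i * w)) * w = w * i⁻¹ * w * i * (w * w) := by group
        _ = w * (i⁻¹ * w) * i := by rw [hw]; group
        _ = w * (i⁻¹ * w) * i := rfl
    obtain ⟨m, hm, hmw⟩ := exists_root hw ok hwk
    set h := (i⁻¹ * (w * i * w)) ^ m with hh
    have hhC : h ∈ C := pow_mem (mul_mem (inv_mem hi) hui) m
    have hah : w * (i * h) * w = i * h := by
      calc w * (i * h) * w = (w * i * w) * (w * h * w) := by
            rw [show (w * i * w) * (w * h * w) = w * i * (w * w) * h * w from by group, hw]; group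
        _ = i * (i⁻¹ * (w * i * w)) * h⁻¹ := by rw [hmw]; group
        _ = i * (h * h) * h⁻¹ := by rw [hm]
        _ = i * h := by group
    have haw : Commute (i * h) w := by
      show i * h * w = w * (i * h)
      calc i * h * w = w * (i * h) * w * w := by rw [hah]
        _ = w * (i * h) := by rw [mul_assoc, hw, mul_one]
    have hfix' := hfix T w hTX hTw hT (i * h) (mul_mem hi hhC) (omul _ hi _ hhC ho (odd_pow _ m ok)) haw
    refine ⟨i * h, hfix' z hzC, hfix' i hi, ?_⟩
    calc w * i * w = i * (i⁻¹ * (w * i * w)) := by group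
      _ = i * (h * h) := by rw [hm]
      _ = (i * h) * (i⁻¹ * (i * h)) := by group
      _ = (i * h) * ((i * h) * i⁻¹) := by rw [((hfix' i hi).inv_right).eq]
      _ = i * h * (i * h) * i⁻¹ := by group
  -- inverted elements are trivial
  have hinv : ∀ i ∈ C, Odd (orderOf i) → z * i * z = i⁻¹ → i = 1 := by
    intro i hi ho hiz
    obtain ⟨a, haz, hai, ha⟩ := key S U hSX hTU hneS hUU hUX hUY hUz i hi ho hiz
    obtain ⟨b, hbz, hbi, hb⟩ := key (S * S) R (hSX.mul_left hSX) hTR hneSS hRR hRX hRY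
      (hRzU ▸ (Commute.refl z).mul_left hUz) i hi ho hiz
    have e1 : R * i * R = a * a * i := by
      rw [hRzU]
      calc z * U * i * (z * U) = z * (U * i * U) * z := by
            rw [show z * U * i * (z * U) = z * U * i * (U * z) from by rw [hUz.eq]]; group
        _ = (z * (a * a) * z) * (z * i⁻¹ * z) := by
            rw [ha, show (z * (a * a) * z) * (z * i⁻¹ * z) = z * (a * a) * (z * z) * i⁻¹ * z from by group, hzz]
            group
        _ = (a * a) * (z * z) * (z * i * z)⁻¹ := by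
            rw [← (haz.mul_left haz).eq, mul_inv_rev, mul_inv_rev, hzi]; group
        _ = a * a * i := by rw [hzz, hiz, inv_inv, mul_one]
    have e2 : i * i = (a * a)⁻¹ * (b * b) := by
      have h := e1.symm.trans hb
      calc i * i = (a * a)⁻¹ * (a * a * i) * i := by group
        _ = (a * a)⁻¹ * (b * b) := by rw [h]; group
    have e3 : z * (i * i) * z = i * i := by
      rw [e2, show z * ((a * a)⁻¹ * (b * b)) = (a * a)⁻¹ * (b * b) * z from
        ((haz.mul_left haz).inv_left.mul_left (hbz.mul_left hbz)).eq.symm, mul_assoc, hzz, mul_one]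
    have e4 : i ^ 4 = 1 := by
      have : z * (i * i) * z = i⁻¹ * i⁻¹ := by
        rw [← hiz, show z * i * z * (z * i * z) = z * i * (z * z) * i * z from by group, hzz]; group
      calc i ^ 4 = (i * i) * (i * i) := by simp [pow_succ, mul_assoc]
        _ = (i * i) * (i⁻¹ * i⁻¹) := by conv_lhs => arg 2; rw [← e3, this]
        _ = 1 := by group
    have h4 : orderOf i ∣ 2 ^ 2 := orderOf_dvd_of_pow_eq_one e4
    exact orderOf_eq_one_iff.1 (Nat.Coprime.eq_one_of_dvd ((Nat.coprime_two_right.2 ho).pow_right 2) h4)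
  -- odd elements commute with `z`
  have hoddz : ∀ g ∈ C, Odd (orderOf g) → Commute g z := by
    intro g hg ho
    have ozgz : Odd (orderOf (z * g * z)) := by
      rw [show z * g * z = MulAut.conj z g from by simp [hzi], MulEquiv.orderOf_eq]; exact ho
    have h1 := hinv (g⁻¹ * (z * g * z)) (mul_mem (inv_mem hg) (mul_mem (mul_mem hzC hg) hzC))
      (omul _ (inv_mem hg) _ (mul_mem (mul_mem hzC hg) hzC) (odd_inv g ho) ozgz) (by
        simp only [mul_inv_rev, inv_inv, hzi]
        calc z * (g⁻¹ * (z * g * z)) * z = z * g⁻¹ * z * g * (z * z) := by group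
          _ = z * (g⁻¹ * z) * g := by rw [hzz]; group)
    rw [inv_mul_eq_one] at h1
    show g * z = z * g
    calc g * z = z * g * z * z := by rw [← h1]
      _ = z * g := by rw [mul_assoc, hzz, mul_one]
  have huniq : ∀ g ∈ C, g * g = 1 → g ≠ 1 → g = z := by
    intro g hg hgg hg1
    have ho : Odd (orderOf (g * z)) := by
      have := hinvol ⟨g, hg⟩ (Subtype.ext hgg) (fun h => hg1 (congrArg Subtype.val h))
      rwa [← Subgroup.orderOf_coe] at this
    have h1 : Commute g z := by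
      have := hoddz _ (mul_mem hg hzC) ho
      have h2 : g * z * z = z * (g * z) := this
      rw [mul_assoc, hzz, mul_one] at h2
      show g * z = z * g
      calc g * z = z * (g * z) * z := by rw [← h2]
        _ = z * g * (z * z) := by group
        _ = z * g := by rw [hzz, mul_one]
    have h2 : (g * z) * (g * z) = 1 := by
      rw [show (g * z) * (g * z) = g * (z * g) * z from by group, ← h1.eq, show g * (g * z) * z = (g * g) * (z * z) from by group,
        hgg, hzz, one_mul]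
    have h3 : orderOf (g * z) ∣ 2 := orderOf_dvd_of_pow_eq_one (by rw [pow_two, h2])
    have h4 : g * z = 1 := orderOf_eq_one_iff.1 (Nat.Coprime.eq_one_of_dvd (Nat.coprime_two_right.2 ho) h3)
    rw [← hzi]; exact eq_inv_of_mul_eq_one_left h4
  -- the subgroup `P`
  let P : Subgroup G := closure ({X, Y} : Set G)
  have hXP : X ∈ P := subset_closure (Set.mem_insert _ _)
  have hYP : Y ∈ P := subset_closure (Set.mem_insert_of_mem _ rfl)
  have hPel : ∀ g ∈ P, ∃ i < 3, ∃ j < 3, g = X ^ i * Y ^ j := fun g hg =>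
    mem_closure_pair hX3 hY3 hXY hg
  have hP9 : Nat.card P = 9 := by
    let F : Fin 3 × Fin 3 → P := fun p => ⟨X ^ (p.1 : ℕ) * Y ^ (p.2 : ℕ),
      mul_mem (pow_mem hXP _) (pow_mem hYP _)⟩
    have hF : Function.Bijective F := by
      refine ⟨fun p q h => ?_, fun ⟨g, hg⟩ => ?_⟩
      · have h' : X ^ (p.1 : ℕ) * Y ^ (p.2 : ℕ) = X ^ (q.1 : ℕ) * Y ^ (q.2 : ℕ) := congrArg Subtype.val h
        rw [hXd, hYd, ← wprod_pw, ← wprod_pw, ← wprod_pw, ← wprod_pw, ← wprod_append, ← wprod_append,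
          Φ.eq_iff (mem_app (pw_mem xW_mem) (pw_mem y0W_mem)) (mem_app (pw_mem xW_mem) (pw_mem y0W_mem))] at h'
        have := range_of_all (range_of_all (range_of_all (range_of_all pair_inj p.1.2) p.2.2) q.1.2) q.2.2
        simp only [Bool.or_eq_true, Bool.and_eq_true, Bool.not_eq_true', beq_false_iff, Nat.beq_eq] at this
        rcases this with ⟨e1, e2⟩ | e
        · exact Prod.ext (Fin.ext e1) (Fin.ext e2)
        · exact absurd h' e
      · obtain ⟨i, hi, j, hj, rfl⟩ := hPel g hg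
        exact ⟨(⟨i, hi⟩, ⟨j, hj⟩), rfl⟩
    rw [← Nat.card_eq_of_bijective F hF]; simp
  -- the normaliser of `P` lies in the centraliser
  have hN : ∀ n : G, (∀ p ∈ P, n * p * n⁻¹ ∈ P) → n ∈ centralizer ({z} : Set G) := by
    intro n hn
    have hPz : ∀ p ∈ P, Commute z p := fun p hp => by
      obtain ⟨a, -, b, -, rfl⟩ := hPel p hp
      exact (hXz.symm.pow_right a).mul_right (hYz.symm.pow_right b)
    have hcm : ∀ p ∈ P, Commute (n⁻¹ * z * n) p := fun p hp => by
      have := (hPz _ (hn p hp)).eq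
      show n⁻¹ * z * n * p = p * (n⁻¹ * z * n)
      calc n⁻¹ * z * n * p = n⁻¹ * (z * (n * p * n⁻¹)) * n := by group
        _ = n⁻¹ * ((n * p * n⁻¹) * z) * n := by rw [this]
        _ = p * (n⁻¹ * z * n) := by group
    have h1 : n⁻¹ * z * n = z := huniq _ ((hC _).2 ⟨hcm X hXP, hcm Y hYP⟩)
      (by rw [show n⁻¹ * z * n * (n⁻¹ * z * n) = n⁻¹ * (z * z) * n from by group, hzz]; group)
      (fun h => z_ne_one Φ (by
        calc z = n * (n⁻¹ * z * n) * n⁻¹ := by group
          _ = 1 := by rw [h]; group))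
    rw [mem_centralizer_singleton_iff]
    calc n * z = n * (n⁻¹ * z * n) := by rw [h1]
      _ = z * n := by group
  have hnorm : ∀ n : G, (∀ p ∈ P, n * p * n⁻¹ ∈ P) → ∃ i < 1152, wprod f (wdA i) = n ∧
      ((!Nat.beq (hvA (pw 9 (wdA i))) (hvA []) || inP i) = true ∧
        comm (pw 2 (wdA i)) xW = true ∧ comm (pw 2 (wdA i)) y0W = true) := by
    intro n hn
    obtain ⟨i, hi, hie⟩ := Φ.exists_word (hN n hn)
    refine ⟨i, hi, hie, ?_⟩
    have h := range_of_all norm_facts hi
    have hw : ∀ V : List ℕ, (∀ x ∈ V, x ∈ lettersH) → wprod f V ∈ P →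
        inP (hvA (wdA i ++ V ++ (wdA i).reverse)) = true := fun V hV hVP => by
      rw [inP_iff Φ (mem_app (mem_app (wdA_mem hi) hV) (mem_rev (wdA_mem hi))), conj_word Φ.sq, hie,
        ← hXd, ← hYd]
      exact hPel _ (hn _ hVP)
    rw [hw xW xW_mem (hXd ▸ hXP), hw y0W y0W_mem (hYd ▸ hYP)] at h
    simp only [Bool.and_self, Bool.not_true, Bool.false_or, Bool.and_eq_true] at h
    exact ⟨h.1.1, h.1.2, h.2⟩
  -- `P` is a Sylow subgroup
  have : Fact (Nat.Prime 3) := ⟨Nat.prime_three⟩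
  have hPp : IsPGroup 3 P := IsPGroup.of_card (n := 2) hP9
  obtain ⟨T, hT⟩ := hPp.exists_le_sylow
  have hTP : (T : Subgroup G) = P := by
    by_contra hne'
    have hlt : P.subgroupOf (T : Subgroup G) < ⊤ := by
      refine lt_top_iff_ne_top.2 fun h => hne' (le_antisymm ?_ hT)
      exact Subgroup.subgroupOf_eq_top.1 h
    have : Group.IsNilpotent (T : Subgroup G) := T.isPGroup'.isNilpotent
    obtain ⟨⟨n, hnT⟩, hnN, hnP⟩ := SetLike.exists_of_lt (Group.normalizerCondition_of_isNilpotent _ hlt)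
    have hnn : ∀ p ∈ P, n * p * n⁻¹ ∈ P := fun p hp =>
      (Subgroup.mem_normalizer_iff.1 hnN ⟨p, hT hp⟩).1 hp
    obtain ⟨i, hi, hie, h1, -, -⟩ := hnorm n hnn
    have h9 : n ^ 9 = 1 := by
      obtain ⟨k, hk⟩ := T.isPGroup' ⟨n, hnT⟩
      have h3k : orderOf n ∣ 3 ^ k := orderOf_dvd_of_pow_eq_one (congrArg Subtype.val hk)
      have hd := Subgroup.orderOf_dvd_natCard _ (hN n hnn)
      rw [Φ.card] at hd
      exact orderOf_dvd_iff_pow_eq_one.1 (Nat.Coprime.dvd_of_dvd_mul_left (m := 128)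
        ((Nat.Coprime.pow_left k (by norm_num : Nat.Coprime 3 128)).coprime_dvd_left h3k) hd)
    rw [(pw_one_iff Φ hi).2 (by rw [hie]; exact h9), Bool.not_true, Bool.false_or, ← hvA_wdA hi,
      inP_iff Φ (wdA_mem hi), hie, ← hXd, ← hYd] at h1
    obtain ⟨a, -, b, -, hab⟩ := h1
    exact hnP (Subgroup.mem_subgroupOf.2 (by
      show n ∈ P
      rw [hab]; exact mul_mem (pow_mem hXP a) (pow_mem hYP b)))
  -- a second subgroup of order nine
  obtain ⟨X2, hX2d⟩ : ∃ X2, X2 = wprod f x2W := ⟨_, rfl⟩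
  obtain ⟨Q, hQd⟩ : ∃ Q, Q = wprod f qW := ⟨_, rfl⟩
  have hX23 : X2 ^ 3 = 1 := by
    rw [hX2d, ← wprod_pw]; exact eq_of_ext Φ hM (M := []) (pw_lt (by decide)) (by simp) m5
  have hXX2 : Commute X X2 := by
    have := eq_of_ext Φ hM (by decide) (by decide) m6
    rw [wprod_append, wprod_append, ← hXd, ← hX2d] at this
    exact this.symm
  have hQX : Q * X * Q⁻¹ = X2 := by
    rw [hQd, hXd, hX2d, ← conj_word Φ.sq]; exact eq_of_ext Φ hM (by decide) (by decide) m7
  have hQX2 : Q * X2 * Q⁻¹ = X⁻¹ := by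
    rw [hQd, hX2d, hXd, ← conj_word Φ.sq, ← wprod_reverse f Φ.sq]
    exact eq_of_ext Φ hM (by decide) (by decide) m8
  let P2 : Subgroup G := closure ({X, X2} : Set G)
  have hXP2 : X ∈ P2 := subset_closure (Set.mem_insert _ _)
  have hX2P2 : X2 ∈ P2 := subset_closure (Set.mem_insert_of_mem _ rfl)
  have hP2el : ∀ g ∈ P2, ∃ i < 3, ∃ j < 3, g = X ^ i * X2 ^ j := fun g hg =>
    mem_closure_pair hX3 hX23 hXX2 hg
  have hP29 : Nat.card P2 = 9 := by
    let F : Fin 3 × Fin 3 → P2 := fun p => ⟨X ^ (p.1 : ℕ) * X2 ^ (p.2 : ℕ),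
      mul_mem (pow_mem hXP2 _) (pow_mem hX2P2 _)⟩
    have hF : Function.Bijective F := by
      refine ⟨fun p q h => ?_, fun ⟨g, hg⟩ => ?_⟩
      · have h' : X ^ (p.1 : ℕ) * X2 ^ (p.2 : ℕ) = X ^ (q.1 : ℕ) * X2 ^ (q.2 : ℕ) := congrArg Subtype.val h
        have hl : ∀ a b : ℕ, ∀ x ∈ pw a xW ++ pw b x2W, x < 6 := fun a b x hx => by
          rcases List.mem_append.1 hx with hx | hx
          exacts [pw_lt lx x hx, pw_lt (by decide) x hx]
        rw [hXd, hX2d, ← wprod_pw, ← wprod_pw, ← wprod_pw, ← wprod_pw, ← wprod_append, ← wprod_append] at h'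
        have hA : (List.range 16).map (actW (aL.getD 5 []) (pw p.1 xW ++ pw p.2 x2W)) =
            (List.range 16).map (actW (aL.getD 5 []) (pw q.1 xW ++ pw q.2 x2W)) := by
          refine List.map_congr_left fun k hk => ?_
          rw [List.mem_range] at hk
          obtain ⟨a1, a2⟩ := acts_M Φ hM (hl p.1 p.2) k hk
          obtain ⟨b1, b2⟩ := acts_M Φ hM (hl q.1 q.2) k hk
          exact (e_inj Φ a1 b1).1 (by rw [← a2, ← b2, h'])
        have := range_of_all (range_of_all (range_of_all (range_of_all nine_acts p.1.2) p.2.2) q.1.2) q.2.2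
        rw [hA, leq_refl, Bool.not_true, Bool.or_false, Bool.and_eq_true, Nat.beq_eq, Nat.beq_eq] at this
        exact Prod.ext (Fin.ext this.1) (Fin.ext this.2)
      · obtain ⟨i, hi, j, hj, rfl⟩ := hP2el g hg
        exact ⟨(⟨i, hi⟩, ⟨j, hj⟩), rfl⟩
    rw [← Nat.card_eq_of_bijective F hF]; simp
  obtain ⟨T2, hT2⟩ := (IsPGroup.of_card (n := 2) hP29 : IsPGroup 3 P2).exists_le_sylow
  obtain ⟨g, hg⟩ := MulAction.exists_smul_eq G T T2
  have hT2c : Nat.card (T2 : Subgroup G) = 9 := by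
    rw [Sylow.card_eq_multiplicity, ← Sylow.card_eq_multiplicity T, hTP, hP9]
  have hT2e : (T2 : Subgroup G) = P2 :=
    (Subgroup.eq_of_le_of_card_ge hT2 (le_of_eq (hT2c.trans hP29.symm))).symm
  have hmap : ∀ p, p ∈ P2 ↔ g⁻¹ * p * g ∈ P := by
    intro p
    rw [← hT2e, ← hg, ← hTP, Sylow.coe_subgroup_smul, Subgroup.mem_pointwise_smul_iff_inv_smul_mem]
    simp [MulAut.smul_def]
  have hQP2 : ∀ p ∈ P2, Q * p * Q⁻¹ ∈ P2 := fun p hp => by
    obtain ⟨a, -, b, -, rfl⟩ := hP2el p hp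
    rw [show Q * (X ^ a * X2 ^ b) * Q⁻¹ = (Q * X ^ a * Q⁻¹) * (Q * X2 ^ b * Q⁻¹) from by group,
      ← conj_pow, ← conj_pow, hQX, hQX2]
    exact mul_mem (pow_mem hX2P2 a) (pow_mem (inv_mem hXP2) b)
  have hn : ∀ p ∈ P, (g⁻¹ * Q * g) * p * (g⁻¹ * Q * g)⁻¹ ∈ P := fun p hp => by
    have h1 : g * p * g⁻¹ ∈ P2 := (hmap _).2 (by
      rw [show g⁻¹ * (g * p * g⁻¹) * g = p from by group]; exact hp)
    have h2 := (hmap _).1 (hQP2 _ h1)
    rwa [show g⁻¹ * (Q * (g * p * g⁻¹) * Q⁻¹) * g = g⁻¹ * Q * g * p * (g⁻¹ * Q * g)⁻¹ from by group] at h2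
  obtain ⟨i, hi, hie, -, c1, c2⟩ := hnorm _ hn
  have hp : g⁻¹ * X * g ∈ P := (hmap X).1 hXP2
  have hcomm : Commute ((g⁻¹ * Q * g) ^ 2) (g⁻¹ * X * g) := by
    obtain ⟨a, -, b, -, hab⟩ := hPel _ hp
    have k1 : Commute ((g⁻¹ * Q * g) ^ 2) X := by
      rw [← hie, ← wprod_pw, hXd]; exact (commute_iff Φ (pw_mem (wdA_mem hi)) xW_mem).2 c1
    have k2 : Commute ((g⁻¹ * Q * g) ^ 2) Y := by
      rw [← hie, ← wprod_pw, hYd]; exact (commute_iff Φ (pw_mem (wdA_mem hi)) y0W_mem).2 c2
    rw [hab]; exact (k1.pow_right a).mul_right (k2.pow_right b)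
  have hX1 : Commute (Q * Q) X := by
    have := Commute.map hcomm (MulAut.conj g).toMonoidHom
    rw [map_pow] at this
    simp only [MulEquiv.coe_toMonoidHom, MulAut.conj_apply] at this
    rwa [show g * (g⁻¹ * Q * g) * g⁻¹ = Q from by group, show g * (g⁻¹ * X * g) * g⁻¹ = X from by group,
      pow_two] at this
  have hXinv : X = X⁻¹ := by
    conv_lhs => rw [show X = (Q * Q) * X * (Q * Q)⁻¹ from by rw [hX1.eq]; group]
    rw [show (Q * Q) * X * (Q * Q)⁻¹ = Q * (Q * X * Q⁻¹) * Q⁻¹ from by group, hQX, hQX2]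
  have hX2 : X ^ 2 = 1 := by rw [pow_two]; nth_rewrite 2 [hXinv]; rw [mul_inv_cancel]
  have hX1' : X = 1 := by
    calc X = X ^ 3 * (X ^ 2)⁻¹ := by group
      _ = 1 := by rw [hX3, hX2, inv_one, one_mul]
  have := range_of_all (range_of_all (range_of_all (range_of_all pair_inj (show 1 < 3 by norm_num))
    (show 0 < 3 by norm_num)) (show 0 < 3 by norm_num)) (show 0 < 3 by norm_num)
  simp only [Bool.or_eq_true, Bool.and_eq_true, Bool.not_eq_true', beq_false_iff, Nat.beq_eq] at this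
  refine (this.resolve_left (by simp)) ((Φ.eq_iff (mem_app (pw_mem xW_mem) (pw_mem y0W_mem))
    (mem_app (pw_mem xW_mem) (pw_mem y0W_mem))).1 ?_)
  rw [wprod_append, wprod_append, wprod_pw, wprod_pw, wprod_pw, ← hXd, hX1', one_pow, one_pow]

end CfsgLib.U43.Local
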