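import Cfsg.Agent.Lib.U43.LocalLift

/-!
# The local analysis assembled
-/

set_option autoImplicit false

namespace CfsgLib.U43.Local

open Subgroup CfsgLib.InvChar.Coset

variable {G : Type*} [Group G] [Finite G] {z : G} {f : ℕ → G}

/-- Replacing the unused letter keeps the frame. -/
theorem upd_hframe (Φ : HFrame z f) {w : G} (hw : w * w = 1) : HFrame z (upd f w) where
  sq x := by
    unfold upd; split
    exacts [hw, Φ.sq x]
  zeq := by rw [upd_ne f w (by norm_num), Φ.zeq]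
  relH r hr := by
    have hl : ∀ r ∈ relsH, ∀ x ∈ r, x ∈ lettersH := by decide +kernel
    rw [wprod_upd f w (hl r hr), Φ.relH r hr]
  centralizer_le := by
    refine Φ.centralizer_le.trans (closure_mono ?_)
    rintro _ ⟨x, hx, rfl⟩
    exact ⟨x, hx, upd_ne f w fun h => (by decide : (5 : ℕ) ∉ lettersH) (h ▸ hx)⟩
  card := Φ.card

/-- Generators satisfying all relators, granted the one commutator. -/
theorem exists_rels_of (Φ : HFrame z f)
    (hne : ∃ g : G, g * z * g⁻¹ ∈ qSub f ∧ g * z * g⁻¹ ≠ z)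
    (hmeet : ∀ g : G, g * z * g⁻¹ ∈ qSub f → g * z * g⁻¹ ≠ z →
      Nat.card ↥(qSub f ⊓ (qSub f).map (MulAut.conj g).toMonoidHom) = 4)
    (hcom : ∀ f' : ℕ → G, HFrame z f' → (∀ r ∈ relsM, wprod f' r = 1) → wprod f' relCom = 1) :
    ∃ f' : ℕ → G, Rels z f' := by
  obtain ⟨w, hww, hM⟩ := exists_relM Φ hne hmeet
  have Φ' := upd_hframe Φ hww
  exact ⟨upd f w, Φ'.sq, Φ'.zeq, Φ'.relH, hM, hcom _ Φ' hM, Φ'.centralizer_le⟩

end CfsgLib.U43.Local
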