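import Cfsg.Agent.Lib.U43.LocalMain
import Cfsg.Agent.Lib.U43.LocalCom
import Cfsg.Agent.Lib.U43.HExists
import Cfsg.Agent.Lib.U43.Inst
import Cfsg.Agent.Lib.Comp.Local

/-!
# `PSU₄(3)` from the two factors of an involution centraliser

A variant of the recognition taking `Dat z` in place of the normal subgroups and the Fitting subgroup.
-/

set_option autoImplicit false
set_option maxRecDepth 100000
set_option Elab.async false

namespace CfsgLib.U43

open Subgroup

universe u

variable {G : Type u} [Group G] [Finite G] {z : G}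

/-- The two-core as a subgroup. -/
def Dat.coreSub (A : Dat z) : Subgroup G where
  carrier := {x | A.InQ x}
  one_mem' := ⟨0, 0, by decide +kernel, by decide +kernel, A.ck_zero.symm⟩
  mul_mem' := A.inQ_mul
  inv_mem' := A.inQ_inv

/-- The generalised Fitting subgroup of the centraliser is a two-group. -/
theorem Dat.isPGroup_fitting (A : Dat z) (hQ : ∀ h : G, h * z = z * h → ∀ x, A.InQ x → A.InQ (h * x * h⁻¹)) :
    IsPGroup 2 (Cfsg.generalizedFittingSubgroup ↥(centralizer ({z} : Set G))) := by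
  have hle : A.coreSub ≤ centralizer ({z} : Set G) := by
    rintro x ⟨a, b, -, -, rfl⟩
    exact mem_centralizer_singleton_iff.2 (A.ck_central a b)
  set C := centralizer ({z} : Set G) with hC
  set N := A.coreSub.subgroupOf C with hN
  haveI hNn : N.Normal := ⟨fun n hn g => mem_subgroupOf.2
    (hQ g (mem_centralizer_singleton_iff.1 g.2) n (mem_subgroupOf.1 hn))⟩
  have hNp : IsPGroup 2 ↥N := fun x => ⟨2, by
    refine Subtype.ext (Subtype.ext ?_)
    have := A.inQ_pow_four (mem_subgroupOf.1 x.2)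
    show (((x : ↥N) : ↥C) : G) ^ 2 ^ 2 = 1
    rw [show (2 : ℕ) ^ 2 = 2 + 2 by rfl, pow_add, pow_two]
    exact this⟩
  have hNcore : N ≤ Cfsg.pCore 2 ↥C := le_sSup ⟨hNn, hNp⟩
  haveI : Fact (Nat.Prime 2) := ⟨Nat.prime_two⟩
  have hzN : z ∈ A.coreSub := ⟨12, 0, by decide +kernel, by decide +kernel, A.ck_neg.symm⟩
  have hcent : centralizer ((Cfsg.pCore 2 ↥C : Subgroup ↥C) : Set ↥C) ≤ Cfsg.pCore 2 ↥C := by
    intro h hh
    refine hNcore (mem_subgroupOf.2 ?_)
    rcases A.centQ h (mem_centralizer_singleton_iff.1 h.2) (fun a b ha hb => by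
      have hm : A.ck a b ∈ A.coreSub := ⟨a, b, ha, hb, rfl⟩
      have := mem_centralizer_iff.1 hh ⟨_, hle hm⟩ (hNcore (mem_subgroupOf.2 hm))
      exact (congrArg Subtype.val this).symm) with e | e
    · rw [e]; exact one_mem _
    · rw [e]; exact hzN
  rw [(Comp.generalizedFitting_eq_pCore_iff 2 _).2 hcent]
  exact CfsgLib.Comp.isPGroup_pCore 2 _

/-- A group with two factors whose two-cores meet in four-groups is `PSU₄(3)`. -/
theorem nonempty_equiv_psu_of_dat (hz : orderOf z = 2) (A0 : Dat z) (Qs : Subgroup G)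
    (hA0 : ∀ x, A0.InQ x ↔ x ∈ Qs)
    (hnorm : ∀ h : G, h * z = z * h → ∀ x ∈ Qs, h * x * h⁻¹ ∈ Qs)
    (hnwc : ∃ g : G, g * z * g⁻¹ ∈ Qs ∧ g * z * g⁻¹ ≠ z)
    (hmeet : ∀ g : G, g * z * g⁻¹ ∈ Qs → g * z * g⁻¹ ≠ z →
      ∀ x ∈ Qs, g⁻¹ * x * g ∈ Qs → InR z (g * z * g⁻¹) x)
    (K : Type) [Field K] [Fintype K] (hK : Fintype.card K = 9) :
    Nonempty (G ≃* Cfsg.PSU 4 K 3) := by
  have hz1 : z ≠ 1 := fun e => by rw [e, orderOf_one] at hz; omega
  obtain ⟨g, hg, hne⟩ := hnwc
  set t := g * z * g⁻¹ with ht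
  have ht1 : t ≠ 1 := fun e => hz1 (by
    have := congrArg (fun u => g⁻¹ * u * g) e
    simpa [ht, mul_assoc] using this)
  have htt : t * t = 1 := by rw [ht, conj_mul, A0.z_sq, mul_one, mul_inv_cancel]
  obtain ⟨A, hAt, hAQ'⟩ := A0.exists_twist ((hA0 t).2 hg) htt ht1 hne
  have hAQ : ∀ x, A.InQ x ↔ x ∈ Qs := fun x => (hAQ' x).trans (hA0 x)
  set B0 := A.move g
  have hq : A.ck 3 0 * t = t * A.ck 3 0 := by
    rw [← hAt, A.ck_mul (by norm_num) (by norm_num) (by norm_num) (by norm_num),
      A.ck_mul (by norm_num) (by norm_num) (by norm_num) (by norm_num),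
      A.eq_iff (el_mul (by norm_num) (by norm_num)).2 (el_mul (by norm_num) (by norm_num)).2
        (el_mul (by norm_num) (by norm_num)).2 (el_mul (by norm_num) (by norm_num)).2]
    decide +kernel
  have hu : A.ck 6 6 * t = t * A.ck 6 6 := by
    rw [← hAt, A.ck_mul (by norm_num) (by norm_num) (by norm_num) (by norm_num),
      A.ck_mul (by norm_num) (by norm_num) (by norm_num) (by norm_num),
      A.eq_iff (el_mul (by norm_num) (by norm_num)).2 (el_mul (by norm_num) (by norm_num)).2
        (el_mul (by norm_num) (by norm_num)).2 (el_mul (by norm_num) (by norm_num)).2]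
    decide +kernel
  have hcz : A.ck 3 0 * A.ck 6 6 * (A.ck 3 0)⁻¹ * (A.ck 6 6)⁻¹ = z := by
    rw [A.ck_conj (by norm_num) (by norm_num) (by norm_num) (by norm_num),
      A.ck_inv (by norm_num) (by norm_num),
      A.ck_mul (cj_spec (by norm_num) (by norm_num)).1 (cj_spec (by norm_num) (by norm_num)).1
        (iv_spec (by norm_num)).1 (iv_spec (by norm_num)).1]
    refine Eq.trans ?_ A.ck_neg
    rw [A.eq_iff (el_mul (cj_spec (by norm_num) (by norm_num)).1 (iv_spec (by norm_num)).1).2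
      (el_mul (cj_spec (by norm_num) (by norm_num)).1 (iv_spec (by norm_num)).1).2 (by norm_num)
      (by norm_num)]
    decide +kernel
  have hzB : B0.InQ z := by
    have := B0.inQ_comm hq hu (by rw [hcz, A.z_sq, one_mul])
    rwa [hcz] at this
  obtain ⟨B, hBz, hBQ'⟩ := B0.exists_twist hzB A.z_sq hz1 (fun e => hne e.symm)
  have hBQ : ∀ x, B.InQ x ↔ A.InQ (g⁻¹ * x * g) := fun x => (hBQ' x).trans (A.move_inQ g x)
  let P : Pair z t :=
    { A := A, B := B, ht := hAt, hz := hBz,
      meet := fun x h1 h2 => hmeet g hg hne x ((hAQ x).1 h1) ((hAQ _).1 ((hBQ x).1 h2)) }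
  obtain ⟨F, hF'⟩ := P.exists_frame g rfl hBQ
  have hcl : closure F.qSet = Qs := le_antisymm
    ((closure_le _).2 fun x hx => (hAQ x).1 ((hF' x).1 hx))
    fun x hx => subset_closure ((hF' x).2 ((hAQ x).2 hx))
  have hqS : qSub F.lets = Qs := by rw [F.qSub_eq, hcl]
  have hcard4 : ∀ g : G, g * z * g⁻¹ ∈ qSub F.lets → g * z * g⁻¹ ≠ z →
      Nat.card ↥(qSub F.lets ⊓ (qSub F.lets).map (MulAut.conj g).toMonoidHom) = 4 := by
    intro k hk hkz
    rw [hqS] at hk ⊢
    set s := k * z * k⁻¹ with hs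
    set I := Qs ⊓ Qs.map (MulAut.conj k).toMonoidHom with hI
    have hs1 : s ≠ 1 := fun e => hz1 (by
      have := congrArg (fun u => k⁻¹ * u * k) e
      simpa [hs, mul_assoc] using this)
    have hzQ : z ∈ Qs := (hA0 z).1 ⟨12, 0, by decide +kernel, by decide +kernel, A0.ck_neg.symm⟩
    -- `z` also lies in the conjugate
    have hzk : k⁻¹ * z * k ∈ Qs := by
      have hs2 : s * s = 1 := by rw [hs, conj_mul, A0.z_sq, mul_one, mul_inv_cancel]
      obtain ⟨A', hA't, hA'Q⟩ := A0.exists_twist ((hA0 s).2 hk) hs2 hs1 hkz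
      have hAA : ∀ x, A'.InQ x ↔ x ∈ Qs := fun x => (hA'Q x).trans (hA0 x)
      have hq' : A'.ck 3 0 * s = s * A'.ck 3 0 := by
        rw [← hA't, A'.ck_mul (by norm_num) (by norm_num) (by norm_num) (by norm_num),
          A'.ck_mul (by norm_num) (by norm_num) (by norm_num) (by norm_num),
          A'.eq_iff (el_mul (by norm_num) (by norm_num)).2 (el_mul (by norm_num) (by norm_num)).2
            (el_mul (by norm_num) (by norm_num)).2 (el_mul (by norm_num) (by norm_num)).2]
        decide +kernel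
      have hu' : A'.ck 6 6 * s = s * A'.ck 6 6 := by
        rw [← hA't, A'.ck_mul (by norm_num) (by norm_num) (by norm_num) (by norm_num),
          A'.ck_mul (by norm_num) (by norm_num) (by norm_num) (by norm_num),
          A'.eq_iff (el_mul (by norm_num) (by norm_num)).2 (el_mul (by norm_num) (by norm_num)).2
            (el_mul (by norm_num) (by norm_num)).2 (el_mul (by norm_num) (by norm_num)).2]
        decide +kernel
      have hcz' : A'.ck 3 0 * A'.ck 6 6 * (A'.ck 3 0)⁻¹ * (A'.ck 6 6)⁻¹ = z := by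
        rw [A'.ck_conj (by norm_num) (by norm_num) (by norm_num) (by norm_num),
          A'.ck_inv (by norm_num) (by norm_num),
          A'.ck_mul (cj_spec (by norm_num) (by norm_num)).1 (cj_spec (by norm_num) (by norm_num)).1
            (iv_spec (by norm_num)).1 (iv_spec (by norm_num)).1]
        refine Eq.trans ?_ A'.ck_neg
        rw [A'.eq_iff (el_mul (cj_spec (by norm_num) (by norm_num)).1 (iv_spec (by norm_num)).1).2
          (el_mul (cj_spec (by norm_num) (by norm_num)).1 (iv_spec (by norm_num)).1).2 (by norm_num)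
          (by norm_num)]
        decide +kernel
      have := (A'.move k).inQ_comm hq' hu' (by rw [hcz', A0.z_sq, one_mul])
      rw [hcz', A'.move_inQ k z] at this
      exact (hAA _).1 this
    have hmemI : ∀ x, x ∈ I ↔ x ∈ Qs ∧ k⁻¹ * x * k ∈ Qs := by
      intro x
      rw [hI, mem_inf]
      refine and_congr_right fun _ => ⟨?_, fun h => ⟨_, h, by simp [mul_assoc]⟩⟩
      rintro ⟨y, hy, rfl⟩
      simpa [mul_assoc] using hy
    have heq : (I : Set G) = ({1, z, s, z * s} : Set G) := by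
      ext x
      rw [SetLike.mem_coe, hmemI]
      constructor
      · rintro ⟨h1, h2⟩
        simpa [InR] using hmeet k hk hkz x h1 h2
      · rintro (rfl | rfl | rfl | rfl)
        · exact ⟨one_mem _, by simp⟩
        · exact ⟨hzQ, hzk⟩
        · exact ⟨hk, by simpa [hs, mul_assoc] using hzQ⟩
        · refine ⟨mul_mem hzQ hk, ?_⟩
          rw [show k⁻¹ * (z * s) * k = k⁻¹ * z * k * z by rw [hs]; group]
          exact mul_mem hzk hzQ
    show Nat.card ↥(I : Set G) = 4
    rw [heq, Nat.card_coe_set_eq]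
    have n1 : z * s ≠ 1 := fun e => hkz (by
      rw [eq_inv_of_mul_eq_one_right e, inv_eq_of_mul_eq_one_right A0.z_sq])
    have n2 : z * s ≠ z := fun e => hs1 (mul_eq_left.1 e)
    have n3 : z * s ≠ s := fun e => hz1 (mul_eq_right.1 e)
    rw [Set.ncard_insert_of_notMem (by simp [hz1.symm, hs1.symm, n1.symm]),
      Set.ncard_insert_of_notMem (by simp [Ne.symm hkz, n2.symm]),
      Set.ncard_insert_of_notMem (by simp [n3.symm]), Set.ncard_singleton]
  obtain ⟨f', hR⟩ := Local.exists_rels_of F.hframe ⟨g, by rw [hqS]; exact hg, hne⟩ hcard4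
    fun _ Φ' hM => Local.relCom_eq_one Φ' hM
  exact nonempty_equiv_psu hz A0.card
    (A0.isPGroup_fitting fun h hh x hx => (hA0 _).2 (hnorm h hh x ((hA0 x).1 hx))) hR K hK

end CfsgLib.U43
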