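import Cfsg.Agent.Lib.U43.HFrameFacts

/-!
# Two commuting copies of `SL(2, 3)` in an involution centraliser

`Dat z` records two homomorphisms `i1, i2` from `SL(2, 3)` with commuting images meeting in `⟨z⟩`, whose
product `K` has abelian factor group in the centraliser of `z` and whose two-core is self-centralising.
-/

set_option autoImplicit false
set_option maxRecDepth 100000
set_option Elab.async false

namespace CfsgLib.U43

universe u

/-- The inverse of a number below 24. -/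
noncomputable def iv (a : ℕ) : ℕ := (List.range 24).findIdx fun c => Nat.beq (mt a c) 0

/-- Membership of the quaternion subgroup. -/
noncomputable def qa (a : ℕ) : Bool := Nat.blt a 24 && Nat.beq (a % 3) 0

/-- Conjugation of numbers. -/
noncomputable def cj (a b : ℕ) : ℕ := mt (mt a b) (iv a)

/-- Equality of the elements named by two pairs. -/
noncomputable def eqK (a b c d : ℕ) : Bool :=
  (Nat.beq a c && Nat.beq b d) || (Nat.beq (mt 12 a) c && Nat.beq (mt 12 b) d)

theorem eqK_iff {a b c d : ℕ} :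
    eqK a b c d = true ↔ (a = c ∧ b = d) ∨ (mt 12 a = c ∧ mt 12 b = d) := by
  simp [eqK, Nat.beq_eq]

theorem iv_check : allBelow 24 (fun a =>
    Nat.blt (iv a) 24 && Nat.beq (mt a (iv a)) 0 && Nat.beq (mt (iv a) a) 0 &&
    Nat.beq (mt 0 a) a && Nat.beq (mt a 0) a && (!qa a || qa (iv a))) = true := by decide +kernel

theorem iv_spec {a : ℕ} (ha : a < 24) :
    iv a < 24 ∧ mt a (iv a) = 0 ∧ mt (iv a) a = 0 ∧ mt 0 a = a ∧ mt a 0 = a ∧
      (qa a = true → qa (iv a) = true) := by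
  have h := allBelow_get iv_check ha
  simp only [Bool.and_eq_true, Nat.blt_eq] at h
  exact ⟨h.1.1.1.1.1, Nat.eq_of_beq_eq_true h.1.1.1.1.2, Nat.eq_of_beq_eq_true h.1.1.1.2,
    Nat.eq_of_beq_eq_true h.1.1.2, Nat.eq_of_beq_eq_true h.1.2,
    fun e => by simpa [e] using h.2⟩

theorem el_iv {a : ℕ} (ha : a < 24) : el (iv a) = (el a)⁻¹ := by
  obtain ⟨h1, h2, -⟩ := iv_spec ha
  exact (inv_eq_of_mul_eq_one_right (by rw [(el_mul ha h1).1, h2, el_zero])).symm

theorem cj_spec {a b : ℕ} (ha : a < 24) (hb : b < 24) :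
    cj a b < 24 ∧ el a * el b * (el a)⁻¹ = el (cj a b) := by
  obtain ⟨h1, -⟩ := iv_spec ha
  obtain ⟨e1, l1⟩ := el_mul ha hb
  obtain ⟨e2, l2⟩ := el_mul l1 h1
  exact ⟨l2, by rw [← el_iv ha, e1, e2]; rfl⟩

theorem qa_lt {a : ℕ} (h : qa a = true) : a < 24 := by
  simp only [qa, Bool.and_eq_true, Nat.blt_eq] at h
  exact h.1

theorem qa_check : allBelow 24 (fun a => allBelow 24 fun b =>
    !(qa a && qa b) || (qa (mt a b) && qa (cj a b))) = true := by decide +kernel

theorem qa_mul {a b : ℕ} (ha : qa a = true) (hb : qa b = true) : qa (mt a b) = true := by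
  have h := allBelow_get (allBelow_get qa_check (qa_lt ha)) (qa_lt hb)
  simp [ha, hb] at h
  exact h.1

theorem slWords13_check : allBelow 24 (fun a =>
    ((List.range 8).any fun k => (List.range 3).any fun j =>
      Nat.beq (mt (3 * k) j) a && Nat.blt j 3)) = true := by decide +kernel

theorem qa_gen_check : allBelow 8 (fun k => (List.range 4).any fun i => (List.range 2).any fun j =>
    Nat.beq (mt ((mt 3)^[i] 0) ((mt 6)^[j] 0)) (3 * k)) = true := by decide +kernel

/-- Homomorphisms agreeing on `el 1`, `el 3`, `el 6` are equal. -/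
theorem hom_ext {M : Type*} [Monoid M] {f g : SL23 →* M} (h1 : f (el 1) = g (el 1))
    (h3 : f (el 3) = g (el 3)) (h6 : f (el 6) = g (el 6)) : f = g := by
  have hm : ∀ a b, a < 24 → b < 24 → f (el a) = g (el a) → f (el b) = g (el b) →
      f (el (mt a b)) = g (el (mt a b)) := fun a b ha hb e1 e2 => by
    rw [← (el_mul ha hb).1, map_mul, map_mul, e1, e2]
  have h0 : f (el 0) = g (el 0) := by rw [el_zero, map_one, map_one]
  have hit : ∀ c, c < 24 → f (el c) = g (el c) → ∀ i,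
      (mt c)^[i] 0 < 24 ∧ f (el ((mt c)^[i] 0)) = g (el ((mt c)^[i] 0)) := by
    intro c hc e i
    induction i with
    | zero => exact ⟨by norm_num, h0⟩
    | succ i ih =>
      rw [Function.iterate_succ_apply']
      exact ⟨(el_mul hc ih.1).2, hm _ _ hc ih.1 e ih.2⟩
  have hq : ∀ k < 8, f (el (3 * k)) = g (el (3 * k)) := fun k hk => by
    have h := allBelow_get qa_gen_check hk
    simp only [List.any_eq_true] at h
    obtain ⟨i, -, j, -, e⟩ := h
    rw [← Nat.eq_of_beq_eq_true e]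
    exact hm _ _ (hit 3 (by norm_num) h3 i).1 (hit 6 (by norm_num) h6 j).1
      (hit 3 (by norm_num) h3 i).2 (hit 6 (by norm_num) h6 j).2
  have hx : ∀ j < 3, f (el j) = g (el j) := by
    intro j hj
    interval_cases j
    · exact h0
    · exact h1
    · have e := hm 1 1 (by norm_num) (by norm_num) h1 h1
      rwa [show mt 1 1 = 2 by decide +kernel] at e
  refine MonoidHom.ext fun x => ?_
  obtain ⟨a, ha, rfl⟩ := el_surj x
  have h := allBelow_get slWords13_check ha
  simp only [List.any_eq_true, Bool.and_eq_true, Nat.blt_eq] at h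
  obtain ⟨k, hk, j, -, e, hj⟩ := h
  rw [← Nat.eq_of_beq_eq_true e]
  have hk8 := List.mem_range.1 hk
  exact hm _ _ (by omega) (by omega) (hq k hk8) (hx j hj)

/-- Two factors and the structure of the centraliser. -/
structure Dat {G : Type u} [Group G] (z : G) where
  i1 : SL23 →* G
  i2 : SL23 →* G
  inj1 : Function.Injective i1
  inj2 : Function.Injective i2
  neg1 : i1 (el 12) = z
  neg2 : i2 (el 12) = z
  comm : ∀ x y, i1 x * i2 y = i2 y * i1 x
  sep : ∀ x y, i1 x = i2 y → x = el 0 ∨ x = el 12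
  card : Nat.card ↥(Subgroup.centralizer ({z} : Set G)) = 1152
  /-- The product of the factors is normal. -/
  normK : ∀ h : G, h * z = z * h → ∀ x y, ∃ x' y', h * (i1 x * i2 y) * h⁻¹ = i1 x' * i2 y'
  /-- The factor group is abelian. -/
  commK : ∀ a b : G, a * z = z * a → b * z = z * b → ∃ x y, a * b * a⁻¹ * b⁻¹ = i1 x * i2 y
  /-- The two-core is self-centralising. -/
  centQ : ∀ h : G, h * z = z * h →
    (∀ a b, qa a = true → qa b = true → h * (i1 (el a) * i2 (el b)) = i1 (el a) * i2 (el b) * h) →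
    h = 1 ∨ h = z

namespace Dat

variable {G : Type u} [Group G] {z : G} (A : Dat z)

/-- The element of a pair of numbers. -/
noncomputable def ck (a b : ℕ) : G := A.i1 (el a) * A.i2 (el b)

/-- Membership of the two-core. -/
def InQ (x : G) : Prop := ∃ a b, qa a = true ∧ qa b = true ∧ x = A.ck a b

theorem ck_zero : A.ck 0 0 = 1 := by rw [ck, el_zero, map_one, map_one, one_mul]

theorem ck_left (a : ℕ) : A.ck a 0 = A.i1 (el a) := by rw [ck, el_zero, map_one, mul_one]

theorem ck_right (b : ℕ) : A.ck 0 b = A.i2 (el b) := by rw [ck, el_zero, map_one, one_mul]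

theorem ck_neg : A.ck 12 0 = z := by rw [A.ck_left, A.neg1]

theorem z_sq (A : Dat z) : z * z = 1 := by
  calc z * z = A.i1 (el 12) * A.i1 (el 12) := by rw [A.neg1]
    _ = 1 := by
        rw [← map_mul, (el_mul (by norm_num) (by norm_num)).1,
          show mt 12 12 = 0 by decide +kernel, el_zero, map_one]

theorem ck_mul {a b c d : ℕ} (ha : a < 24) (hb : b < 24) (hc : c < 24) (hd : d < 24) :
    A.ck a b * A.ck c d = A.ck (mt a c) (mt b d) := by
  calc A.ck a b * A.ck c d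
      = A.i1 (el a) * (A.i2 (el b) * A.i1 (el c)) * A.i2 (el d) := by simp only [ck, mul_assoc]
    _ = A.i1 (el a) * A.i1 (el c) * (A.i2 (el b) * A.i2 (el d)) := by
        rw [← A.comm]; simp only [mul_assoc]
    _ = _ := by rw [← map_mul, ← map_mul, (el_mul ha hc).1, (el_mul hb hd).1]; rfl

theorem ck_inv {a b : ℕ} (ha : a < 24) (hb : b < 24) : (A.ck a b)⁻¹ = A.ck (iv a) (iv b) := by
  refine inv_eq_of_mul_eq_one_right ?_
  rw [A.ck_mul ha hb (iv_spec ha).1 (iv_spec hb).1, (iv_spec ha).2.1, (iv_spec hb).2.1, A.ck_zero]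

theorem ck_conj {a b c d : ℕ} (ha : a < 24) (hb : b < 24) (hc : c < 24) (hd : d < 24) :
    A.ck a b * A.ck c d * (A.ck a b)⁻¹ = A.ck (cj a c) (cj b d) := by
  rw [A.ck_inv ha hb, A.ck_mul ha hb hc hd,
    A.ck_mul (el_mul ha hc).2 (el_mul hb hd).2 (iv_spec ha).1 (iv_spec hb).1]
  rfl

theorem ck_central (a b : ℕ) : A.ck a b * z = z * A.ck a b := by
  have h1 : ∀ x, Commute (A.i1 x) z := fun x => by
    show A.i1 x * z = z * A.i1 x
    calc A.i1 x * z = A.i1 x * A.i1 (el 12) := by rw [A.neg1]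
      _ = A.i1 (el 12) * A.i1 x := by rw [← map_mul, ← map_mul, el_neg_comm]
      _ = z * A.i1 x := by rw [A.neg1]
  have h2 : ∀ x, Commute (A.i2 x) z := fun x => by
    show A.i2 x * z = z * A.i2 x
    calc A.i2 x * z = A.i2 x * A.i2 (el 12) := by rw [A.neg2]
      _ = A.i2 (el 12) * A.i2 x := by rw [← map_mul, ← map_mul, el_neg_comm]
      _ = z * A.i2 x := by rw [A.neg2]
  exact ((h1 _).mul_left (h2 _)).eq

theorem eq_iff {a b c d : ℕ} (ha : a < 24) (hb : b < 24) (hc : c < 24) (hd : d < 24) :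
    A.ck a b = A.ck c d ↔ eqK a b c d = true := by
  rw [eqK_iff]
  constructor
  · intro h
    obtain ⟨i1c, -⟩ := iv_spec hc
    obtain ⟨i2b, -⟩ := iv_spec hb
    have h' : A.i1 (el (mt (iv c) a)) = A.i2 (el (mt d (iv b))) := by
      rw [← (el_mul i1c ha).1, ← (el_mul hd i2b).1, map_mul, map_mul, el_iv hc, el_iv hb, map_inv,
        map_inv, eq_mul_inv_iff_mul_eq, mul_assoc, inv_mul_eq_iff_eq_mul]
      exact h
    rcases A.sep _ _ h' with h0 | h0
    · left
      rw [← (el_mul i1c ha).1, el_iv hc, el_zero, inv_mul_eq_one] at h0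
      obtain rfl := el_inj hc ha h0
      refine ⟨rfl, el_inj hb hd (A.inj2 ?_)⟩
      exact mul_left_cancel h
    · right
      have ea : el a = el c * el 12 := by
        rw [← h0, ← (el_mul i1c ha).1, el_iv hc, mul_inv_cancel_left]
      have hcz : el a = el (mt 12 c) := by rw [ea, ← el_neg_comm, (el_mul (by norm_num) hc).1]
      have hlt := (el_mul (by norm_num : 12 < 24) hc).2
      obtain rfl := el_inj ha hlt hcz
      have hh : mt 12 (mt 12 c) = c := el_inj (el_mul (by norm_num) hlt).2 hc (by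
        rw [← (el_mul (by norm_num) hlt).1, ← (el_mul (by norm_num) hc).1, ← mul_assoc,
          (el_mul (by norm_num) (by norm_num)).1, show mt 12 12 = 0 by decide +kernel, el_zero,
          one_mul])
      refine ⟨hh, el_inj (el_mul (by norm_num) hb).2 hd (A.inj2 ?_)⟩
      have h2 : A.ck (mt 12 c) b = A.ck c (mt 12 b) := by
        have e12 : A.ck 12 0 = A.ck 0 12 := by rw [A.ck_neg, A.ck_right, A.neg2]
        calc A.ck (mt 12 c) b = A.ck 12 0 * A.ck c b := by
              rw [A.ck_mul (by norm_num) (by norm_num) hc hb, (iv_spec hb).2.2.2.1]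
          _ = A.ck 0 12 * A.ck c b := by rw [e12]
          _ = _ := by rw [A.ck_mul (by norm_num) (by norm_num) hc hb, (iv_spec hc).2.2.2.1]
      rw [h2] at h
      exact mul_left_cancel h
  · rintro (⟨rfl, rfl⟩ | ⟨rfl, rfl⟩)
    · rfl
    · have h12 : A.ck 12 12 = 1 := by
        rw [ck, A.neg2, A.neg1, A.z_sq]
      rw [← A.ck_mul (by norm_num) (by norm_num) ha hb, h12, one_mul]

theorem inQ_ck {a b : ℕ} (ha : qa a = true) (hb : qa b = true) : A.InQ (A.ck a b) :=
  ⟨a, b, ha, hb, rfl⟩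

theorem inQ_mul {x y : G} (hx : A.InQ x) (hy : A.InQ y) : A.InQ (x * y) := by
  obtain ⟨a, b, ha, hb, rfl⟩ := hx
  obtain ⟨c, d, hc, hd, rfl⟩ := hy
  exact ⟨_, _, qa_mul ha hc, qa_mul hb hd, A.ck_mul (qa_lt ha) (qa_lt hb) (qa_lt hc) (qa_lt hd)⟩

theorem inQ_inv {x : G} (hx : A.InQ x) : A.InQ x⁻¹ := by
  obtain ⟨a, b, ha, hb, rfl⟩ := hx
  exact ⟨_, _, (iv_spec (qa_lt ha)).2.2.2.2.2 ha, (iv_spec (qa_lt hb)).2.2.2.2.2 hb,
    A.ck_inv (qa_lt ha) (qa_lt hb)⟩

theorem exists_ck (x y : SL23) : ∃ a b, a < 24 ∧ b < 24 ∧ A.i1 x * A.i2 y = A.ck a b := by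
  obtain ⟨a, ha, rfl⟩ := el_surj x
  obtain ⟨b, hb, rfl⟩ := el_surj y
  exact ⟨a, b, ha, hb, rfl⟩

theorem four_check : allBelow 24 (fun a => allBelow 24 fun b =>
    !eqK (mt (mt a a) (mt a a)) (mt (mt b b) (mt b b)) 0 0 || (qa a && qa b)) = true := by
  decide +kernel

/-- An element of the product with trivial fourth power lies in the two-core. -/
theorem inQ_of_four {a b : ℕ} (ha : a < 24) (hb : b < 24)
    (h : A.ck a b * A.ck a b * (A.ck a b * A.ck a b) = 1) : A.InQ (A.ck a b) := by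
  obtain ⟨-, h1⟩ := el_mul ha ha
  obtain ⟨-, h2⟩ := el_mul hb hb
  rw [A.ck_mul ha hb ha hb, A.ck_mul h1 h2 h1 h2, ← A.ck_zero,
    A.eq_iff (el_mul h1 h1).2 (el_mul h2 h2).2 (by norm_num) (by norm_num)] at h
  have hc := allBelow_get (allBelow_get four_check ha) hb
  simp [h] at hc
  exact ⟨a, b, hc.1, hc.2, rfl⟩

theorem inQ_four_check : allBelow 24 (fun a => allBelow 24 fun b =>
    !(qa a && qa b) || eqK (mt (mt a a) (mt a a)) (mt (mt b b) (mt b b)) 0 0) = true := by
  decide +kernel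

theorem inQ_pow_four {x : G} (hx : A.InQ x) : x * x * (x * x) = 1 := by
  obtain ⟨a, b, ha, hb, rfl⟩ := hx
  have ha' := qa_lt ha
  have hb' := qa_lt hb
  obtain ⟨-, h1⟩ := el_mul ha' ha'
  obtain ⟨-, h2⟩ := el_mul hb' hb'
  rw [A.ck_mul ha' hb' ha' hb', A.ck_mul h1 h2 h1 h2, ← A.ck_zero,
    A.eq_iff (el_mul h1 h1).2 (el_mul h2 h2).2 (by norm_num) (by norm_num)]
  have hc := allBelow_get (allBelow_get inQ_four_check ha') hb'
  simpa [ha, hb] using hc

/-- The two-core is normal. -/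
theorem inQ_conj {h x : G} (hh : h * z = z * h) (hx : A.InQ x) : A.InQ (h * x * h⁻¹) := by
  have h4 := A.inQ_pow_four hx
  obtain ⟨a, b, ha, hb, rfl⟩ := hx
  obtain ⟨x', y', e⟩ := A.normK h hh (el a) (el b)
  obtain ⟨c, d, hc, hd, e'⟩ := A.exists_ck x' y'
  have e2 : h * A.ck a b * h⁻¹ = A.ck c d := e.trans e'
  rw [e2]
  refine A.inQ_of_four hc hd ?_
  have := congrArg (fun y => h * y * h⁻¹) h4
  simp only [mul_one, mul_inv_cancel] at this
  rw [← this, ← e2]
  simp only [mul_assoc, inv_mul_cancel_left]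

/-- A commutator of centralising elements with trivial fourth power lies in the two-core. -/
theorem inQ_comm {a b : G} (ha : a * z = z * a) (hb : b * z = z * b)
    (h : a * b * a⁻¹ * b⁻¹ * (a * b * a⁻¹ * b⁻¹) *
      (a * b * a⁻¹ * b⁻¹ * (a * b * a⁻¹ * b⁻¹)) = 1) : A.InQ (a * b * a⁻¹ * b⁻¹) := by
  obtain ⟨x, y, e⟩ := A.commK a b ha hb
  obtain ⟨c, d, hc, hd, e'⟩ := A.exists_ck x y
  rw [e.trans e'] at h ⊢
  exact A.inQ_of_four hc hd h

/-- Changing the factors by inner automorphisms. -/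
def twist (A : Dat z) (u v : SL23) : Dat z where
  i1 := A.i1.comp (MulAut.conj u).toMonoidHom
  i2 := A.i2.comp (MulAut.conj v).toMonoidHom
  inj1 := A.inj1.comp (MulAut.conj u).injective
  inj2 := A.inj2.comp (MulAut.conj v).injective
  neg1 := by
    show A.i1 (u * el 12 * u⁻¹) = z
    rw [← el_neg_comm, mul_inv_cancel_right, A.neg1]
  neg2 := by
    show A.i2 (v * el 12 * v⁻¹) = z
    rw [← el_neg_comm, mul_inv_cancel_right, A.neg2]
  comm x y := A.comm _ _
  sep x y h := by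
    rcases A.sep _ _ h with e | e
    · left
      rw [el_zero] at e ⊢
      simpa using e
    · right
      have h12 : u * el 12 * u⁻¹ = el 12 := by rw [← el_neg_comm, mul_inv_cancel_right]
      exact (MulAut.conj u).injective (e.trans h12.symm)
  card := A.card
  normK h hh x y := by
    obtain ⟨x', y', e⟩ := A.normK h hh (u * x * u⁻¹) (v * y * v⁻¹)
    refine ⟨u⁻¹ * x' * u, v⁻¹ * y' * v, e.trans ?_⟩
    show _ = A.i1 (u * (u⁻¹ * x' * u) * u⁻¹) * A.i2 (v * (v⁻¹ * y' * v) * v⁻¹)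
    simp [mul_assoc]
  commK a b ha hb := by
    obtain ⟨x', y', e⟩ := A.commK a b ha hb
    refine ⟨u⁻¹ * x' * u, v⁻¹ * y' * v, e.trans ?_⟩
    show _ = A.i1 (u * (u⁻¹ * x' * u) * u⁻¹) * A.i2 (v * (v⁻¹ * y' * v) * v⁻¹)
    simp [mul_assoc]
  centQ h hh hc := by
    refine A.centQ h hh fun a b ha hb => ?_
    obtain ⟨p, hp, rfl⟩ := el_surj u
    obtain ⟨q, hq, rfl⟩ := el_surj v
    obtain ⟨hip, -⟩ := iv_spec hp
    obtain ⟨hiq, -⟩ := iv_spec hq
    obtain ⟨l1, e1⟩ := cj_spec hip (qa_lt ha)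
    obtain ⟨l2, e2⟩ := cj_spec hiq (qa_lt hb)
    have key : ∀ {p a : ℕ}, p < 24 → a < 24 → qa a = true → qa (cj p a) = true := by
      intro p a hp ha hqa
      have hc' := allBelow_get (allBelow_get (show allBelow 24 (fun p => allBelow 24 fun a =>
        !qa a || qa (cj p a)) = true by decide +kernel) hp) ha
      simpa [hqa] using hc'
    have := hc _ _ (key hip (qa_lt ha) ha) (key hiq (qa_lt hb) hb)
    simpa [← e1, ← e2, el_iv hp, el_iv hq, mul_assoc] using this

/-- Transport by conjugation. -/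
def move (A : Dat z) (g : G) : Dat (g * z * g⁻¹) where
  i1 := (MulAut.conj g).toMonoidHom.comp A.i1
  i2 := (MulAut.conj g).toMonoidHom.comp A.i2
  inj1 := (MulAut.conj g).injective.comp A.inj1
  inj2 := (MulAut.conj g).injective.comp A.inj2
  neg1 := by show g * A.i1 (el 12) * g⁻¹ = _; rw [A.neg1]
  neg2 := by show g * A.i2 (el 12) * g⁻¹ = _; rw [A.neg2]
  comm x y := by
    show g * A.i1 x * g⁻¹ * (g * A.i2 y * g⁻¹) = g * A.i2 y * g⁻¹ * (g * A.i1 x * g⁻¹)
    rw [conj_mul, conj_mul, A.comm]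
  sep x y h := A.sep x y ((MulAut.conj g).injective h)
  card := by
    rw [← A.card]
    refine Nat.card_congr (Equiv.subtypeEquiv (MulAut.conj g).symm.toEquiv fun x => ?_)
    simp only [Subgroup.mem_centralizer_singleton_iff]
    show x * (g * z * g⁻¹) = g * z * g⁻¹ * x ↔ g⁻¹ * x * g * z = z * (g⁻¹ * x * g)
    constructor
    · intro h
      calc g⁻¹ * x * g * z = g⁻¹ * (x * (g * z * g⁻¹)) * g := by simp [mul_assoc]
        _ = _ := by rw [h]; simp [mul_assoc]
    · intro h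
      calc x * (g * z * g⁻¹) = g * (g⁻¹ * x * g * z) * g⁻¹ := by simp [mul_assoc]
        _ = _ := by rw [h]; simp [mul_assoc]
  normK h hh x y := by
    obtain ⟨x', y', e⟩ := A.normK (g⁻¹ * h * g) (by
      calc g⁻¹ * h * g * z = g⁻¹ * (h * (g * z * g⁻¹)) * g := by simp [mul_assoc]
        _ = _ := by rw [hh]; simp [mul_assoc]) x y
    refine ⟨x', y', ?_⟩
    show h * (g * A.i1 x * g⁻¹ * (g * A.i2 y * g⁻¹)) * h⁻¹ =
      g * A.i1 x' * g⁻¹ * (g * A.i2 y' * g⁻¹)
    rw [conj_mul, conj_mul, ← e]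
    simp [mul_assoc]
  commK a b ha hb := by
    have hc : ∀ c : G, c * (g * z * g⁻¹) = g * z * g⁻¹ * c → g⁻¹ * c * g * z = z * (g⁻¹ * c * g) :=
      fun c h => by
        calc g⁻¹ * c * g * z = g⁻¹ * (c * (g * z * g⁻¹)) * g := by simp [mul_assoc]
          _ = _ := by rw [h]; simp [mul_assoc]
    obtain ⟨x', y', e⟩ := A.commK _ _ (hc a ha) (hc b hb)
    refine ⟨x', y', ?_⟩
    show a * b * a⁻¹ * b⁻¹ = g * A.i1 x' * g⁻¹ * (g * A.i2 y' * g⁻¹)
    rw [conj_mul, ← e]
    simp [mul_assoc]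
  centQ h hh hc := by
    rcases A.centQ (g⁻¹ * h * g) (by
      calc g⁻¹ * h * g * z = g⁻¹ * (h * (g * z * g⁻¹)) * g := by simp [mul_assoc]
        _ = _ := by rw [hh]; simp [mul_assoc]) (fun a b ha hb => by
      have := hc a b ha hb
      change h * (g * A.i1 (el a) * g⁻¹ * (g * A.i2 (el b) * g⁻¹)) =
        g * A.i1 (el a) * g⁻¹ * (g * A.i2 (el b) * g⁻¹) * h at this
      rw [conj_mul] at this
      calc g⁻¹ * h * g * (A.i1 (el a) * A.i2 (el b))
          = g⁻¹ * (h * (g * (A.i1 (el a) * A.i2 (el b)) * g⁻¹)) * g := by simp [mul_assoc]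
        _ = _ := by rw [this]; simp [mul_assoc]) with e | e
    · left
      calc h = g * (g⁻¹ * h * g) * g⁻¹ := by simp [mul_assoc]
        _ = 1 := by rw [e]; simp
    · right
      calc h = g * (g⁻¹ * h * g) * g⁻¹ := by simp [mul_assoc]
        _ = _ := by rw [e]

theorem move_ck (g : G) (a b : ℕ) : (A.move g).ck a b = g * A.ck a b * g⁻¹ := by
  show g * A.i1 (el a) * g⁻¹ * (g * A.i2 (el b) * g⁻¹) = _
  rw [conj_mul]
  rfl

theorem move_inQ (g x : G) : (A.move g).InQ x ↔ A.InQ (g⁻¹ * x * g) := by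
  constructor
  · rintro ⟨a, b, ha, hb, rfl⟩
    exact ⟨a, b, ha, hb, by rw [A.move_ck]; simp [mul_assoc]⟩
  · rintro ⟨a, b, ha, hb, e⟩
    exact ⟨a, b, ha, hb, by rw [A.move_ck, ← e]; simp [mul_assoc]⟩

theorem twist_inQ {p q : ℕ} (hp : p < 24) (hq : q < 24) (x : G) :
    (A.twist (el p) (el q)).InQ x ↔ A.InQ x := by
  have hck : ∀ a b, a < 24 → b < 24 →
      (A.twist (el p) (el q)).ck a b = A.ck (cj p a) (cj q b) := fun a b ha hb => by
    show A.i1 (el p * el a * (el p)⁻¹) * A.i2 (el q * el b * (el q)⁻¹) = _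
    rw [(cj_spec hp ha).2, (cj_spec hq hb).2]; rfl
  have hc : allBelow 24 (fun p => allBelow 24 fun a => !qa a ||
      (qa (cj p a) && Nat.beq (cj p (cj (iv p) a)) a && qa (cj (iv p) a))) = true := by
    decide +kernel
  have key : ∀ {p a : ℕ}, p < 24 → qa a = true →
      qa (cj p a) = true ∧ cj p (cj (iv p) a) = a ∧ qa (cj (iv p) a) = true := by
    intro p a hp ha
    have h := allBelow_get (allBelow_get hc hp) (qa_lt ha)
    simp [ha] at h
    exact ⟨h.1.1, h.1.2, h.2⟩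
  constructor
  · rintro ⟨a, b, ha, hb, rfl⟩
    exact ⟨_, _, (key hp ha).1, (key hq hb).1, hck a b (qa_lt ha) (qa_lt hb)⟩
  · rintro ⟨a, b, ha, hb, rfl⟩
    refine ⟨_, _, (key hp ha).2.2, (key hq hb).2.2, ?_⟩
    rw [hck _ _ (qa_lt (key hp ha).2.2) (qa_lt (key hq hb).2.2), (key hp ha).2.1, (key hq hb).2.1]

end Dat

end CfsgLib.U43
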