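import Cfsg.Agent.Lib.InvChar.CosetWordGroup
import Cfsg.Agent.Lib.InvChar.CosetPerm
import Cfsg.Agent.Lib.U43.Pres
import Cfsg.Agent.Lib.U43.CertMain
import Cfsg.Agent.Lib.U43.CertM
import Cfsg.Agent.Lib.U43.CertK

/-!
# The group presented by the relators

It has order at most `3 * 3265920` (cosets of `2^4 : A₆`), the word `wordC` is non-trivial in it, and
so it is a triple cover of any simple group of order `3265920` satisfying the relators and killing
`wordC`.  Hence an injective homomorphism into the groups of unitary type `U₄(3)`.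
-/

set_option autoImplicit false
set_option maxRecDepth 100000

namespace CfsgLib.U43

open CfsgLib.InvChar.Coset

/-- The relators, the squares of the letters, and the empty word. -/
def relsAll : List (List ℕ) := relsH ++ relsM ++ [relCom] ++ ([] :: (List.range 7).map fun x => [x, x])

/-- A word for a generator of the kernel of the triple cover. -/
def wordC : List ℕ := [3, 2, 4, 1, 3, 5, 4, 5, 6, 1, 5, 4, 5, 6, 1, 5, 4, 5, 6, 5, 4, 5, 6]

/-- The presentation. -/
def pres : WordPres := ⟨7, relsAll, by norm_num, by decide +kernel, by decide +kernel⟩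

/-- The presented group. -/
abbrev Cover : Type := pres.Grp

/-- The letters below five. -/
def embK : List ℕ := [0, 1, 2, 3, 4]

theorem cert_rels_main : ∀ r ∈ CertMain.cert.rels, r ∈ pres.rels := by decide +kernel

theorem cert_subs_main : ∀ r ∈ CertMain.cert.subs, r ∈ lettersM.map fun x => [x] := by decide +kernel

theorem cert_rels_M : ∀ r ∈ CertM.cert.rels, (∀ x ∈ r, x < lettersM.length) ∧
    r.map (fun x => lettersM.getD x 0) ∈ pres.rels := by decide +kernel

theorem cert_subs_M : ∀ r ∈ CertM.cert.subs, r.map (fun x => lettersM.getD x 0) ∈ embK.map (fun x => [x]) ∧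
    ∀ x ∈ r, x < lettersM.length := by decide +kernel

theorem cert_rels_K : ∀ r ∈ CertK.cert.rels, (∀ x ∈ r, x < embK.length) ∧
    r.map (fun x => embK.getD x 0) ∈ pres.rels := by decide +kernel

theorem cert_subs_K : ∀ r ∈ CertK.cert.subs, r.map (fun x => embK.getD x 0) ∈ ([] : List ℕ).map (fun x => [x]) ∧
    ∀ x ∈ r, x < embK.length := by decide +kernel

theorem card_cover_le : Finite Cover ∧ Nat.card Cover ≤ 9797760 := by
  obtain ⟨h0, h0'⟩ := card_lettersClosure_nil pres.gen
  obtain ⟨hK, hK'⟩ := CertK.covered.chain_step pres.gen pres.gen_mul_self embK [] rfl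
    (pres.rels_subGen embK _ cert_rels_K) (by simp) cert_subs_K h0 h0'
  obtain ⟨hM, hM'⟩ := CertM.covered.chain_step pres.gen pres.gen_mul_self lettersM embK rfl
    (pres.rels_subGen lettersM _ cert_rels_M) (by decide +kernel) cert_subs_M hK hK'
  have hidx := CertMain.covered.index_le pres.gen (lettersClosure pres.gen lettersM) pres.gen_mul_self
    (fun r hr => pres.gen_rel r (cert_rels_main r hr))
    (fun r hr => mem_lettersClosure pres.gen lettersM (cert_subs_main r hr)) pres.closure_gen
  exact card_le_of_index _ hM hidx hM'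

theorem table_chk : CertMain.table.chkPoints relsAll 1701 0 = true := by decide +kernel

theorem table_valid : CertMain.table.Valid relsAll where
  range i hi := (Table.chkPoints_get _ _ _ _ table_chk i (Nat.zero_le i) (by rw [Nat.zero_add]; exact hi)).1
  points i hi := (Table.chkPoints_get _ _ _ _ table_chk i (Nat.zero_le i) (by rw [Nat.zero_add]; exact hi)).2

theorem table_sq : ∀ x < CertMain.table.g, [x, x] ∈ relsAll := by decide +kernel

theorem follow_wordC : CertMain.table.follow wordC 0 ≠ 0 := by decide +kernel

theorem follow_conj : ∀ x < 7, CertMain.table.follow (x :: wordC ++ x :: wordC) 0 ≠ 0 := by decide +kernel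

theorem exists_perm : ∃ φ : Cover →* Equiv.Perm (Fin CertMain.table.n),
    ∀ x < 7, φ (pres.gen x) = table_valid.toPerm table_sq x :=
  pres.exists_hom _ fun r hr => table_valid.wprod_eq_one table_sq hr (pres.lt r hr)

/-- A word moving the first point is not the identity. -/
theorem ne_one_of_follow (L : List ℕ) (hL : ∀ x ∈ L, x < 7)
    (h : CertMain.table.follow L 0 ≠ 0) : wprod pres.gen L ≠ 1 := by
  intro h1
  obtain ⟨φ, hφ⟩ := exists_perm
  refine h ?_
  have e := table_valid.follow_eq table_sq L hL ⟨0, CertMain.covered.hn⟩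
  rw [← map_wprod φ pres.gen (table_valid.toPerm table_sq) L fun x hx => hφ x (hL x hx), h1, map_one,
    inv_one, Equiv.Perm.one_apply] at e
  exact e

/-- A model: a group of order `3265920` satisfying the relators and killing `wordC`. -/
structure IsModel {P : Type*} [Group P] (m : ℕ → P) : Prop where
  rel : ∀ r ∈ relsAll, wprod m r = 1
  wordC : wprod m wordC = 1
  gen : Subgroup.closure (m '' Set.Iio 7) = ⊤
  card : Nat.card P = 3265920

theorem wprod_gen_rel {G : Type*} [Group G] {z : G} {f : ℕ → G} (h : Rels z f) :
    ∀ r ∈ relsAll, wprod f r = 1 := by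
  intro r hr
  simp only [relsAll, List.mem_append, List.mem_cons, List.mem_map, List.not_mem_nil, or_false] at hr
  rcases hr with ((hr | hr) | rfl) | rfl | ⟨x, -, rfl⟩
  · exact h.relH r hr
  · exact h.relM r hr
  · exact h.com
  · simp [wprod]
  · simp [wprod, h.sq x]

/-- **The homomorphism from the model.** -/
theorem exists_injective_of_rels {P : Type*} [Group P] [IsSimpleGroup P] {m : ℕ → P} (hm : IsModel m)
    {G : Type*} [Group G] {z : G} {f : ℕ → G} (h : Rels z f) (hz : z ≠ 1)
    (hQ : ∀ w ∈ Subgroup.centralizer ({z} : Set G),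
      (∀ g ∈ Subgroup.centralizer ({z} : Set G), g * w = w * g) → w ^ 3 = 1 → w = 1) :
    ∃ ψ : P →* G, Function.Injective ψ ∧ ∀ x < 7, ψ (m x) = f x := by
  obtain ⟨π, hπ⟩ := pres.exists_hom m hm.rel
  obtain ⟨ψ, hψ⟩ := pres.exists_hom f (wprod_gen_rel h)
  obtain ⟨hfin, hle⟩ := card_cover_le
  have : Finite Cover := hfin
  have hπs : Function.Surjective π := by
    rw [← MonoidHom.range_eq_top, ← top_le_iff, ← hm.gen, Subgroup.closure_le]
    rintro _ ⟨x, hx, rfl⟩
    exact ⟨pres.gen x, hπ x hx⟩
  set c := wprod pres.gen wordC with hc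
  have hclt : ∀ x ∈ wordC, x < 7 := by decide
  have hcne : c ≠ 1 := ne_one_of_follow _ hclt follow_wordC
  have hcker : c ∈ π.ker := by
    rw [MonoidHom.mem_ker, hc, map_wprod π pres.gen m wordC fun x hx => hπ x (hclt x hx), hm.wordC]
  have hker : Nat.card π.ker ≤ 3 := by
    have e := π.ker.card_mul_index
    rw [Subgroup.index_ker, MonoidHom.range_eq_top.2 hπs, Subgroup.card_top, hm.card] at e
    have hle' : Nat.card pres.Grp ≤ 9797760 := hle
    omega
  have hpow : ∀ k ∈ π.ker, k ≠ 1 → k = c ∨ k = c * c := by
    intro k hk hk1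
    by_contra hno
    push_neg at hno
    classical
    have hcc : c * c ≠ 1 := by
      rw [hc, ← wprod_append]
      exact ne_one_of_follow _ (by decide) (by decide +kernel)
    have hsub : ({1, c, c * c, k} : Finset Cover) ⊆ (Set.toFinite (π.ker : Set Cover)).toFinset := by
      intro u hu
      simp only [Finset.mem_insert, Finset.mem_singleton] at hu
      simp only [Set.Finite.mem_toFinset, SetLike.mem_coe]
      rcases hu with rfl | rfl | rfl | rfl
      exacts [one_mem _, hcker, mul_mem hcker hcker, hk]
    have hcard := Finset.card_le_card hsub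
    have hcc' : c ≠ c * c := fun e => hcne (mul_left_cancel (a := c) (by rw [← e, mul_one]))
    rw [← Set.ncard_eq_toFinset_card, Finset.card_insert_of_notMem (by simp [Ne.symm hcne, Ne.symm hcc, Ne.symm hk1]),
      Finset.card_insert_of_notMem (by simp [hcc', Ne.symm hno.1]), Finset.card_insert_of_notMem (by simp [Ne.symm hno.2]),
      Finset.card_singleton] at hcard
    have : (π.ker : Set Cover).ncard = Nat.card π.ker := (Nat.card_coe_set_eq _).symm
    omega
  have hc3 : c ^ 3 = 1 := by
    have e : c * c * c ∈ π.ker := mul_mem (mul_mem hcker hcker) hcker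
    by_contra h3
    rcases hpow _ e (by rwa [pow_three'] at h3) with e' | e'
    · exact ne_one_of_follow (wordC ++ wordC) (by decide) (by decide +kernel)
        (by rw [wprod_append, ← hc]; exact mul_right_cancel (b := c) (by rw [e', one_mul]))
    · exact hcne (mul_left_cancel (a := c * c) (by rw [e', mul_one]))
  have hcentral : ∀ x < 7, pres.gen x * c * pres.gen x = c := by
    intro x hx
    have hmem : pres.gen x * c * pres.gen x ∈ π.ker := by
      rw [MonoidHom.mem_ker, map_mul, map_mul, MonoidHom.mem_ker.1 hcker, mul_one, ← map_mul,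
        pres.gen_mul_self, map_one]
    have hne1 : pres.gen x * c * pres.gen x ≠ 1 := fun e => hcne (by
      calc c = pres.gen x * (pres.gen x * c * pres.gen x) * pres.gen x := by
            simp only [← mul_assoc, pres.gen_mul_self, one_mul]; rw [mul_assoc, pres.gen_mul_self, mul_one]
        _ = 1 := by rw [e, mul_one, pres.gen_mul_self])
    refine (hpow _ hmem hne1).resolve_right fun e => ?_
    refine ne_one_of_follow (x :: wordC ++ x :: wordC) ?_ (follow_conj x hx) ?_
    · simp only [List.mem_append, List.mem_cons]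
      rintro y ((rfl | hy) | (rfl | hy))
      exacts [hx, hclt y hy, hx, hclt y hy]
    · show wprod pres.gen ((x :: wordC) ++ (x :: wordC)) = 1
      rw [wprod_append, show wprod pres.gen (x :: wordC) = pres.gen x * c from by
        rw [hc]; simp [wprod], ← mul_assoc, e, mul_assoc, ← hc3, pow_three']
      group
  -- the image of `c` is central in the centraliser of `z`
  have hψc : ψ c = 1 := by
    have hcomm : ∀ x < 7, f x * ψ c = ψ c * f x := fun x hx => by
      have e := congrArg ψ (hcentral x hx)
      rw [map_mul, map_mul, hψ x hx] at e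
      calc f x * ψ c = f x * ψ c * (f x * f x) := by rw [h.sq, mul_one]
        _ = ψ c * f x := by rw [← mul_assoc, e]
    refine hQ _ ?_ (fun g hg => ?_) (by rw [← map_pow, hc3, map_one])
    · rw [Subgroup.mem_centralizer_singleton_iff, ← h.zeq, hcomm 0 (by norm_num)]
    · have : g ∈ Subgroup.centralizer ({ψ c} : Set G) := by
        refine (Subgroup.closure_le _).2 ?_ (h.centralizer_le hg)
        rintro _ ⟨x, hx, rfl⟩
        exact Subgroup.mem_centralizer_singleton_iff.2 (hcomm x (by
          have : ∀ x ∈ lettersH, x < 7 := by decide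
          exact this x hx))
      exact Subgroup.mem_centralizer_singleton_iff.1 this
  have hkle : π.ker ≤ ψ.ker := fun k hk => by
    rcases eq_or_ne k 1 with rfl | hk1
    · exact one_mem _
    rw [MonoidHom.mem_ker]
    rcases hpow k hk hk1 with rfl | rfl <;> simp [hψc]
  let ψ' : P →* G := MonoidHom.liftOfSurjective π hπs ⟨ψ, hkle⟩
  have hψ' : ∀ x < 7, ψ' (m x) = f x := fun x hx => by
    rw [← hπ x hx, ← hψ x hx]
    exact MonoidHom.liftOfRightInverse_comp_apply _ _ _ ⟨ψ, hkle⟩ _
  refine ⟨ψ', ?_, hψ'⟩
  rcases IsSimpleGroup.eq_bot_or_eq_top_of_normal ψ'.ker inferInstance with hb | ht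
  · exact (MonoidHom.ker_eq_bot_iff _).1 hb
  · exfalso
    refine hz ?_
    rw [← h.zeq, ← hψ' 0 (by norm_num), ← MonoidHom.mem_ker, ht]
    exact Subgroup.mem_top _

end CfsgLib.U43
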