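import Cfsg.Agent.Lib.Invol.Strong
import Mathlib.GroupTheory.Index
import Mathlib.GroupTheory.Sylow
import Mathlib.Tactic

/-!
# A subgroup of order `3265920` containing an involution centraliser

It is the whole group when its involutions form one class, the centraliser has order `1152` and it has
no element of order `21` or `35`: otherwise it would be strongly embedded, and the intersection with a
conjugate would be a subgroup of odd order transitive on `2835` involutions.
-/

set_option autoImplicit false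

namespace CfsgLib.U43

open CfsgLib.Invol

/-- A group of odd order dividing `3265920`, divisible by `2835`, has an element of order `21` or `35`. -/
theorem exists_orderOf_twentyone_or_thirtyfive {D : Type*} [Group D] [Finite D]
    (hodd : Odd (Nat.card D)) (h1 : Nat.card D ∣ 3265920) (h2 : 2835 ∣ Nat.card D) :
    ∃ x : D, orderOf x = 21 ∨ orderOf x = 35 := by
  have hd : Nat.card D ∣ 25515 := by
    refine Nat.Coprime.dvd_of_dvd_mul_left ?_ (show Nat.card D ∣ 2 ^ 7 * 25515 by norm_num; exact h1)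
    exact (Nat.coprime_two_right.2 hodd).pow_right 7
  obtain ⟨k, hk⟩ := h2
  have hk9 : k ∣ 9 := Nat.dvd_of_mul_dvd_mul_left (by norm_num : 0 < 2835) (hk ▸ hd)
  have : Fact (Nat.Prime 7) := ⟨by norm_num⟩
  obtain ⟨P⟩ := (inferInstance : Nonempty (Sylow 7 D))
  have hkc : k = 1 ∨ k = 3 ∨ k = 9 := by
    have := Nat.le_of_dvd (by norm_num) hk9
    interval_cases k <;> first | omega | (norm_num at hk9)
  have hPc : Nat.card P = 7 := by
    obtain ⟨n, hn⟩ := IsPGroup.iff_card.1 P.isPGroup'
    have hdvd : 7 ^ 1 ∣ Nat.card P := P.pow_dvd_card_of_pow_dvd_card (by rw [hk]; exact ⟨405 * k, by ring⟩)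
    have hle : Nat.card P ∣ Nat.card D := Subgroup.card_subgroup_dvd_card _
    rw [hn] at hdvd hle ⊢
    rcases n with _ | _ | n
    · norm_num at hdvd
    · norm_num
    · exfalso
      have := (pow_dvd_pow 7 (show 2 ≤ n + 2 by omega)).trans hle
      rcases hkc with rfl | rfl | rfl <;> rw [hk] at this <;> norm_num at this
  let N : Subgroup D := Subgroup.normalizer ((P : Subgroup D) : Set D)
  have hidx : N.index % 7 = 1 := by
    have h := card_sylow_modEq_one 7 D
    rw [P.card_eq_index_normalizer] at h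
    exact h
  -- conjugation on `P`: the kernel has index at most `6`
  let Φ : N →* MulAut (P : Subgroup D) := Subgroup.normalizerMonoidHom (P : Subgroup D)
  have hcyc : IsCyclic (P : Subgroup D) := isCyclic_of_prime_card hPc
  have haut : Nat.card (MulAut (P : Subgroup D)) = 6 := by
    rw [IsCyclic.card_mulAut, hPc]; decide +kernel
  have hrange : Nat.card Φ.range ∣ 3 := by
    have h6 : Nat.card Φ.range ∣ 6 := haut ▸ Subgroup.card_subgroup_dvd_card _
    have ho : Odd (Nat.card Φ.range) := by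
      obtain ⟨m, hm⟩ := (Subgroup.card_range_dvd Φ).trans (Subgroup.card_subgroup_dvd_card N)
      exact (Nat.odd_mul.1 (hm ▸ hodd)).1
    exact Nat.Coprime.dvd_of_dvd_mul_left (Nat.coprime_two_right.2 ho) (show _ ∣ 2 * 3 from h6)
  have hKN : Nat.card Φ.ker * Nat.card Φ.range * N.index = 2835 * k := by
    rw [← hk, ← Subgroup.card_mul_index N]
    congr 1
    rw [← Subgroup.card_mul_index Φ.ker, Subgroup.index_ker]
  have hKP : (P : Subgroup D).subgroupOf N ≤ Φ.ker := by
    intro x hx
    rw [MonoidHom.mem_ker]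
    ext y
    have hxy : (⟨(x : D), hx⟩ : (P : Subgroup D)) * y = y * ⟨(x : D), hx⟩  := (IsCyclic.commGroup (α := (P : Subgroup D))).mul_comm _ _
    show (x : D) * y * (x : D)⁻¹ = y
    rw [mul_inv_eq_iff_eq_mul]
    exact congrArg Subtype.val hxy
  -- the kernel has order divisible by `3` or `5`
  have h35 : 3 ∣ Nat.card Φ.ker ∨ 5 ∣ Nat.card Φ.ker := by
    by_contra hno
    push_neg at hno
    have hcop : Nat.Coprime (Nat.card Φ.ker) 3645 := by
      rw [show 3645 = 3 ^ 6 * 5 by norm_num]
      exact Nat.Coprime.mul_right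
        (((Nat.Prime.coprime_iff_not_dvd Nat.prime_three).2 hno.1).symm.pow_right 6)
        ((Nat.Prime.coprime_iff_not_dvd Nat.prime_five).2 hno.2).symm
    have h7 : Nat.card Φ.ker ∣ 7 := by
      refine hcop.dvd_of_dvd_mul_left ?_
      refine dvd_trans (Dvd.intro (Nat.card Φ.range * N.index) (by rw [← mul_assoc, hKN] : _ = 2835 * k)) ?_
      rcases hkc with rfl | rfl | rfl <;> norm_num
    have hP7 : 7 ∣ Nat.card Φ.ker := by
      have e := Nat.card_congr (Subgroup.subgroupOfEquivOfLe (Subgroup.le_normalizer (H := (P : Subgroup D)))).toEquiv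
      have h := Subgroup.card_dvd_of_le hKP
      rw [show Nat.card ((P : Subgroup D).subgroupOf N) = 7 from e.trans hPc] at h
      exact h
    rw [Nat.dvd_antisymm h7 hP7] at hKN
    rcases (Nat.dvd_prime Nat.prime_three).1 hrange with h | h <;>
      rcases hkc with rfl | rfl | rfl <;> rw [h] at hKN <;> omega
  obtain ⟨q, hq, hq35, hqd⟩ : ∃ q, q.Prime ∧ (q = 3 ∨ q = 5) ∧ q ∣ Nat.card Φ.ker := by
    rcases h35 with h | h
    exacts [⟨3, Nat.prime_three, Or.inl rfl, h⟩, ⟨5, Nat.prime_five, Or.inr rfl, h⟩]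
  have : Fact q.Prime := ⟨hq⟩
  obtain ⟨y, hy⟩ := exists_prime_orderOf_dvd_card' q hqd
  obtain ⟨x, hx⟩ := exists_prime_orderOf_dvd_card' (G := (P : Subgroup D)) 7 (by rw [hPc])
  have hcomm : Commute (x : D) ((y : N) : D) := by
    have h := congrArg (fun f : MulAut (P : Subgroup D) => ((f x : (P : Subgroup D)) : D)) (MonoidHom.mem_ker.1 y.2)
    have h' : ((y : N) : D) * x * ((y : N) : D)⁻¹ = x := h
    exact (mul_inv_eq_iff_eq_mul.1 h').symm
  refine ⟨(x : D) * ((y : N) : D), ?_⟩
  have hxo : orderOf (x : D) = 7 := (Subgroup.orderOf_coe x).trans hx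
  have hyo : orderOf ((y : N) : D) = q := ((Subgroup.orderOf_coe _).trans (Subgroup.orderOf_coe _)).trans hy
  rw [hcomm.orderOf_mul_eq_mul_orderOf_of_coprime (by rw [hxo, hyo]; rcases hq35 with rfl | rfl <;> norm_num),
    hxo, hyo]
  rcases hq35 with rfl | rfl <;> simp

/-- A subgroup with these properties is the whole group. -/
theorem eq_top_of_centralizer {G : Type*} [Group G] [Finite G] {P : Subgroup G} {z : G}
    (hz : orderOf z = 2) (hC : Subgroup.centralizer ({z} : Set G) ≤ P)
    (hcard : Nat.card (Subgroup.centralizer ({z} : Set G)) = 1152) (hP : Nat.card P = 3265920)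
    (hconj : ∀ x ∈ P, orderOf x = 2 → ∃ p ∈ P, p * z * p⁻¹ = x)
    (h21 : ∀ x ∈ P, orderOf x ≠ 21) (h35 : ∀ x ∈ P, orderOf x ≠ 35) : P = ⊤ := by
  by_contra hne
  have hzP : z ∈ P := hC (Subgroup.mem_centralizer_singleton_iff.2 rfl)
  have hmem : ∀ g x, x ∈ P → orderOf x = 2 → g⁻¹ * x * g ∈ P → g ∈ P := by
    intro g x hx hx2 hgx
    obtain ⟨p, hp, hpx⟩ := hconj x hx hx2
    obtain ⟨q, hq, hqx⟩ := hconj _ hgx (by rw [orderOf_conj_inv_eq, hx2])
    have hc : p⁻¹ * g * q ∈ Subgroup.centralizer ({z} : Set G) := by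
      rw [Subgroup.mem_centralizer_singleton_iff]
      have e : g * (q * z * q⁻¹) * g⁻¹ = p * z * p⁻¹ := by rw [hqx, hpx]; group
      calc p⁻¹ * g * q * z = p⁻¹ * (g * (q * z * q⁻¹) * g⁻¹) * g * q := by group
        _ = z * (p⁻¹ * g * q) := by rw [e]; group
    have := P.mul_mem (P.mul_mem hp (hC hc)) (P.inv_mem hq)
    simpa [mul_assoc] using this
  have hse : Cfsg.IsStronglyEmbedded P := by
    refine ⟨hne, hP ▸ ⟨1632960, rfl⟩, fun g hg => ?_⟩
    by_contra hev
    rw [Nat.not_odd_iff_even] at hev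
    obtain ⟨x, hx, hx2⟩ := exists_invol_mem hev
    obtain ⟨hxP, y, hy, rfl⟩ := hx
    exact hg (hmem g _ hxP hx2 (by simpa [mul_assoc] using hy))
  obtain ⟨w, hwP, hw⟩ := se_exists_invol_notMem hse
  have hxy : ((1 : G) : G ⧸ P) ≠ (w : G ⧸ P) := fun h => hwP (by simpa using QuotientGroup.eq.1 h)
  let D := P ⊓ P.map (MulAut.conj w).toMonoidHom
  have hDodd : Odd (Nat.card D) := hse.2.2 w hwP
  have hone : ∀ u : G, orderOf u = 2 → u ∈ P → u • ((1 : G) : G ⧸ P) = ((1 : G) : G ⧸ P) := fun u _ hu => by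
    rw [fix_coset_iff]; simpa using hu
  have hinv : ∀ p ∈ P, ∃ d ∈ D, d * z * d⁻¹ = p * z * p⁻¹ := fun p hp => by
    have hzp : orderOf (p * z * p⁻¹) = 2 := by rw [orderOf_conj_eq, hz]
    have hpP : p * z * p⁻¹ ∈ P := P.mul_mem (P.mul_mem hp hzP) (P.inv_mem hp)
    obtain ⟨d, h1, h2, h3⟩ := se_stab_transitive hse hxy hz hzp (hone z hz hzP) (hone _ hzp hpP)
    exact ⟨d, mem_inter_conj_iff.2 ⟨h1, h2⟩, h3⟩
  let K : Subgroup P := (Subgroup.centralizer ({z} : Set G)).subgroupOf P
  let D' : Subgroup P := D.subgroupOf P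
  have hK : K.index = 2835 := by
    have h := K.card_mul_index
    rw [hP, show Nat.card K = 1152 from (Nat.card_congr (Subgroup.subgroupOfEquivOfLe hC).toEquiv).trans hcard] at h
    omega
  have hDdvd : 2835 ∣ Nat.card D' := by
    have h := (K.subgroupOf D').card_mul_index
    have hbij : Nat.card (↥D' ⧸ K.subgroupOf D') = Nat.card (↥P ⧸ K) := by
      refine Nat.card_eq_of_bijective (Quotient.map' (fun d : D' => (d : P)) fun a b hab => ?_) ⟨?_, ?_⟩
      · rw [QuotientGroup.leftRel_apply] at hab ⊢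
        exact hab
      · intro a b
        induction a using QuotientGroup.induction_on with
        | _ a =>
          induction b using QuotientGroup.induction_on with
          | _ b =>
            intro hab
            exact QuotientGroup.eq.2 (QuotientGroup.eq.1 hab : ((a : P))⁻¹ * (b : P) ∈ K)
      · intro q
        induction q using QuotientGroup.induction_on with
        | _ p =>
          obtain ⟨d, hd, hdz⟩ := hinv p p.2
          refine ⟨QuotientGroup.mk (⟨⟨d, hd.1⟩, hd⟩ : D'), ?_⟩
          refine QuotientGroup.eq.2 ?_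
          show d⁻¹ * (p : G) ∈ Subgroup.centralizer ({z} : Set G)
          rw [Subgroup.mem_centralizer_singleton_iff]
          calc d⁻¹ * (p : G) * z = d⁻¹ * ((p : G) * z * (p : G)⁻¹) * p := by group
            _ = z * (d⁻¹ * p) := by rw [← hdz]; group
    rw [Subgroup.index, hbij, ← Subgroup.index, hK] at h
    exact ⟨_, by rw [← h, mul_comm]⟩
  have hD' : Nat.card D' = Nat.card D := Nat.card_congr (Subgroup.subgroupOfEquivOfLe inf_le_left).toEquiv
  obtain ⟨x, hx⟩ := exists_orderOf_twentyone_or_thirtyfive (hD'.symm ▸ hDodd)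
    (hP ▸ Subgroup.card_subgroup_dvd_card D') hDdvd
  rw [← Subgroup.orderOf_coe, ← Subgroup.orderOf_coe] at hx
  rcases hx with hx | hx
  · exact h21 _ x.1.2 hx
  · exact h35 _ x.1.2 hx

end CfsgLib.U43
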