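import Cfsg.Agent.Lib.U43.SLTab
import Cfsg.Agent.Lib.U43.HTable

/-!
# Finite checks for the shape of the centraliser

Pairs stand for elements of the central product of two copies of `SL(2, 3)`; a code adds the exponents of
the diagonal automorphism `σ` and of the swap `τ`, whose squares and commutator are `z ^ a`, `z ^ b`, `z ^ c`.
-/

set_option autoImplicit false
set_option maxRecDepth 100000
set_option synthInstance.maxSize 2000
set_option synthInstance.maxHeartbeats 200000

namespace CfsgLib.U43.SL23

/-- A pair. -/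
abbrev Pr : Type := ℕ × ℕ

/-- Product of pairs. -/
def pmul (x y : Pr) : Pr := (mT x.1 y.1, mT x.2 y.2)

/-- Equality modulo the common sign. -/
def peq (x y : Pr) : Bool :=
  (Nat.beq x.1 y.1 && Nat.beq x.2 y.2) || (Nat.beq x.1 (nT y.1) && Nat.beq x.2 (nT y.2))

/-- The pair is in range. -/
def plt (x : Pr) : Prop := x.1 < 24 ∧ x.2 < 24

/-- Membership in the product of the quaternion groups. -/
def inQ (x : Pr) : Bool := q8.any (Nat.beq x.1) && q8.any (Nat.beq x.2)

/-- The identity. -/
abbrev one2 : Pr := (0, 0)
/-- The central involution. -/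
abbrev zp : Pr := (1, 0)
/-- The chosen involution. -/
abbrev tp : Pr := (gI, gI)
/-- Their product. -/
abbrev ztp : Pr := (mT 1 gI, gI)
/-- First element of the centraliser of the involution. -/
abbrev u1p : Pr := (gI, 0)
/-- Second element of the centraliser of the involution. -/
abbrev u2p : Pr := (gJ, gJ)
/-- Their product. -/
abbrev u12p : Pr := (mT gI gJ, gJ)

/-- The four-group generated by the involution and the centre. -/
def rList : List Pr := [one2, zp, tp, ztp]

/-- Membership in the four-group. -/
def inR (x : Pr) : Bool := rList.any (peq x)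

/-- The standard automorphisms. -/
def act (e1 e2 s : Bool) (x : Pr) : Pr :=
  let y : Pr := bif s then (x.2, x.1) else x
  (bif e1 then dT y.1 else y.1, bif e2 then dT y.2 else y.2)

/-- A standard automorphism followed by conjugation. -/
def aut (k : Pr) (e1 e2 s : Bool) (x : Pr) : Pr :=
  let y : Pr := bif s then (x.2, x.1) else x
  (cj k.1 e1 y.1, cj k.2 e2 y.2)

/-- The four generators. -/
def gens4 : List Pr := [(gS, 0), (gT, 0), (0, gS), (0, gT)]

theorem two_power_mem : ∀ u < 24, ∀ v < 24,
    (fun p : Pr => peq (pmul p p) one2) ((fun p : Pr => pmul p p) ((fun p : Pr => pmul p p) (u, v))) = true →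
      inQ (u, v) = true := by decide +kernel

theorem invol_form : ∀ u < 24, ∀ v < 24, peq (pmul (u, v) (u, v)) one2 = true →
    peq (u, v) one2 = false → peq (u, v) zp = false →
      (∃ k < 24, cj k false gI = u) ∧ ∃ k < 24, cj k false gI = v := by decide +kernel

theorem central_pair : ∀ u < 24, ∀ v < 24, (∀ x ∈ gens4, peq (pmul (u, v) x) (pmul x (u, v)) = true) →
    peq (u, v) one2 = true ∨ peq (u, v) zp = true := by decide +kernel

theorem single_factor : ∀ u < 24, ∀ v < 24, mT (mT u u) u = 0 → mT (mT v v) v = 0 →
    ∀ w ∈ q8, ∀ x ∈ q8, peq (w, x) one2 = false → peq (w, x) zp = false →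
      peq (pmul (u, v) (w, x)) (pmul (w, x) (u, v)) = true → u = 0 ∨ v = 0 := by decide +kernel

theorem bad_kind : ∀ k < 24, ∀ l < 24, ∀ e1 e2 s : Bool, e1 ≠ e2 →
    peq (aut (k, l) e1 e2 s tp) tp = true →
    (∀ u ∈ [u1p, u2p], inR (pmul (aut (k, l) e1 e2 s u) (iT u.1, iT u.2)) = true) → False := by
  decide +kernel

theorem not_inner : ∀ k < 24, ∀ l < 24, ∀ e s : Bool, (e || s) = true →
    ∃ x ∈ gens4, peq (aut (k, l) false false false x) (act e e s x) = false := by decide +kernel

theorem centraliser_square_z : ∀ u ∈ q8, ∀ v ∈ q8, peq (pmul (u, v) tp) (pmul tp (u, v)) = true →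
    peq (pmul (u, v) (u, v)) zp = true → ∃ r ∈ rList, peq (u, v) (pmul u1p r) = true := by decide +kernel

theorem centraliser_square_one : ∀ u ∈ q8, ∀ v ∈ q8, peq (pmul (u, v) tp) (pmul tp (u, v)) = true →
    peq (pmul (u, v) (u, v)) one2 = true → inR (u, v) = false →
      ∃ w ∈ [u2p, u12p], ∃ r ∈ rList, peq (u, v) (pmul w r) = true := by decide +kernel

/-- A code: pair, exponent of `σ`, exponent of `τ`. -/
abbrev Cd : Type := Pr × Bool × Bool

/-- Product of codes. -/
def mC (a b c : Bool) (x y : Cd) : Cd :=
  let p := pmul x.1 (act x.2.1 x.2.1 x.2.2 y.1)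
  let n := (x.2.2 && y.2.1 && c) ^^ ((x.2.1 && y.2.1 && a) ^^ (x.2.2 && y.2.2 && b))
  (bif n then (nT p.1, p.2) else p, x.2.1 ^^ y.2.1, x.2.2 ^^ y.2.2)

/-- Equality of codes. -/
def ceq (x y : Cd) : Bool := peq x.1 y.1 && (x.2.1 == y.2.1) && (x.2.2 == y.2.2)

/-- The code of a pair. -/
abbrev cp (x : Pr) : Cd := (x, false, false)

/-- The commutator of `x` and `y` is the pair `r`. -/
def commIs (a b c : Bool) (x y : Cd) (r : Pr) : Bool :=
  ceq (mC a b c x y) (mC a b c (cp r) (mC a b c y x))

/-- The interchange of `z` and the chosen involution on the four-group. -/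
def swR : List (Pr × Pr) := [(one2, one2), (zp, tp), (tp, zp), (ztp, ztp)]

/-- Conditions on the first element. -/
def critX (a b c : Bool) (x : Cd) : Bool :=
  commIs a b c x (cp tp) one2 && ceq (mC a b c x x) (cp tp) &&
    [one2, ztp].any (commIs a b c (cp u1p) x) && rList.any (commIs a b c (cp u2p) x)

/-- Conditions on the second element. -/
def critY (a b c : Bool) (y : Cd) : Bool :=
  commIs a b c y (cp tp) one2 && ceq (mC a b c y y) (cp one2) &&
    rList.any (commIs a b c (cp u1p) y) && rList.any (commIs a b c (cp u2p) y)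

/-- Conditions on both. -/
def critXY (a b c : Bool) (x y : Cd) : Bool :=
  (x.2 != y.2) && commIs a b c x y tp && [u2p, u12p].any fun v =>
    swR.any (fun r => commIs a b c (cp u1p) y r.1 && commIs a b c x (cp v) r.2) &&
      swR.any (fun r => commIs a b c (cp u2p) y r.1 && commIs a b c y (cp v) r.2)

/-- All codes outside the central product. -/
def codes : List Cd :=
  [(true, false), (false, true), (true, true)].flatMap fun k =>
    (List.range 24).flatMap fun u => (List.range 24).map fun v => ((u, v), k.1, k.2)

/-- The check of the signs. -/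
def signChk (a b c : Bool) : Bool :=
  (codes.filter (critX a b c)).all fun x => (codes.filter (critY a b c)).all fun y =>
    !critXY a b c x y || (a && !b && c)

theorem sign_ok : ∀ a b c : Bool, signChk a b c = true := by decide +kernel

theorem signs {a b c : Bool} {x y : Cd} (hx : plt x.1) (hxk : (x.2.1 || x.2.2) = true) (hy : plt y.1)
    (hyk : (y.2.1 || y.2.2) = true) (h1 : critX a b c x = true) (h2 : critY a b c y = true)
    (h3 : critXY a b c x y = true) : a = true ∧ b = false ∧ c = true := by
  have mem : ∀ {w : Cd}, plt w.1 → (w.2.1 || w.2.2) = true → w ∈ codes := by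
    rintro ⟨⟨u, v⟩, e, s⟩ ⟨hu, hv⟩ hk
    simp only [codes, List.mem_flatMap, List.mem_map, List.mem_range]
    exact ⟨(e, s), by revert hk; cases e <;> cases s <;> simp, u, hu, v, hv, rfl⟩
  have h := sign_ok a b c
  simp only [signChk, List.all_eq_true, List.mem_filter] at h
  have h' := h x ⟨mem hx hxk, h1⟩ y ⟨mem hy hyk, h2⟩
  simpa [h3, and_assoc] using h'

/-- The frame. -/
def frame : List Cd :=
  [((0, 1), false, false), ((0, 0), false, true), ((3, 12), true, true), ((0, 0), true, true),
    ((8, 8), true, true), ((0, 0), false, false), ((9, 8), false, true)]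

/-- Product of a word of frame letters. -/
def fC (L : List ℕ) : Cd :=
  L.foldl (fun p x => mC true false true p (frame.getD x (cp one2))) (cp one2)

theorem frame_rels : ∀ r ∈ relsH, ceq (fC r) (cp one2) = true := by decide +kernel

theorem frame_sq : ∀ x < 7, ceq (fC [x, x]) (cp one2) = true := by decide +kernel

end CfsgLib.U43.SL23
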