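import Cfsg.Agent.Lib.U43.KHom

/-!
# The centraliser acts on the central product by the standard automorphisms
-/

set_option autoImplicit false
set_option maxRecDepth 100000
set_option synthInstance.maxSize 2000

namespace CfsgLib.U43

open SL23

instance decPlt : DecidablePred plt := fun x => inferInstanceAs (Decidable (_ ∧ _))

variable {G : Type*} [Group G] {φ : S3 × S3 →* G}

/-- The value of a pair. -/
def pv (φ : S3 × S3 →* G) (x : Pr) : G := φ (el x.1, el x.2)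

theorem pmul_lt {x y : Pr} (hx : plt x) (hy : plt y) : plt (pmul x y) :=
  ⟨(el_mul _ hx.1 _ hy.1).2, (el_mul _ hx.2 _ hy.2).2⟩

theorem pv_mul {x y : Pr} (hx : plt x) (hy : plt y) : pv φ x * pv φ y = pv φ (pmul x y) := by
  rw [pv, pv, pv, ← map_mul, Prod.mk_mul_mk, (el_mul _ hx.1 _ hy.1).1, (el_mul _ hx.2 _ hy.2).1]
  rfl

theorem pv_one : pv φ one2 = 1 := by
  rw [pv, el_basic.1]; exact map_one φ

theorem exists_pv (w : S3 × S3) : ∃ p, plt p ∧ φ w = pv φ p := by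
  obtain ⟨i, hi, h₁⟩ := el_surj w.1
  obtain ⟨j, hj, h₂⟩ := el_surj w.2
  exact ⟨(i, j), ⟨hi, hj⟩, by rw [pv, h₁, h₂]⟩

variable {z : G} {Qm : Subgroup G}

theorem KSetup.pv_zp (S : KSetup z Qm φ) : pv φ zp = z := by
  rw [pv, el_basic.1]; exact S.zeq

theorem KSetup.pv_eq_one (S : KSetup z Qm φ) {x : Pr} (hx : plt x) :
    pv φ x = 1 ↔ x = (0, 0) ∨ x = (1, 1) := by
  rw [pv, S.ker, ← Prod.mk_one_one, Prod.mk.injEq, Prod.mk.injEq, ← el_basic.1]
  constructor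
  · rintro (⟨h1, h2⟩ | ⟨h1, h2⟩)
    · exact Or.inl (Prod.ext (el_inj _ hx.1 _ (by norm_num) h1) (el_inj _ hx.2 _ (by norm_num) h2))
    · exact Or.inr (Prod.ext (el_inj _ hx.1 _ (by norm_num) h1) (el_inj _ hx.2 _ (by norm_num) h2))
  · rintro (rfl | rfl) <;> simp

theorem peq_iff_quot : ∀ u < 24, ∀ v < 24, ∀ u' < 24, ∀ v' < 24,
    peq (u, v) (u', v') = true ↔ ((mT (iT u) u' = 0 ∧ mT (iT v) v' = 0) ∨
      (mT (iT u) u' = 1 ∧ mT (iT v) v' = 1)) := by
  have h : ∀ u < 24, ∀ u' < 24, (mT (iT u) u' = 0 ↔ u = u') ∧ (mT (iT u) u' = 1 ↔ u = nT u') := by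
    decide +kernel
  intro u hu v hv u' hu' v' hv'
  rw [(h u hu u' hu').1, (h u hu u' hu').2, (h v hv v' hv').1, (h v hv v' hv').2]
  simp [peq]

theorem KSetup.pv_eq_iff (S : KSetup z Qm φ) {x y : Pr} (hx : plt x) (hy : plt y) :
    pv φ x = pv φ y ↔ peq x y = true := by
  obtain ⟨u, v⟩ := x
  obtain ⟨u', v'⟩ := y
  have hi : plt (iT u, iT v) := ⟨(tab_lt u hx.1).1, (tab_lt v hx.2).1⟩
  have e : (pv φ (u, v))⁻¹ = pv φ (iT u, iT v) := inv_eq_of_mul_eq_one_left (by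
    rw [pv_mul hi hx, pmul, (tab_facts u hx.1).2.1, (tab_facts v hx.2).2.1]
    exact pv_one)
  rw [← inv_mul_eq_one, e, pv_mul hi hy, S.pv_eq_one (pmul_lt hi hy), peq_iff_quot u hx.1 v hx.2 u' hy.1 v' hy.2]
  simp [pmul]

theorem KSetup.commute_iff (S : KSetup z Qm φ) {x y : Pr} (hx : plt x) (hy : plt y) :
    pv φ x * pv φ y = pv φ y * pv φ x ↔ peq (pmul x y) (pmul y x) = true := by
  rw [pv_mul hx hy, pv_mul hy hx, S.pv_eq_iff (pmul_lt hx hy) (pmul_lt hy hx)]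

/-! Facts about the tables. -/

theorem cube_choice : ∀ u < 24, ∀ v < 24, peq (pmul (pmul (u, v) (u, v)) (u, v)) one2 = true →
    (mT (mT u u) u = 0 ∧ mT (mT v v) v = 0) ∨
      (mT (mT (nT u) (nT u)) (nT u) = 0 ∧ mT (mT (nT v) (nT v)) (nT v) = 0) := by decide +kernel

theorem peq_neg : ∀ u < 24, ∀ v < 24, peq (nT u, nT v) (u, v) = true := by decide +kernel

theorem gens_cube : ∀ x ∈ gens4, plt x ∧ peq (pmul (pmul x x) x) one2 = true ∧ peq x one2 = false := by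
  decide +kernel

theorem gens_cent : ∀ x ∈ gens4, ∃ w ∈ q8, ∃ w' ∈ q8, peq (w, w') one2 = false ∧
    peq (w, w') zp = false ∧ peq (pmul x (w, w')) (pmul (w, w') x) = true := by decide +kernel

theorem good_cent : ∀ a < 24, ∀ b < 24, good a b = true → ∀ c < 24, mT (mT c c) c = 0 →
    mT a c = mT c a → mT b c = mT c b → c = 0 := by decide +kernel

theorem good_of : ∀ a < 24, ∀ b < 24, a ≠ 0 → b ≠ 0 → mT (mT a a) a = 0 → mT (mT b b) b = 0 →
    mT a b ≠ mT b a → mT (mT (mT a b) (mT a b)) (mT (mT a b) (mT a b)) = 0 → good a b = true := by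
  decide +kernel

theorem peq_single : ∀ a < 24, ∀ b < 24, (peq (a, 0) (b, 0) = true ↔ a = b) ∧
    (peq (0, a) (0, b) = true ↔ a = b) ∧ peq (pmul (a, 0) (0, b)) (pmul (0, b) (a, 0)) = true := by
  decide +kernel

theorem q8_lt : ∀ a ∈ q8, a < 24 := by decide +kernel

variable (S : KSetup z Qm φ)
include S

/-- Where an element of order three of one factor goes. -/
theorem KSetup.image_gen {h : G} (hh : h ∈ Subgroup.centralizer ({z} : Set G)) {x : Pr} (hx : x ∈ gens4) :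
    ∃ a < 24, a ≠ 0 ∧ mT (mT a a) a = 0 ∧
      (h * pv φ x * h⁻¹ = pv φ (a, 0) ∨ h * pv φ x * h⁻¹ = pv φ (0, a)) := by
  obtain ⟨hxl, hx3, hx1⟩ := gens_cube x hx
  obtain ⟨y, hy⟩ := S.normal h hh (el x.1, el x.2)
  obtain ⟨⟨u, v⟩, hp, e⟩ := exists_pv (φ := φ) y
  have him : h * pv φ x * h⁻¹ = pv φ (u, v) := hy.trans e
  have h3 : peq (pmul (pmul (u, v) (u, v)) (u, v)) one2 = true := by
    rw [← S.pv_eq_iff (pmul_lt (pmul_lt hp hp) hp) (by decide +kernel : plt one2), ← pv_mul (pmul_lt hp hp) hp,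
      ← pv_mul hp hp, ← him, pv_one]
    have := (S.pv_eq_iff (pmul_lt (pmul_lt hxl hxl) hxl) (by decide +kernel : plt one2)).2 hx3
    rw [← pv_mul (pmul_lt hxl hxl) hxl, ← pv_mul hxl hxl, pv_one] at this
    calc _ = h * (pv φ x * pv φ x * pv φ x) * h⁻¹ := by group
      _ = 1 := by rw [this, mul_one, mul_inv_cancel]
  obtain ⟨p, hp', hpe, hcu, hcv⟩ : ∃ p, plt p ∧ pv φ p = pv φ (u, v) ∧
      mT (mT p.1 p.1) p.1 = 0 ∧ mT (mT p.2 p.2) p.2 = 0 := by
    rcases cube_choice u hp.1 v hp.2 h3 with h | h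
    · exact ⟨(u, v), hp, rfl, h.1, h.2⟩
    · have hl : plt (nT u, nT v) := ⟨(tab_lt u hp.1).2.1, (tab_lt v hp.2).2.1⟩
      exact ⟨(nT u, nT v), hl, (S.pv_eq_iff hl hp).2 (peq_neg u hp.1 v hp.2), h.1, h.2⟩
  obtain ⟨w, hw, w', hw', hw1, hwz, hcw⟩ := gens_cent x hx
  have hwl : plt (w, w') := ⟨q8_lt w hw, q8_lt w' hw'⟩
  obtain ⟨y', hy'⟩ := S.normal h hh (el w, el w')
  have hmem : h * pv φ (w, w') * h⁻¹ ∈ Qm := by
    -- conjugation preserves the two-elements of the image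
    obtain ⟨⟨a, b⟩, hab, e'⟩ := exists_pv (φ := φ) y'
    have e'' : h * pv φ (w, w') * h⁻¹ = pv φ (a, b) := hy'.trans e'
    have h8 : (fun p : Pr => peq (pmul p p) one2) ((fun p : Pr => pmul p p) (a, b)) = true := by
      have hw4 : ∀ w ∈ q8, ∀ w' ∈ q8, (fun p : Pr => peq (pmul p p) one2)
          ((fun p : Pr => pmul p p) (w, w')) = true := by decide +kernel
      have h4 := (S.pv_eq_iff (pmul_lt (pmul_lt hwl hwl) (pmul_lt hwl hwl)) (by decide +kernel : plt one2)).2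
        (hw4 w hw w' hw')
      rw [← pv_mul (pmul_lt hwl hwl) (pmul_lt hwl hwl), ← pv_mul hwl hwl, pv_one] at h4
      show peq (pmul (pmul (a, b) (a, b)) (pmul (a, b) (a, b))) one2 = true
      rw [← S.pv_eq_iff (pmul_lt (pmul_lt hab hab) (pmul_lt hab hab)) (by decide +kernel : plt one2),
        ← pv_mul (pmul_lt hab hab) (pmul_lt hab hab), ← pv_mul hab hab, ← e'', pv_one]
      calc _ = h * (pv φ (w, w') * pv φ (w, w') * (pv φ (w, w') * pv φ (w, w'))) * h⁻¹ := by group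
        _ = 1 := by rw [h4, mul_one, mul_inv_cancel]
    have hq : ∀ a < 24, ∀ b < 24, (fun p : Pr => peq (pmul p p) one2)
        ((fun p : Pr => pmul p p) (a, b)) = true → a ∈ q8 ∧ b ∈ q8 := by decide +kernel
    exact (S.qmem _).2 ⟨a, (hq a hab.1 b hab.2 h8).1, b, (hq a hab.1 b hab.2 h8).2, e''.symm⟩
  obtain ⟨c, hc, d, hd, hcd⟩ := (S.qmem _).1 hmem
  have hcdl : plt (c, d) := ⟨q8_lt c hc, q8_lt d hd⟩
  have hne : ∀ r : Pr, plt r → h * pv φ r * h⁻¹ = pv φ r → peq (w, w') r = false → peq (c, d) r = false := by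
    intro r hr hfix hwr
    rw [Bool.eq_false_iff] at hwr ⊢
    intro hcr
    refine hwr ((S.pv_eq_iff hwl hr).1 ?_)
    have h1 : pv φ (c, d) = pv φ r := (S.pv_eq_iff hcdl hr).2 hcr
    have h2 : h * pv φ (w, w') * h⁻¹ = h * pv φ r * h⁻¹ := by rw [hfix, ← hcd, ← h1]; rfl
    simpa using h2
  have hfz : h * pv φ zp * h⁻¹ = pv φ zp := by
    rw [S.pv_zp, Subgroup.mem_centralizer_singleton_iff.1 hh, mul_inv_cancel_right]
  have hcomm : peq (pmul p (c, d)) (pmul (c, d) p) = true := by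
    rw [← S.commute_iff hp' hcdl, hpe, ← him, show pv φ (c, d) = h * pv φ (w, w') * h⁻¹ from hcd]
    have := (S.commute_iff hxl hwl).2 hcw
    calc _ = h * (pv φ x * pv φ (w, w')) * h⁻¹ := by group
      _ = h * (pv φ (w, w') * pv φ x) * h⁻¹ := by rw [this]
      _ = _ := by group
  have hsf := single_factor p.1 hp'.1 p.2 hp'.2 hcu hcv c hc d hd
    (hne one2 (by decide +kernel) (by rw [pv_one, mul_one, mul_inv_cancel]) hw1)
    (hne zp (by decide +kernel) hfz hwz) hcomm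
  have hp0 : p ≠ (0, 0) := fun e0 => by
    have h1 : h * pv φ x * h⁻¹ = 1 := by rw [him, ← hpe, e0]; exact pv_one
    rw [Bool.eq_false_iff] at hx1
    exact hx1 ((S.pv_eq_iff hxl (by decide +kernel)).1 (by rw [pv_one]; simpa using h1))
  rcases hsf with h0 | h0
  · refine ⟨p.2, hp'.2, fun e => hp0 (Prod.ext h0 e), hcv, Or.inr ?_⟩
    rw [him, ← hpe, show p = (0, p.2) from Prod.ext h0 rfl]
  · refine ⟨p.1, hp'.1, fun e => hp0 (Prod.ext e h0), hcu, Or.inl ?_⟩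
    rw [him, ← hpe, show p = (p.1, 0) from Prod.ext rfl h0]

/-- A homomorphism on a factor is determined by the images of the generators. -/
theorem KSetup.image_word {h : G} (ι ι' : ℕ → Pr)
    (hι : ∀ i < 24, plt (ι i)) (hι' : ∀ i < 24, plt (ι' i))
    (hm : ∀ i < 24, ∀ j < 24, pmul (ι i) (ι j) = ι (mT i j))
    (hm' : ∀ i < 24, ∀ j < 24, pmul (ι' i) (ι' j) = ι' (mT i j))
    (h0 : ι 0 = one2) (h0' : ι' 0 = one2) {k : ℕ} (hk : k < 24) {e : Bool}
    (hS : h * pv φ (ι gS) * h⁻¹ = pv φ (ι' (cj k e gS)))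
    (hT : h * pv φ (ι gT) * h⁻¹ = pv φ (ι' (cj k e gT))) {i : ℕ} (hi : i < 24) :
    h * pv φ (ι i) * h⁻¹ = pv φ (ι' (cj k e i)) := by
  have key : ∀ L : List Bool, ∀ p < 24, ∀ q < 24, h * pv φ (ι p) * h⁻¹ = pv φ (ι' q) →
      h * pv φ (ι (L.foldl (fun p b => mT p (bif b then gT else gS)) p)) * h⁻¹ =
        pv φ (ι' (L.foldl (fun q b => mT q (bif b then cj k e gT else cj k e gS)) q)) := by
    intro L
    induction L with
    | nil => exact fun p _ q _ e => e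
    | cons b L ih =>
      intro p hp q hq e'
      have hb : (bif b then gT else gS) < 24 := by cases b <;> decide +kernel
      have hb' : (bif b then cj k e gT else cj k e gS) < 24 := by
        cases b <;> exact (cj_word k hk e _ (by decide +kernel)).2
      refine ih _ (el_mul p hp _ hb).2 _ (el_mul q hq _ hb').2 ?_
      rw [← hm p hp _ hb, ← hm' q hq _ hb', ← pv_mul (hι p hp) (hι _ hb), ← pv_mul (hι' q hq) (hι' _ hb'),
        ← e']
      cases b
      · rw [cond_false, cond_false, ← hS]; group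
      · rw [cond_true, cond_true, ← hT]; group
  have h2 := key (words.getD i []) 0 (by norm_num) 0 (by norm_num) (by rw [h0, h0', pv_one]; group)
  have e1 : valW gS gT (words.getD i []) = i := (tab_facts i hi).2.2.2.2.2.2
  have e2 := (cj_word k hk e i hi).1
  simp only [valW] at e1 e2
  rwa [e1, e2] at h2

/-- **The action of the centraliser.** -/
theorem KSetup.exists_aut {h : G} (hh : h ∈ Subgroup.centralizer ({z} : Set G)) :
    ∃ k, plt k ∧ ∃ e1 e2 s : Bool, ∀ p, plt p → h * pv φ p * h⁻¹ = pv φ (aut k e1 e2 s p) := by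
  let inl : ℕ → Pr := fun i => (i, 0)
  let inr : ℕ → Pr := fun i => (0, i)
  have hlt : ∀ ι ∈ [inl, inr], (∀ i < 24, plt (ι i)) ∧ (∀ i < 24, ∀ j < 24, pmul (ι i) (ι j) = ι (mT i j)) ∧
      ι 0 = one2 := by
    have h00 : mT 0 0 = 0 := by decide +kernel
    simp only [List.mem_cons, List.not_mem_nil, or_false]
    rintro ι (rfl | rfl) <;> refine ⟨fun i hi => ?_, fun i _ j _ => ?_, rfl⟩
    · exact ⟨hi, by norm_num⟩
    · exact Prod.ext rfl h00
    · exact ⟨by norm_num, hi⟩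
    · exact Prod.ext h00 rfl
  -- for one factor: the target factor and the twist
  have factor : ∀ ι ∈ [inl, inr], ∃ ι' ∈ [inl, inr], ∃ k < 24, ∃ e : Bool, ∃ a < 24, ∃ b < 24, good a b = true ∧
      cj k e gS = a ∧ cj k e gT = b ∧
      ∀ i < 24, h * pv φ (ι i) * h⁻¹ = pv φ (ι' (cj k e i)) := by
    intro ι hι
    obtain ⟨l1, l2, l3⟩ := hlt ι hι
    have hgen : ι gS ∈ gens4 ∧ ι gT ∈ gens4 := by
      simp only [List.mem_cons, List.not_mem_nil, or_false] at hι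
      rcases hι with rfl | rfl <;> simp [gens4, inl, inr]
    obtain ⟨a, ha, ha0, ha3, hA⟩ := S.image_gen hh hgen.1
    obtain ⟨b, hb, hb0, hb3, hB⟩ := S.image_gen hh hgen.2
    have hfac : ∀ a, ((h * pv φ (ι gS) * h⁻¹ = pv φ (a, 0) ∨ h * pv φ (ι gS) * h⁻¹ = pv φ (0, a))) →
        ∃ ι' ∈ [inl, inr], h * pv φ (ι gS) * h⁻¹ = pv φ (ι' a) := fun a h => h.elim
      (fun e => ⟨inl, by simp, e⟩) fun e => ⟨inr, by simp, e⟩
    obtain ⟨ι', hι', hA'⟩ := hfac a hA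
    obtain ⟨m1, m2, m3⟩ := hlt ι' hι'
    have hnc : ¬ pv φ (ι gS) * pv φ (ι gT) = pv φ (ι gT) * pv φ (ι gS) := by
      rw [S.commute_iff (l1 _ (by decide +kernel)) (l1 _ (by decide +kernel)), l2 _ (by decide +kernel) _ (by decide +kernel),
        l2 _ (by decide +kernel) _ (by decide +kernel)]
      simp only [List.mem_cons, List.not_mem_nil, or_false] at hι
      rcases hι with rfl | rfl <;> decide +kernel
    have hnc' : ¬ (h * pv φ (ι gS) * h⁻¹) * (h * pv φ (ι gT) * h⁻¹) =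
        (h * pv φ (ι gT) * h⁻¹) * (h * pv φ (ι gS) * h⁻¹) := fun e => hnc (by
      simpa [mul_assoc] using congrArg (fun w => h⁻¹ * w * h) e)
    have hB' : h * pv φ (ι gT) * h⁻¹ = pv φ (ι' b) := by
      simp only [List.mem_cons, List.not_mem_nil, or_false] at hι'
      rcases hι' with rfl | rfl <;> rcases hB with e | e
      · exact e
      · exfalso; apply hnc'; rw [hA', e]
        exact (S.commute_iff ⟨ha, by norm_num⟩ ⟨by norm_num, hb⟩).2 (peq_single a ha b hb).2.2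
      · exfalso; apply hnc'; rw [hA', e]
        exact ((S.commute_iff ⟨hb, by norm_num⟩ ⟨by norm_num, ha⟩).2 (peq_single b hb a ha).2.2).symm
      · exact e
    have inj : ∀ i < 24, ∀ j < 24, pv φ (ι' i) = pv φ (ι' j) → i = j := by
      intro i hi j hj e
      rw [S.pv_eq_iff (m1 i hi) (m1 j hj)] at e
      simp only [List.mem_cons, List.not_mem_nil, or_false] at hι'
      rcases hι' with rfl | rfl
      · exact (peq_single i hi j hj).1.1 e
      · exact (peq_single i hi j hj).2.1.1 e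
    have hg : good a b = true := by
      refine good_of a ha b hb ha0 hb0 ha3 hb3 (fun e => hnc' ?_) (inj _ ?_ 0 (by norm_num) ?_)
      · rw [hA', hB', pv_mul (m1 a ha) (m1 b hb), pv_mul (m1 b hb) (m1 a ha), m2 a ha b hb, m2 b hb a ha, e]
      · exact (el_mul _ (el_mul _ (el_mul a ha b hb).2 _ (el_mul a ha b hb).2).2 _
          (el_mul _ (el_mul a ha b hb).2 _ (el_mul a ha b hb).2).2).2
      · have hab := (el_mul a ha b hb).2
        have hab2 := (el_mul _ hab _ hab).2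
        rw [m3, pv_one, ← m2 _ hab2 _ hab2, ← pv_mul (m1 _ hab2) (m1 _ hab2), ← m2 _ hab _ hab,
          ← pv_mul (m1 _ hab) (m1 _ hab), ← m2 a ha b hb, ← pv_mul (m1 a ha) (m1 b hb), ← hA', ← hB']
        have hS : gS < 24 := by decide +kernel
        have hT : gT < 24 := by decide +kernel
        have hst := (el_mul _ hS _ hT).2
        have hst2 := (el_mul _ hst _ hst).2
        have e4 : pv φ (ι gS) * pv φ (ι gT) * (pv φ (ι gS) * pv φ (ι gT)) *
            (pv φ (ι gS) * pv φ (ι gT) * (pv φ (ι gS) * pv φ (ι gT))) = 1 := by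
          rw [pv_mul (l1 _ hS) (l1 _ hT), l2 _ hS _ hT, pv_mul (l1 _ hst) (l1 _ hst), l2 _ hst _ hst,
            pv_mul (l1 _ hst2) (l1 _ hst2), l2 _ hst2 _ hst2,
            show mT (mT (mT gS gT) (mT gS gT)) (mT (mT gS gT) (mT gS gT)) = 0 by decide +kernel, l3, pv_one]
        calc _ = h * (pv φ (ι gS) * pv φ (ι gT) * (pv φ (ι gS) * pv φ (ι gT)) *
            (pv φ (ι gS) * pv φ (ι gT) * (pv φ (ι gS) * pv φ (ι gT)))) * h⁻¹ := by group
          _ = 1 := by rw [e4, mul_one, mul_inv_cancel]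
    obtain ⟨k, hk, e, hka, hkb⟩ := exists_cj a ha b hb hg
    refine ⟨ι', hι', k, hk, e, a, ha, b, hb, hg, hka, hkb, fun i hi => ?_⟩
    exact S.image_word ι ι' l1 m1 l2 m2 l3 m3 hk (by rw [hka]; exact hA') (by rw [hkb]; exact hB') hi
  obtain ⟨ι₁, hι₁, k₁, hk₁, e₁, a, ha, b, hb, hg, hka, hkb, H₁⟩ := factor inl (by simp)
  obtain ⟨ι₂, hι₂, k₂, hk₂, e₂, a', ha', b', hb', hg', hka', hkb', H₂⟩ := factor inr (by simp)
  have hne : ι₁ ≠ ι₂ := by
    rintro rfl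
    obtain ⟨m1, m2, m3⟩ := hlt ι₁ hι₁
    have hS : gS < 24 := by decide +kernel
    have hT : gT < 24 := by decide +kernel
    have inj : ∀ i < 24, ∀ j < 24, pv φ (ι₁ i) = pv φ (ι₁ j) → i = j := by
      intro i hi j hj e
      rw [S.pv_eq_iff (m1 i hi) (m1 j hj)] at e
      simp only [List.mem_cons, List.not_mem_nil, or_false] at hι₁
      rcases hι₁ with rfl | rfl
      · exact (peq_single i hi j hj).1.1 e
      · exact (peq_single i hi j hj).2.1.1 e
    have hcm : ∀ i < 24, mT (cj k₁ e₁ i) a' = mT a' (cj k₁ e₁ i) := by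
      intro i hi
      have hc := (cj_word k₁ hk₁ e₁ i hi).2
      refine inj _ (el_mul _ hc _ ha').2 _ (el_mul _ ha' _ hc).2 ?_
      rw [← m2 _ hc _ ha', ← m2 _ ha' _ hc, ← pv_mul (m1 _ hc) (m1 _ ha'), ← pv_mul (m1 _ ha') (m1 _ hc),
        ← hka', ← H₁ i hi, ← H₂ gS hS]
      have e := (S.commute_iff (x := inl i) (y := inr gS) ⟨hi, by norm_num⟩ ⟨by norm_num, hS⟩).2
        (peq_single i hi gS hS).2.2
      calc _ = h * (pv φ (inl i) * pv φ (inr gS)) * h⁻¹ := by group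
        _ = h * (pv φ (inr gS) * pv φ (inl i)) * h⁻¹ := by rw [e]
        _ = _ := by group
    have hga' : a' ≠ 0 ∧ mT (mT a' a') a' = 0 := by
      simp only [good, decide_eq_true_eq] at hg'
      exact ⟨hg'.1, hg'.2.2.1⟩
    exact hga'.1 (good_cent a ha b hb hg a' ha' hga'.2 (hka ▸ hcm gS hS) (hkb ▸ hcm gT hT))
  have hsplit : ∀ p : Pr, plt p → pv φ p = pv φ (inl p.1) * pv φ (inr p.2) := fun p hp => by
    rw [pv_mul (x := inl p.1) (y := inr p.2) ⟨hp.1, by norm_num⟩ ⟨by norm_num, hp.2⟩, pmul, (tab_facts _ hp.1).2.2.2.2.2.1,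
      (tab_facts _ hp.2).2.2.2.2.1]
  simp only [List.mem_cons, List.not_mem_nil, or_false] at hι₁ hι₂
  rcases hι₁ with rfl | rfl <;> rcases hι₂ with rfl | rfl
  · exact absurd rfl hne
  · refine ⟨(k₁, k₂), ⟨hk₁, hk₂⟩, e₁, e₂, false, fun p hp => ?_⟩
    rw [hsplit p hp, show aut (k₁, k₂) e₁ e₂ false p = (cj k₁ e₁ p.1, cj k₂ e₂ p.2) from rfl,
      hsplit (cj k₁ e₁ p.1, cj k₂ e₂ p.2) ⟨(cj_word k₁ hk₁ e₁ _ hp.1).2, (cj_word k₂ hk₂ e₂ _ hp.2).2⟩, ← H₁ p.1 hp.1, ← H₂ p.2 hp.2]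
    group
  · refine ⟨(k₂, k₁), ⟨hk₂, hk₁⟩, e₂, e₁, true, fun p hp => ?_⟩
    have h2 := (cj_word k₂ hk₂ e₂ _ hp.2).2
    have h1 := (cj_word k₁ hk₁ e₁ _ hp.1).2
    have hc : pv φ (cj k₂ e₂ p.2, 0) * pv φ (0, cj k₁ e₁ p.1) = pv φ (0, cj k₁ e₁ p.1) * pv φ (cj k₂ e₂ p.2, 0) :=
      (S.commute_iff ⟨h2, Nat.succ_pos _⟩ ⟨Nat.succ_pos _, h1⟩).2 (peq_single _ h2 _ h1).2.2
    rw [hsplit p hp, show aut (k₂, k₁) e₂ e₁ true p = (cj k₂ e₂ p.2, cj k₁ e₁ p.1) from rfl,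
      hsplit (cj k₂ e₂ p.2, cj k₁ e₁ p.1) ⟨h2, h1⟩]
    show _ = pv φ (cj k₂ e₂ p.2, 0) * pv φ (0, cj k₁ e₁ p.1)
    rw [hc]
    show _ = pv φ (inr (cj k₁ e₁ p.1)) * pv φ (inl (cj k₂ e₂ p.2))
    rw [← H₁ p.1 hp.1, ← H₂ p.2 hp.2]
    group
  · exact absurd rfl hne

end CfsgLib.U43
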