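import Cfsg.Agent.Lib.U43.HPair

/-!
# The frame of a pair

From a `Pair` the element of order four and one involution of `W` give a `Frame`.
-/

set_option autoImplicit false
set_option maxRecDepth 100000
set_option Elab.async false

namespace CfsgLib.U43

universe u

namespace Dat

variable {G : Type u} [Group G] {z : G} (A : Dat z)

theorem cent_check : allBelow 24 (fun c => allBelow 24 fun d => allBelow 24 fun e =>
    !(qa c && qa d) || Nat.beq (mt c d) (mt d c) ||
      !(Nat.beq (mt c e) (mt e c) && Nat.beq (mt d e) (mt e d)) || Nat.beq e 0 || Nat.beq e 12) =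
    true := by decide +kernel

theorem cent_num {c d e : ℕ} (hc : qa c = true) (hd : qa d = true) (he : e < 24)
    (h : mt c d ≠ mt d c) (h1 : mt c e = mt e c) (h2 : mt d e = mt e d) : e = 0 ∨ e = 12 := by
  have := allBelow_get (allBelow_get (allBelow_get cent_check (qa_lt hc)) (qa_lt hd)) he
  simpa [hc, hd, h, h1, h2] using this

theorem noncomm36 : A.ck 3 0 * A.ck 6 0 ≠ A.ck 6 0 * A.ck 3 0 ∧
    A.ck 0 3 * A.ck 0 6 ≠ A.ck 0 6 * A.ck 0 3 := by
  constructor <;> intro e <;>
  · rw [A.ck_mul (by norm_num) (by norm_num) (by norm_num) (by norm_num),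
      A.ck_mul (by norm_num) (by norm_num) (by norm_num) (by norm_num),
      A.eq_iff (el_mul (by norm_num) (by norm_num)).2 (el_mul (by norm_num) (by norm_num)).2
        (el_mul (by norm_num) (by norm_num)).2 (el_mul (by norm_num) (by norm_num)).2] at e
    revert e; decide +kernel

/-- A normalising element maps the first factor into itself. -/
theorem nrm_factor {h : G} (hh : h * z = z * h) (hn : A.Nrm h) {a : ℕ} (ha : a < 24) :
    ∃ c, c < 24 ∧ h * A.ck a 0 * h⁻¹ = A.ck c 0 := by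
  obtain ⟨x', y', e⟩ := A.normK h hh (el a) (el 0)
  obtain ⟨c, d, hc, hd, e'⟩ := A.exists_ck x' y'
  have e2 : h * A.ck a 0 * h⁻¹ = A.ck c d := e.trans e'
  obtain ⟨d3, hd3, ed3⟩ := (hn 3 (by decide +kernel)).2
  obtain ⟨d6, hd6, ed6⟩ := (hn 6 (by decide +kernel)).2
  have key : ∀ {v u}, qa u = true → h * A.ck 0 v * h⁻¹ = A.ck 0 u → mt u d = mt d u := by
    intro v u hu ev
    have h1 : A.ck c d * A.ck 0 u = A.ck 0 u * A.ck c d := by
      rw [← e2, ← ev, conj_mul, conj_mul, A.commute_lr]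
    rw [A.ck_mul hc hd (by norm_num) (qa_lt hu), A.ck_mul (by norm_num) (qa_lt hu) hc hd,
      (iv_spec hc).2.2.2.2.1, (iv_spec hc).2.2.2.1] at h1
    exact (el_inj (el_mul hd (qa_lt hu)).2 (el_mul (qa_lt hu) hd).2 (A.inj2 (mul_left_cancel h1))).symm
  have hne : mt d3 d6 ≠ mt d6 d3 := fun e0 => A.noncomm36.2 (by
    refine mul_left_cancel (mul_right_cancel (?_ : h * _ * h⁻¹ = h * _ * h⁻¹))
    rw [← conj_mul, ← conj_mul, ed3, ed6, A.mul_right' (qa_lt hd3) (qa_lt hd6),
      A.mul_right' (qa_lt hd6) (qa_lt hd3), e0])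
  rcases cent_num hd3 hd6 hd hne (key hd3 ed3) (key hd6 ed6) with rfl | rfl
  · exact ⟨c, hc, e2⟩
  · refine ⟨mt 12 c, (el_mul (by norm_num) hc).2, e2.trans ?_⟩
    rw [A.eq_iff hc (by norm_num) (el_mul (by norm_num) hc).2 (by norm_num), eqK_iff]
    exact Or.inr ⟨rfl, by decide +kernel⟩

/-- An interchanging element maps the first factor into the second one. -/
theorem swp_factor {h : G} (hh : h * z = z * h) (hs : A.Swp h) {a : ℕ} (ha : a < 24) :
    ∃ c, c < 24 ∧ h * A.ck a 0 * h⁻¹ = A.ck 0 c := by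
  obtain ⟨x', y', e⟩ := A.normK h hh (el a) (el 0)
  obtain ⟨c, d, hc, hd, e'⟩ := A.exists_ck x' y'
  have e2 : h * A.ck a 0 * h⁻¹ = A.ck c d := e.trans e'
  obtain ⟨c3, hc3, ec3⟩ := (hs 3 (by decide +kernel)).2
  obtain ⟨c6, hc6, ec6⟩ := (hs 6 (by decide +kernel)).2
  have key : ∀ {v u}, qa u = true → h * A.ck 0 v * h⁻¹ = A.ck u 0 → mt u c = mt c u := by
    intro v u hu ev
    have h1 : A.ck c d * A.ck u 0 = A.ck u 0 * A.ck c d := by
      rw [← e2, ← ev, conj_mul, conj_mul, A.commute_lr]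
    rw [A.ck_mul hc hd (qa_lt hu) (by norm_num), A.ck_mul (qa_lt hu) (by norm_num) hc hd,
      (iv_spec hd).2.2.2.2.1, (iv_spec hd).2.2.2.1] at h1
    exact (el_inj (el_mul hc (qa_lt hu)).2 (el_mul (qa_lt hu) hc).2
      (A.inj1 (mul_right_cancel h1))).symm
  have hne : mt c3 c6 ≠ mt c6 c3 := fun e0 => A.noncomm36.2 (by
    refine mul_left_cancel (mul_right_cancel (?_ : h * _ * h⁻¹ = h * _ * h⁻¹))
    rw [← conj_mul, ← conj_mul, ec3, ec6, A.mul_left' (qa_lt hc3) (qa_lt hc6),
      A.mul_left' (qa_lt hc6) (qa_lt hc3), e0])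
  rcases cent_num hc3 hc6 hc hne (key hc3 ec3) (key hc6 ec6) with rfl | rfl
  · exact ⟨d, hd, e2⟩
  · refine ⟨mt 12 d, (el_mul (by norm_num) hd).2, e2.trans ?_⟩
    rw [A.eq_iff (by norm_num) hd (by norm_num) (el_mul (by norm_num) hd).2, eqK_iff]
    exact Or.inr ⟨by decide +kernel, rfl⟩

theorem sd_check : allBelow 24 (fun a => allBelow 24 fun b =>
    Nat.beq (sd (mt a b)) (mt (sd a) (sd b)) &&
    (!qa a || qa (cj 1 a)) &&
    (!(Nat.beq (cj a 3) (sd (cj 1 3)) && Nat.beq (cj a (sd 6)) (sd (cj 1 6)) &&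
      Nat.beq (mt a (mt a a)) 0) || Nat.beq a (sd 1))) = true := by decide +kernel

theorem sd_mul {a b : ℕ} (ha : a < 24) (hb : b < 24) : sd (mt a b) = mt (sd a) (sd b) := by
  have h := allBelow_get (allBelow_get sd_check ha) hb
  simp only [Bool.and_eq_true] at h
  exact Nat.eq_of_beq_eq_true h.1.1

/-- An automorphism of the first factor is known from the images of `el 3` and `el 6`. -/
theorem conj_eq_sd {h : G} (hh : h * z = z * h) (hn : A.Nrm h)
    (h3 : h * A.ck 3 0 * h⁻¹ = A.ck 3 0) (h6 : h * A.ck 6 0 * h⁻¹ = A.ck (sd 6) 0) :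
    ∀ a, a < 24 → h * A.ck a 0 * h⁻¹ = A.ck (sd a) 0 := by
  have hm : ∀ {a b : ℕ}, a < 24 → b < 24 → h * A.ck a 0 * h⁻¹ = A.ck (sd a) 0 →
      h * A.ck b 0 * h⁻¹ = A.ck (sd b) 0 → h * A.ck (mt a b) 0 * h⁻¹ = A.ck (sd (mt a b)) 0 := by
    intro a b ha hb e1 e2
    rw [← A.mul_left' ha hb, ← conj_mul, e1, e2, A.mul_left' (unary ha).1 (unary hb).1,
      sd_mul ha hb]
  have h0 : h * A.ck 0 0 * h⁻¹ = A.ck (sd 0) 0 := by
    rw [show sd 0 = 0 by decide +kernel, A.ck_zero, mul_one, mul_inv_cancel]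
  have hq : ∀ a, qa a = true → h * A.ck a 0 * h⁻¹ = A.ck (sd a) 0 :=
    qa_gen h0 (h3.trans (by rw [show sd 3 = 3 by decide +kernel])) h6
      fun a b ha hb => hm (qa_lt ha) (qa_lt hb)
  obtain ⟨c, hc, ec⟩ := A.nrm_factor hh hn (show 1 < 24 by norm_num)
  have conjEq : ∀ v, qa v = true → cj c (sd v) = sd (cj 1 v) := fun v hv => by
    have hv' := qa_lt hv
    have hqc : qa (cj 1 v) = true := by
      have h := allBelow_get (allBelow_get sd_check hv') (show 0 < 24 by norm_num)
      simp only [Bool.and_eq_true, Bool.or_eq_true] at h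
      simpa [hv] using h.1.2
    refine A.ck_inj_left (cj_spec hc (unary hv').1).1 (unary (cj_spec (by norm_num) hv').1).1 ?_
    rw [← hq _ hqc]
    calc A.ck (cj c (sd v)) 0 = A.ck c 0 * A.ck (sd v) 0 * (A.ck c 0)⁻¹ := by
          rw [A.ck_conj hc (by norm_num) (unary hv').1 (by norm_num), show cj 0 0 = 0 by decide +kernel]
      _ = h * (A.ck 1 0 * A.ck v 0 * (A.ck 1 0)⁻¹) * h⁻¹ := by
          rw [← ec, ← hq v hv]; simp [mul_assoc]
      _ = _ := by
          rw [A.ck_conj (by norm_num) (by norm_num) hv' (by norm_num),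
            show cj 0 0 = 0 by decide +kernel]
  have hcube : mt c (mt c c) = 0 := by
    refine A.ck_inj_left (el_mul hc (el_mul hc hc).2).2 (by norm_num) ?_
    rw [← A.mul_left' hc (el_mul hc hc).2, ← A.mul_left' hc hc, ← ec, conj_mul, conj_mul,
      A.mul_left' (by norm_num) (by norm_num),
      A.mul_left' (by norm_num) (el_mul (by norm_num) (by norm_num)).2,
      show mt 1 (mt 1 1) = 0 by decide +kernel, A.ck_zero, mul_one, mul_inv_cancel]
  have hc1 : c = sd 1 := by
    have h := allBelow_get (allBelow_get sd_check hc) (show 0 < 24 by norm_num)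
    simp only [Bool.and_eq_true, Bool.or_eq_true, Bool.not_eq_true', Bool.and_eq_false_iff] at h
    have e3 := conjEq 3 (by decide +kernel)
    rw [show sd 3 = 3 by decide +kernel] at e3
    rcases h.2 with ((hh' | hh') | hh') | hh'
    · simp [e3] at hh'
    · simp [conjEq 6 (by decide +kernel)] at hh'
    · simp [hcube] at hh'
    · exact Nat.eq_of_beq_eq_true hh'
  subst hc1
  intro a ha
  have h := allBelow_get slWords13_check ha
  simp only [List.any_eq_true, Bool.and_eq_true, Nat.blt_eq] at h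
  obtain ⟨k, hk, j, -, e, hj⟩ := h
  rw [← Nat.eq_of_beq_eq_true e]
  have hk8 := List.mem_range.1 hk
  refine hm (by omega) (by omega) (hq _ ?_) ?_
  · have := allBelow_get (show allBelow 8 (fun k => qa (3 * k)) = true by decide +kernel) hk8
    exact this
  · interval_cases j
    · exact h0
    · exact ec
    · have := hm (show 1 < 24 by norm_num) (show 1 < 24 by norm_num) ec ec
      rwa [show mt 1 1 = 2 by decide +kernel] at this

end Dat

namespace Pair

variable {G : Type u} [Group G] {z t : G} (P : Pair z t)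

/-- The interchanging involution. -/
theorem swp_s : P.A.Swp (P.B.ck 6 6) := by
  refine (P.A.nrm_or_swp P.w6.2).resolve_left fun hn => ?_
  have h9 : rOK 9 6 = false := by decide +kernel
  refine P.not_inR_B (by norm_num) (by norm_num) h9 ?_
  rw [← P.wp_w6]
  exact P.inR_mul_of_outer P.wp P.w6
    (P.outer_w (by norm_num) (by norm_num) (by decide +kernel) P.wp P.nrm_p) P.nrm_p
    (P.outer_w (by norm_num) (by norm_num) (by decide +kernel) P.w6 hn) hn

theorem s_sq (P : Pair z t) : P.B.ck 6 6 * P.B.ck 6 6 = 1 := by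
  rw [P.B.ck_mul (by norm_num) (by norm_num) (by norm_num) (by norm_num), ← P.B.ck_zero,
    P.B.eq_iff (el_mul (by norm_num) (by norm_num)).2 (el_mul (by norm_num) (by norm_num)).2
      (by norm_num) (by norm_num)]
  decide +kernel

/-- The interchanging involution maps `A.ck 3 0` to `A.ck 0 3`. -/
theorem s_img : P.B.ck 6 6 * P.A.ck 3 0 * (P.B.ck 6 6)⁻¹ = P.A.ck 0 3 := by
  obtain ⟨c, hc, ec⟩ := P.swp_img P.w6 P.swp_s
  set q := P.A.ck 3 0
  set s := P.B.ck 6 6
  obtain ⟨c1, x, y, -, hx, hy, -, -, f3, f4⟩ :=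
    P.symm.outer_w (by norm_num) (by norm_num) (by decide +kernel) P.symm.wp P.symm.nrm_p
  change q * P.B.ck 6 0 * q⁻¹ = P.B.ck x 0 at f3
  change q * P.B.ck 0 6 * q⁻¹ = P.B.ck 0 y at f4
  have hx24 : x < 24 := by omega
  have hy24 : y < 24 := by omega
  have hqs : q * s * q⁻¹ = P.B.ck x y := by
    calc q * s * q⁻¹ = q * (P.B.ck 6 0 * P.B.ck 0 6) * q⁻¹ := by
          rw [P.B.ck_mul (by norm_num) (by norm_num) (by norm_num) (by norm_num),
            show mt 6 0 = 6 by decide +kernel, show mt 0 6 = 6 by decide +kernel]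
      _ = P.B.ck x 0 * P.B.ck 0 y := by rw [← conj_mul, f3, f4]
      _ = _ := by
        rw [P.B.ck_mul hx24 (by norm_num) (by norm_num) hy24, (iv_spec hx24).2.2.2.2.1,
          (iv_spec hy24).2.2.2.1]
  have hzt : z * t = P.B.ck 15 3 := P.zt.trans P.symm.zt_eq
  have hmm : P.B.ck x y = s * z ∨ P.B.ck x y = s * (z * t) := by
    have e1 : s * z = P.B.ck (mt 6 3) (mt 6 3) := P.symm.mul_t (by norm_num) (by norm_num)
    have e2 : s * (z * t) = P.B.ck (mt 6 15) (mt 6 3) := by
      rw [hzt, P.B.ck_mul (by norm_num) (by norm_num) (by norm_num) (by norm_num)]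
    rw [e1, e2, P.B.eq_iff hx24 hy24 (el_mul (by norm_num) (by norm_num)).2
      (el_mul (by norm_num) (by norm_num)).2,
      P.B.eq_iff hx24 hy24 (el_mul (by norm_num) (by norm_num)).2
      (el_mul (by norm_num) (by norm_num)).2]
    rcases hx with rfl | rfl <;> rcases hy with rfl | rfl <;>
      first | exact Or.inl (by decide +kernel) | exact Or.inr (by decide +kernel)
  rcases hmm with e | e
  · exfalso
    have h1 := flip P.w6.2 (hqs.trans e)
    rw [inv_eq_of_mul_eq_one_right P.A.z_sq, P.z_mul (by norm_num) (by norm_num), ec,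
      P.A.eq_iff (by norm_num) (by omega) (el_mul (by norm_num) (by norm_num)).2 (by norm_num)] at h1
    rcases hc with rfl | rfl <;> revert h1 <;> decide +kernel
  · have hmz : s * (z * t) = z * t * s := by
      rw [← mul_assoc, P.w6.2, mul_assoc, P.w_comm_t P.w6, mul_assoc]
    rw [flip hmz (hqs.trans e), P.zt_eq, P.A.ck_inv (by norm_num) (by norm_num),
      P.A.ck_mul (iv_spec (by norm_num)).1 (iv_spec (by norm_num)).1 (by norm_num) (by norm_num),
      P.A.eq_iff (el_mul (iv_spec (by norm_num)).1 (by norm_num)).2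
        (el_mul (iv_spec (by norm_num)).1 (by norm_num)).2 (by norm_num) (by norm_num)]
    decide +kernel

theorem not_K {a b : ℕ} (hw : P.InW (P.B.ck a b)) (ha : a < 24) (hb : b < 24)
    (hr : rOK a b = false) {c d : ℕ} (hc : c < 24) (hd : d < 24) :
    P.A.ck c d * P.B.ck a b ≠ 1 := by
  intro e
  have h1 : P.B.ck a b = P.A.ck (iv c) (iv d) := by
    rw [← P.A.ck_inv hc hd]
    exact (inv_eq_of_mul_eq_one_right e).symm
  refine P.not_inR_B ha hb hr (P.meet _ ?_ hw.1)
  rw [h1]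
  exact P.A.inQ_of_four (iv_spec hc).1 (iv_spec hd).1 (by rw [← h1]; exact P.B.inQ_pow_four hw.1)

/-- **The frame of a pair.** -/
theorem exists_frame (g : G) (hg : g * z * g⁻¹ = t)
    (hgQ : ∀ x, P.B.InQ x ↔ P.A.InQ (g⁻¹ * x * g)) :
    ∃ F : Frame z, ∀ x, (∃ n, inQ n = true ∧ F.phi n = x) ↔ P.A.InQ x := by
  obtain ⟨e1, e2, x, hx, e3⟩ := P.p_fix P.nrm_p
  obtain ⟨d0, hd0, hD6⟩ : ∃ d0, (d0 = 3 ∨ d0 = 15) ∧
      P.B.ck d0 0 * P.A.ck 6 0 * (P.B.ck d0 0)⁻¹ = P.A.ck (sd 6) 0 := by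
    rcases hx with rfl | rfl
    · exact ⟨3, Or.inl rfl, e3.trans (by rw [show sd 6 = 9 by decide +kernel])⟩
    · refine ⟨15, Or.inr rfl, ?_⟩
      have e15 : P.B.ck 15 0 = t * P.B.ck 3 0 := by
        have := P.symm.z_mul (a := 3) (b := 0) (by norm_num) (by norm_num)
        rw [show mt 12 3 = 15 by decide +kernel] at this
        exact this.symm
      calc P.B.ck 15 0 * P.A.ck 6 0 * (P.B.ck 15 0)⁻¹
          = t * (P.B.ck 3 0 * P.A.ck 6 0 * (P.B.ck 3 0)⁻¹) * t⁻¹ := by rw [e15]; simp [mul_assoc]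
        _ = _ := by
          rw [e3, P.t_conj (by norm_num) (by norm_num), show cj 3 21 = sd 6 by decide +kernel,
            show cj 3 0 = 0 by decide +kernel]
  have hd24 : d0 < 24 := by omega
  set D := P.B.ck d0 0 with hDdef
  set S := P.B.ck 6 6 with hSdef
  have hDW : P.InW D := by
    rcases hd0 with rfl | rfl
    · exact P.wp
    · exact P.inW_B (by decide +kernel) (by decide +kernel) (by decide +kernel)
  have hD15 : ∀ v, v < 24 → D * P.A.ck v 0 * D⁻¹ = P.B.ck 3 0 * P.A.ck v 0 * (P.B.ck 3 0)⁻¹ ∨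
      D * P.A.ck v 0 * D⁻¹ = t * (P.B.ck 3 0 * P.A.ck v 0 * (P.B.ck 3 0)⁻¹) * t⁻¹ := by
    intro v _
    rcases hd0 with rfl | rfl
    · exact Or.inl rfl
    · right
      have := P.symm.z_mul (a := 3) (b := 0) (by norm_num) (by norm_num)
      rw [show mt 12 3 = 15 by decide +kernel] at this
      change t * P.B.ck 3 0 = P.B.ck 15 0 at this
      rw [hDdef, ← this]
      simp [mul_assoc]
  have hD3 : D * P.A.ck 3 0 * D⁻¹ = P.A.ck 3 0 := by
    rcases hD15 3 (by norm_num) with e | e <;> rw [e, e1]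
    rw [P.t_conj (by norm_num) (by norm_num), show cj 3 3 = 3 by decide +kernel,
      show cj 3 0 = 0 by decide +kernel]
  have hDn : P.A.Nrm D := by
    refine (P.A.nrm_or_swp hDW.2).resolve_right fun hs => ?_
    obtain ⟨c, hc, ec⟩ := P.swp_img hDW hs
    rw [hD3, P.A.eq_iff (by norm_num) (by norm_num) (by norm_num) (by omega)] at ec
    rcases hc with rfl | rfl <;> revert ec <;> decide +kernel
  have hDconj := P.A.conj_eq_sd hDW.2 hDn hD3 hD6
  have hSS : S * S = 1 := P.s_sq
  have hSinv : S⁻¹ = S := inv_eq_of_mul_eq_one_right hSS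
  have hSimg : ∀ b, b < 24 → ∃ c, c < 24 ∧ S * P.A.i1 (el b) * S = P.A.ck 0 c := fun b hb => by
    obtain ⟨c, hc, e⟩ := P.A.swp_factor P.w6.2 P.swp_s hb
    rw [hSinv, P.A.ck_left] at e
    exact ⟨c, hc, e⟩
  have hS3 : S * P.A.i1 (el 3) * S = P.A.i2 (el 3) := by
    have e := P.s_img
    rw [hSinv, P.A.ck_left, P.A.ck_right] at e
    exact e
  have htc : phiOf P.A.i1 S D tc = t := by
    show P.A.i1 (el 3) * (S * P.A.i1 (el 3) * S) * 1 = t
    rw [hS3, mul_one]
    exact P.ht
  have hphi : ∀ n, n < 1152 → ∃ c d, c < 24 ∧ d < 24 ∧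
      (∀ r, n / 288 = r → phiOf P.A.i1 S D n = P.A.ck c d * (bif Nat.beq r 1 then D else
        bif Nat.beq r 2 then S else bif Nat.beq r 3 then D * S else 1)) ∧
      (inQ n = true → qa c = true ∧ qa d = true) := by
    intro n hn
    obtain ⟨d, hd, ed⟩ := hSimg (n % 12) (by omega)
    refine ⟨n % 288 / 12, d, by omega, hd, fun r hr => ?_, fun hq => ?_⟩
    · subst hr
      show P.A.i1 (el (n % 288 / 12)) * (S * P.A.i1 (el (n % 12)) * S) * _ = _
      rw [ed, P.A.ck_right]
      rfl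
    · simp only [inQ, Bool.and_eq_true, Nat.beq_eq] at hq
      have h1 : qa (n % 288 / 12) = true := by
        simp only [qa, Bool.and_eq_true, Nat.blt_eq, Nat.beq_eq]
        exact ⟨by omega, hq.1.2⟩
      refine ⟨h1, ?_⟩
      have h2 : qa (n % 12) = true := by
        simp only [qa, Bool.and_eq_true, Nat.blt_eq, Nat.beq_eq]
        exact ⟨by omega, hq.2⟩
      obtain ⟨c, hc, ec⟩ := (P.swp_s _ h2).1
      rw [hSinv, P.A.ck_left, ed] at ec
      rwa [P.A.ck_inj_right hd (qa_lt hc) ec]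
  have hback : ∀ x, P.A.InQ x → ∃ n, inQ n = true ∧ phiOf P.A.i1 S D n = x := by
    rintro _ ⟨a, b, ha, hb, rfl⟩
    obtain ⟨b', hb', eb⟩ := (P.swp_s b hb).2
    rw [hSinv] at eb
    have eb2 : S * P.A.ck b' 0 * S = P.A.ck 0 b := by
      rw [← eb]
      calc S * (S * P.A.ck 0 b * S) * S = S * S * P.A.ck 0 b * (S * S) := by simp [mul_assoc]
        _ = _ := by rw [hSS, one_mul, mul_one]
    obtain ⟨a2, b2, ha2, hb2, hb12, he⟩ : ∃ a2 b2, qa a2 = true ∧ qa b2 = true ∧ b2 < 12 ∧
        P.A.ck a 0 * (S * P.A.ck b' 0 * S) = P.A.ck a2 0 * (S * P.A.ck b2 0 * S) := by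
      by_cases h : b' < 12
      · exact ⟨a, b', ha, hb', h, rfl⟩
      · refine ⟨mt 12 a, mt 12 b', qa_mul (by decide +kernel) ha, qa_mul (by decide +kernel) hb', ?_, ?_⟩
        · rw [(unary (qa_lt hb')).2.2.2.1,
            show Nat.blt b' 12 = false from Bool.eq_false_iff.2 fun e => h (by rwa [Nat.blt_eq] at e)]
          simp only [cond_false]
          have := qa_lt hb'
          omega
        · rw [← P.z_mul (qa_lt ha) (by norm_num), ← P.z_mul (qa_lt hb') (by norm_num)]
          have hS : Commute S z := P.w6.2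
          have hA : Commute (P.A.ck a 0) z := P.A.ck_central a 0
          calc P.A.ck a 0 * (S * P.A.ck b' 0 * S)
              = z * z * (P.A.ck a 0 * (S * P.A.ck b' 0 * S)) := by rw [P.A.z_sq, one_mul]
            _ = z * P.A.ck a 0 * (z * (S * P.A.ck b' 0 * S)) := by
              rw [mul_assoc z z, ← mul_assoc z (P.A.ck a 0), ← hA.eq, mul_assoc (P.A.ck a 0) z,
                ← mul_assoc z (P.A.ck a 0), ← hA.eq, mul_assoc (P.A.ck a 0) z]
            _ = _ := by rw [← mul_assoc z (S * P.A.ck b' 0), ← mul_assoc z S, ← hS.eq, mul_assoc S z]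
    have h1 := qa_lt ha2
    refine ⟨12 * a2 + b2, ?_, ?_⟩
    · simp only [qa, Bool.and_eq_true, Nat.blt_eq, Nat.beq_eq] at ha2 hb2
      simp only [inQ, Bool.and_eq_true, Nat.blt_eq, Nat.beq_eq]
      omega
    · have hn : (12 * a2 + b2) % 288 / 12 = a2 ∧ (12 * a2 + b2) % 12 = b2 ∧
          (12 * a2 + b2) / 288 = 0 := by omega
      have e : P.A.ck a b = P.A.ck a2 0 * (S * P.A.ck b2 0 * S) := by
        rw [← he, eb2, P.A.ck_left, P.A.ck_right]; rfl
      rw [e, P.A.ck_left, P.A.ck_left]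
      show P.A.i1 _ * (S * P.A.i1 _ * S) * _ = _
      rw [hn.1, hn.2.1, hn.2.2]
      exact mul_one _
  have hfwd : ∀ n, inQ n = true → P.A.InQ (phiOf P.A.i1 S D n) := fun n hn => by
    have hlt : n < 288 := by
      simp only [inQ, Bool.and_eq_true, Nat.blt_eq] at hn
      exact hn.1.1
    obtain ⟨c, d, -, -, h1, h2⟩ := hphi n (by omega)
    rw [h1 0 (by omega)]
    simp only [show Nat.beq 0 1 = false from rfl, show Nat.beq 0 2 = false from rfl,
      show Nat.beq 0 3 = false from rfl, cond_false, mul_one]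
    exact P.A.inQ_ck (h2 hn).1 (h2 hn).2
  have hgmem : ∀ y, P.B.InQ y → ∃ q, inQ q = true ∧ g * phiOf P.A.i1 S D q * g⁻¹ = y := fun y hy => by
    obtain ⟨q, hq, eq⟩ := hback _ ((hgQ y).1 hy)
    exact ⟨q, hq, by rw [eq]; simp [mul_assoc]⟩
  refine ⟨{ e := P.A.i1, S := S, D := D, g := g, inj := P.A.inj1, e_neg := P.A.neg1,
            S_z := P.w6.2, S_sq := hSS,
            comm := ?_, sep := ?_, D_sq := ?_, D_S := ?_, D_conj := ?_, outer := ?_,
            card := P.A.card, g_z := hg.trans htc.symm, g_D := hgmem D hDW.1,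
            g_S := hgmem S P.w6.1, g_t := ?_, g_meet := ?_ }, ?_⟩
  · intro a b
    obtain ⟨b', hb', rfl⟩ := el_surj b
    obtain ⟨c, -, ec⟩ := hSimg b' hb'
    rw [ec, P.A.ck_right, P.A.comm]
  · intro a b h
    obtain ⟨b', hb', rfl⟩ := el_surj b
    obtain ⟨c, -, ec⟩ := hSimg b' hb'
    rw [ec, P.A.ck_right] at h
    exact P.A.sep a (el c) h
  · rw [htc, hDdef, P.B.mul_left' hd24 hd24]
    refine Eq.trans ?_ P.B.ck_neg
    rcases hd0 with rfl | rfl <;> congr 1 <;> decide +kernel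
  · rw [htc, hDdef, hSdef, P.B.ck_mul hd24 (by norm_num) (by norm_num) (by norm_num),
      P.B.ck_mul (by norm_num) (by norm_num) hd24 (by norm_num)]
    refine Eq.trans ?_ (P.symm.z_mul (el_mul (by norm_num) hd24).2
      (el_mul (by norm_num) (by norm_num)).2).symm
    show P.B.ck _ _ = P.B.ck _ _
    rw [P.B.eq_iff (el_mul hd24 (by norm_num)).2 (el_mul (by norm_num) (by norm_num)).2
      (el_mul (by norm_num) (el_mul (by norm_num) hd24).2).2 (el_mul (by norm_num) (by norm_num)).2]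
    rcases hd0 with rfl | rfl <;> decide +kernel
  · intro a ha
    have := hDconj a ha
    rwa [P.A.ck_left, P.A.ck_left] at this
  · intro n hn hn' h
    obtain ⟨c, d, hc, hd, h1, -⟩ := hphi n hn'
    rw [h1 _ rfl] at h
    obtain hr | hr | hr : n / 288 = 1 ∨ n / 288 = 2 ∨ n / 288 = 3 := by omega
    all_goals rw [hr] at h
    · rcases hd0 with rfl | rfl
      · exact P.not_K P.wp (by norm_num) (by norm_num) (by decide +kernel) hc hd h
      · exact P.not_K hDW (by norm_num) (by norm_num) (by decide +kernel) hc hd h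
    · exact P.not_K P.w6 (by norm_num) (by norm_num) (by decide +kernel) hc hd h
    · change P.A.ck c d * (D * S) = 1 at h
      have e : D * S = P.B.ck (mt d0 6) 6 := by
        rw [hDdef, hSdef, P.B.ck_mul hd24 (by norm_num) (by norm_num) (by norm_num),
          show mt 0 6 = 6 by decide +kernel]
      rw [e] at h
      rcases hd0 with rfl | rfl <;>
        exact P.not_K (P.inW_B (by decide +kernel) (by decide +kernel) (by decide +kernel))
          (el_mul (by norm_num) (by norm_num)).2 (by norm_num) (by decide +kernel) hc hd h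
  · obtain ⟨q, hq, eq⟩ := hgmem _ (P.B.inQ_ck (a := 3) (b := 3) (by decide +kernel) (by decide +kernel))
    exact ⟨q, hq, eq.trans P.hz⟩
  · intro p q hp hq h
    rw [htc]
    refine P.meet _ (hfwd q hq) ((hgQ _).2 ?_)
    rw [← h]
    simpa [mul_assoc] using hfwd p hp
  · intro y
    exact ⟨fun ⟨n, hn, e⟩ => e ▸ hfwd n hn, fun hy => hback y hy⟩

end Pair

end CfsgLib.U43
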