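import Cfsg.Agent.Lib.U43.HModel

/-!
# Frames for an involution centraliser of type `U₄(3)`

A `Frame z` numbers the centraliser of `z` by the model of `HModel`: `Frame.phi` is multiplicative,
injective below 1152 and covers the centraliser.
-/

set_option autoImplicit false
set_option maxRecDepth 100000
set_option Elab.async false

namespace CfsgLib.U43

universe u

variable {G : Type u} [Group G]

/-- The numbered elements of a frame. -/
noncomputable def phiOf (e : SL23 →* G) (S D : G) (n : ℕ) : G :=
  e (el (n % 288 / 12)) * (S * e (el (n % 12)) * S) *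
    (bif Nat.beq (n / 288) 1 then D else
      bif Nat.beq (n / 288) 2 then S else
      bif Nat.beq (n / 288) 3 then D * S else 1)

/-- A frame of the centraliser of `z`: the first factor `e`, the swap `S` and the diagonal `D`. -/
structure Frame (z : G) where
  e : SL23 →* G
  S : G
  D : G
  g : G
  inj : Function.Injective e
  e_neg : e (el 12) = z
  S_z : S * z = z * S
  S_sq : S * S = 1
  comm : ∀ a b : SL23, e a * (S * e b * S) = S * e b * S * e a
  /-- The two factors meet in `⟨z⟩`. -/
  sep : ∀ a b : SL23, e a = S * e b * S → a = el 0 ∨ a = el 12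
  D_sq : D * D = phiOf e S D tc
  D_S : D * S = phiOf e S D tc * (S * D)
  D_conj : ∀ a, a < 24 → D * e (el a) * D⁻¹ = e (el (sd a))
  /-- `D`, `S`, `D * S` and `1` lie in different cosets. -/
  outer : ∀ n, 288 ≤ n → n < 1152 → phiOf e S D n ≠ 1
  card : Nat.card ↥(Subgroup.centralizer ({z} : Set G)) = 1152
  /-- `t` is the conjugate of `z` by `g`. -/
  g_z : g * z * g⁻¹ = phiOf e S D tc
  /-- `D` and `S` lie in the conjugate of `Q` by `g`. -/
  g_D : ∃ q, inQ q = true ∧ g * phiOf e S D q * g⁻¹ = D
  g_S : ∃ q, inQ q = true ∧ g * phiOf e S D q * g⁻¹ = S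
  /-- `z` lies in the conjugate of `Q` by `g`. -/
  g_t : ∃ q, inQ q = true ∧ g * phiOf e S D q * g⁻¹ = z
  /-- `Q` and its conjugate by `g` meet in `⟨z, t⟩`. -/
  g_meet : ∀ p q, inQ p = true → inQ q = true → g * phiOf e S D p * g⁻¹ = phiOf e S D q →
    phiOf e S D q = 1 ∨ phiOf e S D q = z ∨ phiOf e S D q = phiOf e S D tc ∨
      phiOf e S D q = z * phiOf e S D tc

namespace Frame

variable {z : G} (F : Frame z)

/-- The element of the centraliser with a number. -/
noncomputable def phi (n : ℕ) : G := phiOf F.e F.S F.D n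

end Frame

end CfsgLib.U43
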