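import Cfsg.Agent.Lib.U43.HFrame

/-!
# The numbering of a frame

`Frame.phi` turns `mul` into the product, is injective below 1152 and has the centraliser of `z` as
image.
-/

set_option autoImplicit false
set_option maxRecDepth 100000
set_option Elab.async false

namespace CfsgLib.U43

universe u

/-- A test on all numbers below `n`. -/
noncomputable def allBelow (n : ℕ) (p : ℕ → Bool) : Bool := (List.range n).all p

theorem allBelow_get {n : ℕ} {p : ℕ → Bool} (h : allBelow n p = true) {i : ℕ} (hi : i < n) :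
    p i = true :=
  List.all_eq_true.1 h i (List.mem_range.2 hi)

theorem el_zero : el 0 = 1 := by decide +kernel

theorem el_check : allBelow 24 (fun a => allBelow 24 fun b =>
    decide (el a * el b = el (mt a b)) && Nat.blt (mt a b) 24 &&
    (Nat.beq a b || !decide (el a = el b))) = true := by decide +kernel

theorem el_mul {a b : ℕ} (ha : a < 24) (hb : b < 24) :
    el a * el b = el (mt a b) ∧ mt a b < 24 := by
  have h := allBelow_get (allBelow_get el_check ha) hb
  simp only [Bool.and_eq_true] at h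
  exact ⟨of_decide_eq_true h.1.1, by simpa [Nat.blt] using h.1.2⟩

theorem el_inj {a b : ℕ} (ha : a < 24) (hb : b < 24) (e : el a = el b) : a = b := by
  have h := allBelow_get (allBelow_get el_check ha) hb
  simp only [Bool.and_eq_true, Bool.or_eq_true] at h
  rcases h.2 with h' | h'
  · exact Nat.eq_of_beq_eq_true h'
  · simp [e] at h'

theorem el_surj_all : ∀ x : SL23, x ∈ elList := by decide +kernel

theorem el_surj (x : SL23) : ∃ a, a < 24 ∧ el a = x := by
  obtain ⟨i, hi, he⟩ := List.getElem_of_mem (el_surj_all x)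
  refine ⟨i, hi, ?_⟩
  rw [el, List.getD_eq_getElem _ _ hi, he]

theorem unary_check : allBelow 24 (fun a =>
    Nat.blt (sd a) 24 && Nat.blt (sdi a) 24 && Nat.beq (mt 3 (mt (sd a) 3)) (mt 12 (sdi a)) &&
    Nat.beq (mt 12 a) (bif Nat.blt a 12 then a + 12 else a - 12) &&
    Nat.beq (mt a 12) (mt 12 a) && ((List.range 24).any fun c => Nat.beq (mt a c) 0)) = true := by
  decide +kernel

theorem unary {a : ℕ} (ha : a < 24) :
    sd a < 24 ∧ sdi a < 24 ∧ mt 3 (mt (sd a) 3) = mt 12 (sdi a) ∧
    mt 12 a = (bif Nat.blt a 12 then a + 12 else a - 12) ∧ mt a 12 = mt 12 a ∧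
    ∃ c, c < 24 ∧ mt a c = 0 := by
  have h := allBelow_get unary_check ha
  simp only [Bool.and_eq_true, List.any_eq_true] at h
  obtain ⟨⟨⟨⟨⟨h1, h2⟩, h3⟩, h4⟩, h5⟩, c, hc, h6⟩ := h
  exact ⟨by simpa [Nat.blt] using h1, by simpa [Nat.blt] using h2, Nat.eq_of_beq_eq_true h3,
    Nat.eq_of_beq_eq_true h4, Nat.eq_of_beq_eq_true h5, c, List.mem_range.1 hc,
    Nat.eq_of_beq_eq_true h6⟩

theorem el_neg_comm (x : SL23) : el 12 * x = x * el 12 := by
  obtain ⟨a, ha, rfl⟩ := el_surj x
  rw [(el_mul (by norm_num) ha).1, (el_mul ha (by norm_num)).1, (unary ha).2.2.2.2.1]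

theorem pack_lt {r a b : ℕ} (hr : r < 4) (ha : a < 24) (hb : b < 24) : pack r a b < 1152 := by
  unfold pack
  cases h : Nat.blt b 12
  · have hb' : ¬ b < 12 := by rw [← Nat.blt_eq, h]; simp
    cases h' : Nat.blt a 12
    · have ha' : ¬ a < 12 := by rw [← Nat.blt_eq, h']; simp
      simp only [cond_false]
      omega
    · have ha' : a < 12 := by rwa [Nat.blt_eq] at h'
      simp only [cond_false, cond_true]
      omega
  · have hb' : b < 12 := by rwa [Nat.blt_eq] at h
    simp only [cond_true]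
    omega

theorem pack_div {r a b : ℕ} (hr : r < 4) (ha : a < 24) (hb : b < 24) : pack r a b / 288 = r := by
  unfold pack
  cases h : Nat.blt b 12
  · have hb' : ¬ b < 12 := by rw [← Nat.blt_eq, h]; simp
    cases h' : Nat.blt a 12
    · simp only [cond_false]
      omega
    · have ha' : a < 12 := by rwa [Nat.blt_eq] at h'
      simp only [cond_false, cond_true]
      omega
  · have hb' : b < 12 := by rwa [Nat.blt_eq] at h
    simp only [cond_true]
    omega

namespace Frame

variable {G : Type u} [Group G] {z : G} (F : Frame z)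

/-- The element `e a * (S * e b * S)`. -/
noncomputable def kk (a b : ℕ) : G := F.e (el a) * (F.S * F.e (el b) * F.S)

/-- The coset representatives. -/
noncomputable def rr (r : ℕ) : G :=
  bif Nat.beq r 1 then F.D else bif Nat.beq r 2 then F.S else
    bif Nat.beq r 3 then F.D * F.S else 1

theorem rr_zero : F.rr 0 = 1 := rfl
theorem rr_one : F.rr 1 = F.D := rfl
theorem rr_two : F.rr 2 = F.S := rfl
theorem rr_three : F.rr 3 = F.D * F.S := rfl

theorem phi_def (n : ℕ) : F.phi n = F.kk (n % 288 / 12) (n % 12) * F.rr (n / 288) := rfl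

theorem phi_eq {r a b : ℕ} (ha : a < 24) (hb : b < 12) :
    F.phi (288 * r + 12 * a + b) = F.kk a b * F.rr r := by
  rw [phi_def, show (288 * r + 12 * a + b) % 288 / 12 = a by omega,
    show (288 * r + 12 * a + b) % 12 = b by omega,
    show (288 * r + 12 * a + b) / 288 = r by omega]

theorem S_inv : F.S⁻¹ = F.S := inv_eq_of_mul_eq_one_right F.S_sq

theorem e_zero : F.e (el 0) = 1 := by rw [el_zero, map_one]

theorem z_e (x : SL23) : z * F.e x = F.e x * z := by
  calc z * F.e x = F.e (el 12) * F.e x := by rw [F.e_neg]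
    _ = F.e x * F.e (el 12) := by rw [← map_mul, ← map_mul, el_neg_comm]
    _ = F.e x * z := by rw [F.e_neg]

theorem z_sq (F : Frame z) : z * z = 1 := by
  calc z * z = F.e (el 12) * F.e (el 12) := by rw [F.e_neg]
    _ = 1 := by
        rw [← map_mul, (el_mul (by norm_num) (by norm_num)).1,
          show mt 12 12 = 0 by decide +kernel, F.e_zero]

theorem two_hom (x y : SL23) :
    F.S * F.e x * F.S * (F.S * F.e y * F.S) = F.S * F.e (x * y) * F.S := by
  calc F.S * F.e x * F.S * (F.S * F.e y * F.S)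
      = F.S * F.e x * (F.S * F.S) * F.e y * F.S := by simp only [mul_assoc]
    _ = _ := by rw [F.S_sq, mul_one, map_mul, mul_assoc F.S]

theorem two_neg : F.S * F.e (el 12) * F.S = z := by
  rw [F.e_neg, F.S_z, mul_assoc, F.S_sq, mul_one]

theorem kk_mul {a b c d : ℕ} (ha : a < 24) (hb : b < 24) (hc : c < 24) (hd : d < 24) :
    F.kk a b * F.kk c d = F.kk (mt a c) (mt b d) := by
  calc F.kk a b * F.kk c d
      = F.e (el a) * (F.S * F.e (el b) * F.S * F.e (el c)) * (F.S * F.e (el d) * F.S) := by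
        simp only [kk, mul_assoc]
    _ = F.e (el a) * (F.e (el c) * (F.S * F.e (el b) * F.S)) * (F.S * F.e (el d) * F.S) := by
        rw [F.comm]
    _ = F.e (el a) * F.e (el c) * (F.S * F.e (el b) * F.S * (F.S * F.e (el d) * F.S)) := by
        simp only [mul_assoc]
    _ = _ := by rw [F.two_hom, ← map_mul, (el_mul ha hc).1, (el_mul hb hd).1]; rfl

theorem kk_zero : F.kk 0 0 = 1 := by rw [kk, F.e_zero, mul_one, F.S_sq, mul_one]

theorem kk_pack {r a b : ℕ} (hr : r < 4) (ha : a < 24) (hb : b < 24) :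
    F.phi (pack r a b) = F.kk a b * F.rr r := by
  unfold pack
  cases h : Nat.blt b 12
  · have hb' : 12 ≤ b := by
      rw [← not_lt, ← Nat.blt_eq, h]
      simp
    simp only [cond_false]
    set a' : ℕ := bif Nat.blt a 12 then a + 12 else a - 12 with ha'
    have e1 : mt 12 a = a' := (unary ha).2.2.2.1
    have hlt : a' < 24 := e1 ▸ (el_mul (by norm_num) ha).2
    have e2 : mt 12 (b - 12) = b := by
      rw [(unary (by omega : b - 12 < 24)).2.2.2.1,
        show Nat.blt (b - 12) 12 = true by rw [Nat.blt_eq]; omega]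
      simp only [cond_true]
      omega
    have e3 : F.kk a b = F.kk a' (b - 12) := by
      calc F.kk a b = F.e (el a) * (F.S * F.e (el (mt 12 (b - 12))) * F.S) := by rw [e2]; rfl
        _ = F.e (el a) * (z * (F.S * F.e (el (b - 12)) * F.S)) := by
            rw [← (el_mul (by norm_num) (by omega : b - 12 < 24)).1, ← F.two_hom, F.two_neg]
        _ = F.e (el 12) * F.e (el a) * (F.S * F.e (el (b - 12)) * F.S) := by
            rw [F.e_neg, ← mul_assoc, F.z_e]
        _ = _ := by rw [← map_mul, (el_mul (by norm_num) ha).1, e1]; rfl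
    rw [show 288 * r + 12 * a' + (b - 12) = 288 * r + 12 * a' + (b - 12) from rfl,
      F.phi_eq hlt (by omega), e3]
  · simp only [cond_true]
    exact F.phi_eq ha (by rwa [Nat.blt_eq] at h)

/-- The element `t`. -/
theorem phi_tc : F.phi tc = F.kk 3 3 := by
  rw [show tc = 288 * 0 + 12 * 3 + 3 by rfl, F.phi_eq (by norm_num) (by norm_num), rr_zero, mul_one]

theorem t_sq : F.kk 3 3 * F.kk 3 3 = 1 := by
  rw [F.kk_mul (by norm_num) (by norm_num) (by norm_num) (by norm_num),
    show mt 3 3 = 12 by decide +kernel, kk, F.two_neg, F.e_neg, F.z_sq]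

theorem D_sq' : F.D * F.D = F.kk 3 3 := by rw [← F.phi_tc]; exact F.D_sq
theorem D_S' : F.D * F.S = F.kk 3 3 * (F.S * F.D) := by rw [← F.phi_tc]; exact F.D_S

theorem S_kk (a b : ℕ) : F.S * F.kk a b = F.kk b a * F.S := by
  calc F.S * F.kk a b
      = F.S * F.e (el a) * F.S * F.e (el b) * F.S := by simp only [kk, mul_assoc]
    _ = _ := by rw [← F.comm]; rfl

theorem S_mul_kk_S (a b : ℕ) : F.S * F.kk a b * F.S = F.kk b a := by
  rw [F.S_kk, mul_assoc, F.S_sq, mul_one]

theorem kk_neg : F.kk 12 12 = 1 := by rw [kk, F.two_neg, F.e_neg, F.z_sq]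

theorem kk_left (a : ℕ) : F.kk a 0 = F.e (el a) := by
  rw [kk, F.e_zero, mul_one, F.S_sq, mul_one]

theorem D_kk {a b : ℕ} (ha : a < 24) (hb : b < 24) :
    F.D * F.kk a b = F.kk (sd a) (sdi b) * F.D := by
  obtain ⟨hsb, hsib, hJ, -⟩ := unary hb
  have hsa : sd a < 24 := (unary ha).1
  have h1 : ∀ {c}, c < 24 → F.D * F.e (el c) = F.e (el (sd c)) * F.D := fun {c} hc => by
    rw [← F.D_conj c hc, inv_mul_cancel_right]
  have m3 : mt (sd b) 3 < 24 := (el_mul hsb (by norm_num)).2
  have h2 : F.D * (F.S * F.e (el b) * F.S) = F.kk 0 (sdi b) * F.D := by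
    calc F.D * (F.S * F.e (el b) * F.S)
        = F.D * F.S * F.e (el b) * F.S := by simp only [mul_assoc]
      _ = F.kk 3 3 * (F.S * (F.D * F.e (el b)) * F.S) := by rw [F.D_S']; simp only [mul_assoc]
      _ = F.kk 3 3 * (F.S * F.e (el (sd b)) * (F.D * F.S)) := by
          rw [h1 hb]; simp only [mul_assoc]
      _ = F.kk 3 3 * (F.S * (F.kk (sd b) 0 * F.kk 3 3) * F.S) * F.D := by
          rw [F.D_S', F.kk_left]; simp only [mul_assoc]
      _ = F.kk 3 3 * F.kk 3 (mt (sd b) 3) * F.D := by
          rw [F.kk_mul hsb (by norm_num) (by norm_num) (by norm_num),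
            show mt 0 3 = 3 by decide +kernel, F.S_mul_kk_S]
      _ = _ := by
          rw [F.kk_mul (by norm_num) (by norm_num) (by norm_num) m3,
            show mt 3 3 = mt 12 0 by decide +kernel, hJ,
            ← F.kk_mul (by norm_num) (by norm_num) (by norm_num) hsib, F.kk_neg, one_mul]
  calc F.D * F.kk a b = F.D * F.e (el a) * (F.S * F.e (el b) * F.S) := by
        simp only [kk, mul_assoc]
    _ = F.e (el (sd a)) * (F.D * (F.S * F.e (el b) * F.S)) := by rw [h1 ha]; simp only [mul_assoc]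
    _ = _ := by rw [h2, ← mul_assoc, kk, kk, F.e_zero, one_mul]

/-- Conjugation of the representatives. -/
theorem rr_kk {r a b : ℕ} (hr : r < 4) (ha : a < 24) (hb : b < 24) :
    F.rr r * F.kk a b = F.kk (act r (a, b)).1 (act r (a, b)).2 * F.rr r ∧
      (act r (a, b)).1 < 24 ∧ (act r (a, b)).2 < 24 := by
  obtain rfl | rfl | rfl | rfl : r = 0 ∨ r = 1 ∨ r = 2 ∨ r = 3 := by omega
  · exact ⟨by rw [rr_zero, one_mul, mul_one]; rfl, ha, hb⟩
  · exact ⟨F.D_kk ha hb, (unary ha).1, (unary hb).2.1⟩
  · exact ⟨F.S_kk a b, hb, ha⟩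
  · refine ⟨?_, (unary hb).1, (unary ha).2.1⟩
    show F.D * F.S * F.kk a b = F.kk (sd b) (sdi a) * (F.D * F.S)
    rw [mul_assoc, F.S_kk, ← mul_assoc, F.D_kk hb ha, mul_assoc]

theorem S_D : F.S * F.D = F.kk 3 3 * (F.D * F.S) := by
  rw [F.D_S', ← mul_assoc, F.t_sq, one_mul]

theorem D_t : F.D * F.kk 3 3 = F.kk 3 3 * F.D := by
  rw [F.D_kk (by norm_num) (by norm_num), show sd 3 = 3 by decide +kernel,
    show sdi 3 = 3 by decide +kernel]

theorem S_t : F.S * F.kk 3 3 = F.kk 3 3 * F.S := F.S_kk 3 3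

theorem rr_mul {r q : ℕ} (hr : r < 4) (hq : q < 4) :
    F.rr r * F.rr q = (bif cocy r q then F.kk 3 3 else 1) * F.rr (rmul r q) := by
  have hSD := F.S_D
  have hDD := F.D_sq'
  have hSS := F.S_sq
  have hDt := F.D_t
  have hSt := F.S_t
  have htt := F.t_sq
  set t := F.kk 3 3
  have e13 : F.D * (F.D * F.S) = t * F.S := by rw [← mul_assoc, hDD]
  have e23 : F.S * (F.D * F.S) = t * F.D := by
    rw [← mul_assoc, hSD, mul_assoc, mul_assoc, hSS, mul_one]
  have e31 : F.D * F.S * F.D = F.S := by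
    rw [mul_assoc, hSD, ← mul_assoc, hDt, mul_assoc, e13, ← mul_assoc, htt, one_mul]
  have e32 : F.D * F.S * F.S = F.D := by rw [mul_assoc, hSS, mul_one]
  have e33 : F.D * F.S * (F.D * F.S) = 1 := by rw [← mul_assoc, e31, hSS]
  have hr4 : r = 0 ∨ r = 1 ∨ r = 2 ∨ r = 3 := by omega
  have hq4 : q = 0 ∨ q = 1 ∨ q = 2 ∨ q = 3 := by omega
  rcases hr4 with rfl | rfl | rfl | rfl <;> rcases hq4 with rfl | rfl | rfl | rfl
  all_goals simp only [rr, cocy, rmul, Nat.beq, cond_true, cond_false, Bool.or_false, Bool.or_true,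
    Bool.and_true, Bool.and_false, Bool.or_self, Bool.and_self, one_mul, mul_one, hDD, hSS, hSD,
    e13, e23, e31, e32, e33]

theorem rmul_lt {r q : ℕ} (hr : r < 4) (hq : q < 4) : rmul r q < 4 := by
  have hr4 : r = 0 ∨ r = 1 ∨ r = 2 ∨ r = 3 := by omega
  have hq4 : q = 0 ∨ q = 1 ∨ q = 2 ∨ q = 3 := by omega
  rcases hr4 with rfl | rfl | rfl | rfl <;> rcases hq4 with rfl | rfl | rfl | rfl
  all_goals decide +kernel

theorem phi_mul {n m : ℕ} (hn : n < 1152) (hm : m < 1152) :
    F.phi n * F.phi m = F.phi (mul n m) ∧ mul n m < 1152 := by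
  obtain ⟨hk, h1, h2⟩ := F.rr_kk (r := n / 288) (a := m % 288 / 12) (b := m % 12) (by omega)
    (by omega) (by omega)
  set p := act (n / 288) (m % 288 / 12, m % 12) with hp
  obtain ⟨-, hA⟩ := el_mul (by omega : n % 288 / 12 < 24) h1
  obtain ⟨-, hB⟩ := el_mul (by omega : n % 12 < 24) h2
  have hrq := F.rr_mul (r := n / 288) (q := m / 288) (by omega) (by omega)
  have hq := rmul_lt (r := n / 288) (q := m / 288) (by omega) (by omega)
  have key : F.phi n * F.phi m = F.kk (mt (n % 288 / 12) p.1) (mt (n % 12) p.2) *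
      ((bif cocy (n / 288) (m / 288) then F.kk 3 3 else 1) * F.rr (rmul (n / 288) (m / 288))) := by
    rw [← hrq, ← F.kk_mul (by omega) (by omega) h1 h2, phi_def, phi_def]
    calc F.kk (n % 288 / 12) (n % 12) * F.rr (n / 288) *
          (F.kk (m % 288 / 12) (m % 12) * F.rr (m / 288))
        = F.kk (n % 288 / 12) (n % 12) * (F.rr (n / 288) * F.kk (m % 288 / 12) (m % 12)) *
          F.rr (m / 288) := by simp only [mul_assoc]
      _ = _ := by rw [hk]; simp only [mul_assoc]
  cases hc : cocy (n / 288) (m / 288)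
  · simp only [hc, cond_false, one_mul] at key
    simp only [mul, ← hp, hc, cond_false]
    exact ⟨key.trans (F.kk_pack hq hA hB).symm, pack_lt hq hA hB⟩
  · simp only [hc, cond_true] at key
    rw [← mul_assoc, F.kk_mul hA hB (by norm_num) (by norm_num)] at key
    obtain ⟨-, hA'⟩ := el_mul hA (by norm_num : 3 < 24)
    obtain ⟨-, hB'⟩ := el_mul hB (by norm_num : 3 < 24)
    simp only [mul, ← hp, hc, cond_true]
    exact ⟨key.trans (F.kk_pack hq hA' hB').symm, pack_lt hq hA' hB'⟩

theorem phi_zero : F.phi 0 = 1 := by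
  rw [show (0 : ℕ) = 288 * 0 + 12 * 0 + 0 by rfl, F.phi_eq (by norm_num) (by norm_num),
    F.kk_zero, rr_zero, mul_one]

theorem phi_zc : F.phi zc = z := by
  rw [show zc = 288 * 0 + 12 * 12 + 0 by rfl, F.phi_eq (by norm_num) (by norm_num),
    F.kk_left, rr_zero, mul_one, F.e_neg]

theorem phi_D : F.phi 288 = F.D := by
  rw [show (288 : ℕ) = 288 * 1 + 12 * 0 + 0 by rfl, F.phi_eq (by norm_num) (by norm_num),
    F.kk_zero, one_mul, rr_one]

theorem phi_S : F.phi 576 = F.S := by
  rw [show (576 : ℕ) = 288 * 2 + 12 * 0 + 0 by rfl, F.phi_eq (by norm_num) (by norm_num),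
    F.kk_zero, one_mul, rr_two]

theorem phi_comm (n : ℕ) : F.phi n * z = z * F.phi n := by
  have hs : F.S * z = z * F.S := F.S_z
  have hd : F.D * z = z * F.D := by
    have h := F.D_conj 12 (by norm_num)
    rw [show sd 12 = 12 by decide +kernel, F.e_neg] at h
    calc F.D * z = F.D * z * F.D⁻¹ * F.D := by rw [inv_mul_cancel_right]
      _ = _ := by rw [h]
  have he : ∀ x : SL23, Commute (F.e x) z := fun x => (F.z_e x).symm
  have hS : Commute F.S z := hs
  have hD : Commute F.D z := hd
  refine Commute.mul_left ((he _).mul_left ((hS.mul_left (he _)).mul_left hS)) ?_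
  show Commute (F.rr (n / 288)) z
  unfold rr
  cases Nat.beq (n / 288) 1 <;> cases Nat.beq (n / 288) 2 <;> cases Nat.beq (n / 288) 3 <;>
    simp only [cond_true, cond_false] <;>
    first | exact hD | exact hS | exact hD.mul_left hS | exact Commute.one_left z

theorem kinv {a b : ℕ} (ha : a < 24) (hb : b < 24) :
    ∃ c d, c < 24 ∧ d < 24 ∧ F.kk c d * F.kk a b = 1 ∧ el c = (el a)⁻¹ ∧ el d = (el b)⁻¹ := by
  obtain ⟨c, hc, hac⟩ := (unary ha).2.2.2.2.2
  obtain ⟨d, hd, hbd⟩ := (unary hb).2.2.2.2.2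
  have e1 : el c = (el a)⁻¹ :=
    (inv_eq_of_mul_eq_one_right (by rw [(el_mul ha hc).1, hac, el_zero])).symm
  have e2 : el d = (el b)⁻¹ :=
    (inv_eq_of_mul_eq_one_right (by rw [(el_mul hb hd).1, hbd, el_zero])).symm
  refine ⟨c, d, hc, hd, ?_, e1, e2⟩
  have h3 : mt c a = 0 := el_inj (el_mul hc ha).2 (by norm_num)
    (by rw [← (el_mul hc ha).1, e1, inv_mul_cancel, el_zero])
  have h4 : mt d b = 0 := el_inj (el_mul hd hb).2 (by norm_num)
    (by rw [← (el_mul hd hb).1, e2, inv_mul_cancel, el_zero])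
  rw [F.kk_mul hc hd ha hb, h3, h4, F.kk_zero]

theorem jr_check : allBelow 4 (fun r => allBelow 4 fun q =>
    let j := bif Nat.beq r 1 then 327 else 288 * r
    Nat.blt j 1152 && Nat.beq (mul (288 * r) j) 0 &&
      (Nat.beq r q || !Nat.beq (mul (288 * q) j / 288) 0)) = true := by decide +kernel

theorem phi_inj {n m : ℕ} (hn : n < 1152) (hm : m < 1152) (h : F.phi n = F.phi m) : n = m := by
  obtain ⟨c, d, hc, hd, hinv, hel, hdl⟩ := F.kinv (a := m % 288 / 12) (b := m % 12) (by omega)
    (by omega)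
  set a := n % 288 / 12 with ha'
  set b := n % 12 with hb'
  have ha : a < 24 := by omega
  have hb : b < 24 := by omega
  rw [phi_def, phi_def, ← ha', ← hb'] at h
  have h1 : F.kk (mt c a) (mt d b) * F.rr (n / 288) = F.rr (m / 288) := by
    rw [← F.kk_mul hc hd ha hb, mul_assoc, h, ← mul_assoc, hinv, one_mul]
  obtain ⟨-, hA⟩ := el_mul hc ha
  obtain ⟨-, hB⟩ := el_mul hd hb
  by_cases hr : n / 288 = m / 288
  · rw [hr, mul_eq_right] at h1
    have h2 : F.e (el (mt c a)) = F.S * F.e (el (mt d b))⁻¹ * F.S := by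
      rw [eq_inv_of_mul_eq_one_left (h1 : F.e (el (mt c a)) * (F.S * F.e (el (mt d b)) * F.S) = 1),
        map_inv, mul_inv_rev, mul_inv_rev, F.S_inv, mul_assoc]
    have key : ∀ k, F.e (el (mt c a)) = k → k * (F.S * F.e (el (mt d b)) * F.S) = 1 := by
      rintro _ rfl; exact h1
    rcases F.sep _ _ h2 with h0 | h0
    · have hb0 := key _ (by rw [h0, el_zero, map_one])
      rw [one_mul] at hb0
      have : F.e (el (mt d b)) = 1 := by
        calc F.e (el (mt d b))
            = F.S * F.S * F.e (el (mt d b)) * (F.S * F.S) := by rw [F.S_sq, one_mul, mul_one]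
          _ = F.S * (F.S * F.e (el (mt d b)) * F.S) * F.S := by simp only [mul_assoc]
          _ = 1 := by rw [hb0, mul_one, F.S_sq]
      have e1 : el a = el (m % 288 / 12) := by
        have := (el_mul hc ha).1.trans h0
        rwa [hel, el_zero, inv_mul_eq_one, eq_comm] at this
      have e2 : el b = el (m % 12) := by
        have := (el_mul hd hb).1.trans (F.inj (this.trans (map_one F.e).symm))
        rwa [hdl, inv_mul_eq_one, eq_comm] at this
      have := el_inj ha (by omega) e1
      have := el_inj hb (by omega) e2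
      omega
    · exfalso
      have hb0 := key _ (by rw [h0, F.e_neg])
      have : F.e (el (mt d b)) = F.e (el 12) := by
        calc F.e (el (mt d b))
            = F.S * (F.S * F.e (el (mt d b)) * F.S) * F.S := by
              simp only [← mul_assoc, F.S_sq, one_mul]; rw [mul_assoc, F.S_sq, mul_one]
          _ = F.S * z * F.S := by
              rw [← inv_eq_of_mul_eq_one_right hb0, inv_eq_of_mul_eq_one_right F.z_sq]
          _ = _ := by rw [F.e_neg, F.S_z, mul_assoc, F.S_sq, mul_one]
      have e2 : el b = el (m % 12) * el 12 := by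
        rw [← F.inj this, ← (el_mul hd hb).1, hdl, mul_inv_cancel_left]
      rw [(el_mul (by omega : m % 12 < 24) (by norm_num)).1, (unary (by omega : m % 12 < 24)).2.2.2.2.1,
        (unary (by omega : m % 12 < 24)).2.2.2.1,
        show Nat.blt (m % 12) 12 = true by rw [Nat.blt_eq]; omega] at e2
      simp only [cond_true] at e2
      have := el_inj hb (by omega) e2
      omega
  · exfalso
    set j : ℕ := bif Nat.beq (n / 288) 1 then 327 else 288 * (n / 288) with hjd
    have h4 := allBelow_get (allBelow_get jr_check (by omega : n / 288 < 4))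
      (by omega : m / 288 < 4)
    simp only [Bool.and_eq_true, Bool.or_eq_true, ← hjd] at h4
    have hj : j < 1152 := by simpa [Nat.blt] using h4.1.1
    have hje : F.rr (n / 288) * F.phi j = 1 := by
      have h5 := F.phi_mul (n := 288 * (n / 288)) (m := j) (by omega) hj
      rw [Nat.eq_of_beq_eq_true h4.1.2, F.phi_zero,
        show 288 * (n / 288) = 288 * (n / 288) + 12 * 0 + 0 by omega,
        F.phi_eq (by norm_num) (by norm_num), F.kk_zero, one_mul] at h5
      exact h5.1
    set y := mul (288 * (m / 288)) j with hy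
    have hy1 : y < 1152 := (F.phi_mul (by omega) hj).2
    have hy2 : y / 288 ≠ 0 := by
      rcases h4.2 with h6 | h6
      · exact absurd (Nat.eq_of_beq_eq_true h6) hr
      · intro h7; simp [h7] at h6
    have hyv : F.phi y = F.kk (mt c a) (mt d b) := by
      rw [hy, ← (F.phi_mul (by omega) hj).1,
        show 288 * (m / 288) = 288 * (m / 288) + 12 * 0 + 0 by omega,
        F.phi_eq (by norm_num) (by norm_num), F.kk_zero, one_mul, ← h1, mul_assoc, hje, mul_one]
    obtain ⟨c', d', hc', hd', hinv', -, -⟩ := F.kinv hA hB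
    have hx : pack 0 c' d' < 1152 := pack_lt (by norm_num) hc' hd'
    have hxv : F.phi (pack 0 c' d') * F.phi y = 1 := by
      rw [F.kk_pack (by norm_num) hc' hd', rr_zero, mul_one, hyv, hinv']
    obtain ⟨hmv, hml⟩ := F.phi_mul hx hy1
    refine F.outer _ ?_ hml (hmv.symm.trans hxv)
    have hx0 : pack 0 c' d' / 288 = 0 := pack_div (by norm_num) hc' hd'
    have hdiv : mul (pack 0 c' d') y / 288 = y / 288 := by
      obtain ⟨-, hp1, hp2⟩ := F.rr_kk (r := 0) (a := y % 288 / 12) (b := y % 12) (by norm_num)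
        (by omega) (by omega)
      simp only [mul, hx0, show cocy 0 (y / 288) = false from rfl,
        show rmul 0 (y / 288) = y / 288 from rfl, cond_false]
      exact pack_div (by omega) (el_mul (by omega) hp1).2 (el_mul (by omega) hp2).2
    omega

/-- Every element of the centraliser has a number. -/
theorem cover (h : G) (hh : h * z = z * h) : ∃ n, n < 1152 ∧ h = F.phi n := by
  haveI : Finite ↥(Subgroup.centralizer ({z} : Set G)) :=
    Nat.finite_of_card_ne_zero (by rw [F.card]; norm_num)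
  let f : Fin 1152 → ↥(Subgroup.centralizer ({z} : Set G)) := fun i =>
    ⟨F.phi i, Subgroup.mem_centralizer_singleton_iff.2 (F.phi_comm i)⟩
  have hf : Function.Injective f := fun i j e =>
    Fin.ext (F.phi_inj i.2 j.2 (congrArg Subtype.val e))
  obtain ⟨i, hi⟩ := (hf.bijective_of_nat_card_le (by rw [F.card, Nat.card_fin])).2
    ⟨h, Subgroup.mem_centralizer_singleton_iff.2 hh⟩
  exact ⟨i, i.2, (congrArg Subtype.val hi).symm⟩

/-- The numbers of `Q ∩ Q^g`. -/
theorem meet_num {p q : ℕ} (hp : inQ p = true) (hq : inQ q = true)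
    (h : F.g * F.phi p * F.g⁻¹ = F.phi q) : q = 0 ∨ q = zc ∨ q = tc ∨ q = mul zc tc := by
  have hq' : q < 1152 := by
    simp only [inQ, Bool.and_eq_true, Nat.blt_eq] at hq
    omega
  rcases F.g_meet p q hp hq h with e | e | e | e
  · exact Or.inl (F.phi_inj hq' (by norm_num) (Eq.trans e F.phi_zero.symm))
  · exact Or.inr (Or.inl (F.phi_inj hq' (by norm_num) (Eq.trans e F.phi_zc.symm)))
  · exact Or.inr (Or.inr (Or.inl (F.phi_inj hq' (by norm_num) e)))
  · refine Or.inr (Or.inr (Or.inr (F.phi_inj hq' (F.phi_mul (by norm_num) (by norm_num)).2 ?_)))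
    rw [← (F.phi_mul (by norm_num) (by norm_num)).1]
    exact Eq.trans e (congrArg (· * F.phi tc) F.phi_zc.symm)

end Frame

end CfsgLib.U43
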