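import Mathlib

/-!
# The centraliser of an involution of `PSU₄(3)` as numbers below 1152

`288 r + 12 a + b` (`a < 24`, `b < 12`, `r < 4`) stands for `e (el a) * (S * e (el b) * S) * rr r`
in a `Frame`. Here `el` numbers `SL(2, 3)` so that `el (a + 12) = - el a`.
-/

set_option autoImplicit false
set_option maxRecDepth 100000
set_option Elab.async false

namespace CfsgLib.U43

/-- `SL(2, 3)`. -/
abbrev SL23 := Matrix.SpecialLinearGroup (Fin 2) (ZMod 3)

/-- The elements of `SL(2, 3)`: `±1` times `1, J, K, JK` times a power of `X`. -/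
def elList : List SL23 :=
  [⟨!![1, 0; 0, 1], by decide⟩, ⟨!![1, 1; 0, 1], by decide⟩, ⟨!![1, 2; 0, 1], by decide⟩,
   ⟨!![0, 2; 1, 0], by decide⟩, ⟨!![0, 2; 1, 1], by decide⟩, ⟨!![0, 2; 1, 2], by decide⟩,
   ⟨!![1, 1; 1, 2], by decide⟩, ⟨!![1, 2; 1, 0], by decide⟩, ⟨!![1, 0; 1, 1], by decide⟩,
   ⟨!![2, 1; 1, 1], by decide⟩, ⟨!![2, 0; 1, 2], by decide⟩, ⟨!![2, 2; 1, 0], by decide⟩,
   ⟨!![2, 0; 0, 2], by decide⟩, ⟨!![2, 2; 0, 2], by decide⟩, ⟨!![2, 1; 0, 2], by decide⟩,
   ⟨!![0, 1; 2, 0], by decide⟩, ⟨!![0, 1; 2, 2], by decide⟩, ⟨!![0, 1; 2, 1], by decide⟩,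
   ⟨!![2, 2; 2, 1], by decide⟩, ⟨!![2, 1; 2, 0], by decide⟩, ⟨!![2, 0; 2, 2], by decide⟩,
   ⟨!![1, 2; 2, 2], by decide⟩, ⟨!![1, 0; 2, 1], by decide⟩, ⟨!![1, 1; 2, 0], by decide⟩]

/-- An element of `SL(2, 3)` by number. -/
def el (i : ℕ) : SL23 := elList.getD i 1

/-- Product of numbers below 24. -/
noncomputable def mt (a b : ℕ) : ℕ :=
  Nat.land (Nat.shiftRight
    0x83e27321ac7292b20cb39502015ab7320ec735f18256a9526010465256f67359183d0732d491040520e9395ed56b1d6adc8329cc80804a4ae0f8ce54adec32918e699074ad4f8c0020ca932906e6b2f6aa0e68c1e20816a4d2725256d63a72a1065b56e1008e6441f1639b2a4d2b50ca40082641eb7b3e30a4e4b525cd6148341cd7b54410460f3990419549584029ca907c6d5bb58e194895a8c8380417c615bda549b1cd5a928398a418820bdab49ca307b9ac20cb39502015ab783e27321ac7292b9526010465256f6320ec735f18256a1040520e9395ed57359183d0732d490804a4ae0f8ce546b1d6adc8329cc84ad4f8c0020ca93adec32918e699078c1e20816a4d2722906e6b2f6aa0e6b56e1008e6441f15256d63a72a10650082641eb7b3e30639b2a4d2b50ca441cd7b54410460fa4e4b525cd614839ca907c6d5bb58e3990419549584027c615bda549b1cd194895a8c838041bdab49ca307b9ac5a928398a418820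
    (5 * (24 * a + b))) 31

/-- The action of `D` on the first factor. -/
noncomputable def sd (a : ℕ) : ℕ := Nat.land (Nat.shiftRight 0x514c7155a8792ecb4653724341c160 (5 * a)) 31

/-- The action of `D` on the second factor. -/
noncomputable def sdi (a : ℕ) : ℕ := Nat.land (Nat.shiftRight 0x6ae444254279e2c0dcd0a56ce1cca0 (5 * a)) 31

/-- Action of the four coset representatives on a pair. -/
noncomputable def act (r : ℕ) (p : ℕ × ℕ) : ℕ × ℕ :=
  bif Nat.beq r 1 then (sd p.1, sdi p.2) else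
  bif Nat.beq r 2 then (p.2, p.1) else
  bif Nat.beq r 3 then (sd p.2, sdi p.1) else p

/-- Whether the product of two representatives needs the factor `t`. -/
noncomputable def cocy (r q : ℕ) : Bool :=
  (Nat.beq r 1 || Nat.beq r 2) && (Nat.beq q 1 || Nat.beq q 3)

/-- The representative of the product of two representatives. -/
noncomputable def rmul (r q : ℕ) : ℕ :=
  bif Nat.beq r 0 then q else bif Nat.beq q 0 then r else
  bif Nat.beq r q then 0 else 6 - r - q

/-- Sign normalisation. -/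
noncomputable def pack (r a b : ℕ) : ℕ :=
  bif Nat.blt b 12 then 288 * r + 12 * a + b
  else 288 * r + 12 * (bif Nat.blt a 12 then a + 12 else a - 12) + (b - 12)

/-- Product in the model. -/
noncomputable def mul (n m : ℕ) : ℕ :=
  let r := n / 288
  let q := m / 288
  let p := act r (m % 288 / 12, m % 12)
  let a := mt (n % 288 / 12) p.1
  let b := mt (n % 12) p.2
  bif cocy r q then pack (rmul r q) (mt a 3) (mt b 3) else pack (rmul r q) a b

/-- The central involution. -/
abbrev zc : ℕ := 144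

/-- The second involution `t`. -/
abbrev tc : ℕ := 39

/-- The numbers of the largest normal 2-subgroup. -/
noncomputable def inQ (n : ℕ) : Bool :=
  Nat.blt n 288 && Nat.beq (n % 288 / 12 % 3) 0 && Nat.beq (n % 12 % 3) 0

end CfsgLib.U43
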