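import Cfsg.Agent.Lib.U43.HDat

/-!
# A pair of conjugate involutions in each other's two-core

For `t` in `Q_z` and `z` in `Q_t` with `Q_z ∩ Q_t = ⟨z, t⟩` the elements of `W = C(z) ∩ Q_t` act on `Q_z` as
the element `D` of order four normalising the factors and as involutions interchanging them.
-/

set_option autoImplicit false
set_option maxRecDepth 100000
set_option Elab.async false

namespace CfsgLib.U43

universe u

theorem qa_gen {P : ℕ → Prop} (h0 : P 0) (h3 : P 3) (h6 : P 6)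
    (hm : ∀ a b, qa a = true → qa b = true → P a → P b → P (mt a b)) :
    ∀ a, qa a = true → P a := by
  have hit : ∀ c, qa c = true → P c → ∀ i, qa ((mt c)^[i] 0) = true ∧ P ((mt c)^[i] 0) := by
    intro c hc e i
    induction i with
    | zero => exact ⟨(by decide +kernel : qa 0 = true), h0⟩
    | succ i ih =>
      rw [Function.iterate_succ_apply']
      exact ⟨qa_mul hc ih.1, hm _ _ hc ih.1 e ih.2⟩
  intro a ha
  obtain ⟨k, hk, rfl⟩ : ∃ k < 8, 3 * k = a := by
    refine ⟨a / 3, ?_, ?_⟩ <;>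
    · simp only [qa, Bool.and_eq_true, Nat.blt_eq, Nat.beq_eq] at ha
      omega
  have h := allBelow_get qa_gen_check hk
  simp only [List.any_eq_true] at h
  obtain ⟨i, -, j, -, e⟩ := h
  rw [← Nat.eq_of_beq_eq_true e]
  exact hm _ _ (hit 3 (by decide +kernel) h3 i).1 (hit 6 (by decide +kernel) h6 j).1
    (hit 3 (by decide +kernel) h3 i).2 (hit 6 (by decide +kernel) h6 j).2

/-- Numbers of the four elements of `Q_z ∩ Q_t`. -/
noncomputable def rOK (a b : ℕ) : Bool :=
  eqK a b 0 0 || eqK a b 12 0 || eqK a b 3 3 || eqK a b 15 3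

namespace Dat

variable {G : Type u} [Group G] {z : G} (A : Dat z)

/-- Normalising both quaternion groups. -/
def Nrm (h : G) : Prop :=
  ∀ a, qa a = true → (∃ c, qa c = true ∧ h * A.ck a 0 * h⁻¹ = A.ck c 0) ∧
    ∃ c, qa c = true ∧ h * A.ck 0 a * h⁻¹ = A.ck 0 c

/-- Interchanging the quaternion groups. -/
def Swp (h : G) : Prop :=
  ∀ a, qa a = true → (∃ c, qa c = true ∧ h * A.ck a 0 * h⁻¹ = A.ck 0 c) ∧
    ∃ c, qa c = true ∧ h * A.ck 0 a * h⁻¹ = A.ck c 0

theorem ck_inj_left {a b : ℕ} (ha : a < 24) (hb : b < 24) (h : A.ck a 0 = A.ck b 0) : a = b :=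
  el_inj ha hb (A.inj1 (by rw [← A.ck_left, ← A.ck_left, h]))

theorem ck_inj_right {a b : ℕ} (ha : a < 24) (hb : b < 24) (h : A.ck 0 a = A.ck 0 b) : a = b :=
  el_inj ha hb (A.inj2 (by rw [← A.ck_right, ← A.ck_right, h]))

theorem mul_left' {a b : ℕ} (ha : a < 24) (hb : b < 24) : A.ck a 0 * A.ck b 0 = A.ck (mt a b) 0 := by
  rw [A.ck_mul ha (by norm_num) hb (by norm_num), show mt 0 0 = 0 by decide +kernel]

theorem mul_right' {a b : ℕ} (ha : a < 24) (hb : b < 24) : A.ck 0 a * A.ck 0 b = A.ck 0 (mt a b) := by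
  rw [A.ck_mul (by norm_num) ha (by norm_num) hb, show mt 0 0 = 0 by decide +kernel]

theorem commute_lr {a b : ℕ} : A.ck a 0 * A.ck 0 b = A.ck 0 b * A.ck a 0 := by
  rw [A.ck_left, A.ck_right, A.comm]

theorem factor_check : allBelow 24 (fun c => allBelow 24 fun d => allBelow 24 fun a =>
    !(qa a && qa c && qa d) || Nat.beq a 0 || Nat.beq a 12 ||
      !eqK (mt c c) (mt d d) (mt a a) 0 || (List.range 24).any fun e =>
        qa e && (eqK c d e 0 || eqK c d 0 e)) = true := by decide +kernel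

theorem img {h x : G} {a : ℕ} (hh : h * z = z * h) (ha : qa a = true)
    (hx : x = A.ck a 0 ∨ x = A.ck 0 a) :
    ∃ c, qa c = true ∧ (h * x * h⁻¹ = A.ck c 0 ∨ h * x * h⁻¹ = A.ck 0 c) := by
  have q0 : qa 0 = true := by decide +kernel
  have q12 : qa 12 = true := by decide +kernel
  by_cases ha' : a = 0 ∨ a = 12
  · refine ⟨a, ha, Or.inl ?_⟩
    rcases ha' with rfl | rfl
    · have e : x = 1 := by rcases hx with rfl | rfl <;> exact A.ck_zero
      rw [e, mul_one, mul_inv_cancel, A.ck_zero]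
    · have e : x = z := by
        rcases hx with rfl | rfl
        · exact A.ck_neg
        · rw [A.ck_right, A.neg2]
      rw [e, hh, mul_inv_cancel_right, A.ck_neg]
  have hxQ : A.InQ x := by
    rcases hx with rfl | rfl
    · exact A.inQ_ck ha q0
    · exact A.inQ_ck q0 ha
  obtain ⟨c, d, hc, hd, e⟩ := A.inQ_conj hh hxQ
  have hsqa : x * x = A.ck (mt a a) 0 := by
    have hz12 : mt a a = 12 := by
      have := allBelow_get (show allBelow 24 (fun a => !qa a || Nat.beq a 0 || Nat.beq a 12 ||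
        Nat.beq (mt a a) 12) = true by decide +kernel) (qa_lt ha)
      simp [ha] at this
      omega
    rcases hx with rfl | rfl
    · exact A.mul_left' (qa_lt ha) (qa_lt ha)
    · rw [A.mul_right' (qa_lt ha) (qa_lt ha), hz12, A.ck_neg, A.ck_right, A.neg2]
  have hsq : A.ck c d * A.ck c d = A.ck (mt a a) 0 := by
    have hcen : h * A.ck (mt a a) 0 * h⁻¹ = A.ck (mt a a) 0 := by
      have := allBelow_get (show allBelow 24 (fun a => !qa a || Nat.beq (mt a a) 0 ||
        Nat.beq (mt a a) 12) = true by decide +kernel) (qa_lt ha)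
      simp [ha] at this
      rcases this with e' | e' <;> rw [e']
      · rw [A.ck_zero, mul_one, mul_inv_cancel]
      · rw [A.ck_neg, hh, mul_inv_cancel_right]
    rw [← e, conj_mul, hsqa, hcen]
  rw [A.ck_mul (qa_lt hc) (qa_lt hd) (qa_lt hc) (qa_lt hd),
    A.eq_iff (el_mul (qa_lt hc) (qa_lt hc)).2 (el_mul (qa_lt hd) (qa_lt hd)).2
      (el_mul (qa_lt ha) (qa_lt ha)).2 (by norm_num)] at hsq
  have := allBelow_get (allBelow_get (allBelow_get factor_check (qa_lt hc)) (qa_lt hd)) (qa_lt ha)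
  simp only [Bool.or_eq_true, List.any_eq_true, Bool.and_eq_true, ha, hc, hd, hsq, Bool.not_true,
    Bool.and_self, Bool.false_eq_true, false_or, Nat.beq_eq] at this
  rcases this with h1 | ⟨f, hf, hf1, hf2⟩
  · simp only [or_false] at h1
    exact absurd h1 ha'
  refine ⟨f, hf1, ?_⟩
  rw [e]
  rcases hf2 with h2 | h2
  · exact Or.inl ((A.eq_iff (qa_lt hc) (qa_lt hd) (qa_lt hf1) (by norm_num)).2 h2)
  · exact Or.inr ((A.eq_iff (qa_lt hc) (qa_lt hd) (by norm_num) (qa_lt hf1)).2 h2)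

theorem noncomm_check : allBelow 24 (fun c => allBelow 24 fun d => allBelow 24 fun e =>
    !(qa c && qa d && qa e) || Nat.beq (mt c d) (mt d c) ||
      !(Nat.beq (mt c e) (mt e c) && Nat.beq (mt d e) (mt e d)) || Nat.beq e 0 || Nat.beq e 12) =
    true := by decide +kernel

theorem nrm_or_swp {h : G} (hh : h * z = z * h) : A.Nrm h ∨ A.Swp h := by
  have q3 : qa 3 = true := by decide +kernel
  have q6 : qa 6 = true := by decide +kernel
  have q0 : qa 0 = true := by decide +kernel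
  obtain ⟨c, hc, ec⟩ := A.img hh q3 (Or.inl rfl)
  obtain ⟨d, hd, ed⟩ := A.img hh q6 (Or.inl rfl)
  have hne : h * A.ck 3 0 * h⁻¹ * (h * A.ck 6 0 * h⁻¹) ≠
      h * A.ck 6 0 * h⁻¹ * (h * A.ck 3 0 * h⁻¹) := by
    rw [conj_mul, conj_mul, A.mul_left' (by norm_num) (by norm_num),
      A.mul_left' (by norm_num) (by norm_num)]
    intro e
    have e2 := A.ck_inj_left (el_mul (by norm_num) (by norm_num)).2
      (el_mul (by norm_num) (by norm_num)).2 (mul_left_cancel (mul_right_cancel e))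
    revert e2
    decide +kernel
  have hmul : ∀ {a b : ℕ} {x y : G}, h * x * h⁻¹ = A.ck a 0 → h * y * h⁻¹ = A.ck b 0 →
      qa a = true → qa b = true → ∃ c, qa c = true ∧ h * (x * y) * h⁻¹ = A.ck c 0 := by
    intro a b x y e1 e2 ha hb
    exact ⟨_, qa_mul ha hb, by rw [← conj_mul, e1, e2, A.mul_left' (qa_lt ha) (qa_lt hb)]⟩
  have hmul' : ∀ {a b : ℕ} {x y : G}, h * x * h⁻¹ = A.ck 0 a → h * y * h⁻¹ = A.ck 0 b →
      qa a = true → qa b = true → ∃ c, qa c = true ∧ h * (x * y) * h⁻¹ = A.ck 0 c := by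
    intro a b x y e1 e2 ha hb
    exact ⟨_, qa_mul ha hb, by rw [← conj_mul, e1, e2, A.mul_right' (qa_lt ha) (qa_lt hb)]⟩
  have hone : ∃ c, qa c = true ∧ h * A.ck 0 0 * h⁻¹ = A.ck c 0 :=
    ⟨0, q0, by rw [A.ck_zero, mul_one, mul_inv_cancel]⟩
  have hone' : ∃ c, qa c = true ∧ h * A.ck 0 0 * h⁻¹ = A.ck 0 c :=
    ⟨0, q0, by rw [A.ck_zero, mul_one, mul_inv_cancel]⟩
  have hcomm : ∀ {a x y : _}, qa a = true → h * A.ck 3 0 * h⁻¹ = x → h * A.ck 6 0 * h⁻¹ = y →
      x * (h * A.ck 0 a * h⁻¹) = h * A.ck 0 a * h⁻¹ * x ∧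
      y * (h * A.ck 0 a * h⁻¹) = h * A.ck 0 a * h⁻¹ * y := by
    rintro a _ _ - rfl rfl
    exact ⟨by rw [conj_mul, conj_mul, A.commute_lr], by rw [conj_mul, conj_mul, A.commute_lr]⟩
  rcases ec with ec | ec <;> rcases ed with ed | ed
  · left
    have h1 : ∀ a, qa a = true → ∃ c, qa c = true ∧ h * A.ck a 0 * h⁻¹ = A.ck c 0 := by
      refine qa_gen hone ⟨c, hc, ec⟩ ⟨d, hd, ed⟩ fun a b ha hb => ?_
      rintro ⟨p, hp, ep⟩ ⟨q, hq, eq⟩
      rw [← A.mul_left' (qa_lt ha) (qa_lt hb)]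
      exact hmul ep eq hp hq
    intro a ha
    refine ⟨h1 a ha, ?_⟩
    obtain ⟨f, hf, ef | ef⟩ := A.img hh ha (Or.inr rfl)
    · obtain ⟨k1, k2⟩ := hcomm ha ec ed
      rw [ef, A.mul_left' (qa_lt hc) (qa_lt hf), A.mul_left' (qa_lt hf) (qa_lt hc)] at k1
      rw [ef, A.mul_left' (qa_lt hd) (qa_lt hf), A.mul_left' (qa_lt hf) (qa_lt hd)] at k2
      have k1' := A.ck_inj_left (el_mul (qa_lt hc) (qa_lt hf)).2 (el_mul (qa_lt hf) (qa_lt hc)).2 k1
      have k2' := A.ck_inj_left (el_mul (qa_lt hd) (qa_lt hf)).2 (el_mul (qa_lt hf) (qa_lt hd)).2 k2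
      have hcd : mt c d ≠ mt d c := fun e => hne (by
        rw [ec, ed, A.mul_left' (qa_lt hc) (qa_lt hd), A.mul_left' (qa_lt hd) (qa_lt hc), e])
      have := allBelow_get (allBelow_get (allBelow_get noncomm_check (qa_lt hc)) (qa_lt hd))
        (qa_lt hf)
      simp [hc, hd, hf, k1', k2', hcd] at this
      refine ⟨f, hf, ef.trans ?_⟩
      rcases this with rfl | rfl
      · rfl
      · rw [A.ck_neg, A.ck_right, A.neg2]
    · exact ⟨f, hf, ef⟩
  · exact absurd (by rw [ec, ed, A.commute_lr]) hne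
  · exact absurd (by rw [ec, ed, A.commute_lr]) hne
  · right
    have h1 : ∀ a, qa a = true → ∃ c, qa c = true ∧ h * A.ck a 0 * h⁻¹ = A.ck 0 c := by
      refine qa_gen hone' ⟨c, hc, ec⟩ ⟨d, hd, ed⟩ fun a b ha hb => ?_
      rintro ⟨p, hp, ep⟩ ⟨q, hq, eq⟩
      rw [← A.mul_left' (qa_lt ha) (qa_lt hb)]
      exact hmul' ep eq hp hq
    intro a ha
    refine ⟨h1 a ha, ?_⟩
    obtain ⟨f, hf, ef | ef⟩ := A.img hh ha (Or.inr rfl)
    · exact ⟨f, hf, ef⟩
    · obtain ⟨k1, k2⟩ := hcomm ha ec ed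
      rw [ef, A.mul_right' (qa_lt hc) (qa_lt hf), A.mul_right' (qa_lt hf) (qa_lt hc)] at k1
      rw [ef, A.mul_right' (qa_lt hd) (qa_lt hf), A.mul_right' (qa_lt hf) (qa_lt hd)] at k2
      have k1' := A.ck_inj_right (el_mul (qa_lt hc) (qa_lt hf)).2 (el_mul (qa_lt hf) (qa_lt hc)).2 k1
      have k2' := A.ck_inj_right (el_mul (qa_lt hd) (qa_lt hf)).2 (el_mul (qa_lt hf) (qa_lt hd)).2 k2
      have hcd : mt c d ≠ mt d c := fun e => hne (by
        rw [ec, ed, A.mul_right' (qa_lt hc) (qa_lt hd), A.mul_right' (qa_lt hd) (qa_lt hc), e])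
      have := allBelow_get (allBelow_get (allBelow_get noncomm_check (qa_lt hc)) (qa_lt hd))
        (qa_lt hf)
      simp [hc, hd, hf, k1', k2', hcd] at this
      refine ⟨f, hf, ef.trans ?_⟩
      rcases this with rfl | rfl
      · rfl
      · rw [A.ck_neg, A.ck_right, A.neg2]

theorem nrm_of_swp_swp {v w : G} (hv : A.Swp v) (hw : A.Swp w) : A.Nrm (v * w) := by
  intro a ha
  obtain ⟨⟨c, hc, e1⟩, d, hd, e2⟩ := hw a ha
  obtain ⟨f, hf, e3⟩ := (hv c hc).2
  obtain ⟨g, hg, e4⟩ := (hv d hd).1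
  refine ⟨⟨f, hf, ?_⟩, g, hg, ?_⟩
  · rw [← e3, ← e1]; simp [mul_assoc]
  · rw [← e4, ← e2]; simp [mul_assoc]

theorem nrm_mul {v w : G} (hv : A.Nrm v) (hw : A.Nrm w) : A.Nrm (v * w) := by
  intro a ha
  obtain ⟨⟨c, hc, e1⟩, d, hd, e2⟩ := hw a ha
  obtain ⟨f, hf, e3⟩ := (hv c hc).1
  obtain ⟨g, hg, e4⟩ := (hv d hd).2
  refine ⟨⟨f, hf, ?_⟩, g, hg, ?_⟩
  · rw [← e3, ← e1]; simp [mul_assoc]
  · rw [← e4, ← e2]; simp [mul_assoc]

end Dat

/-- The common part of the two cores. -/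
def InR {G : Type u} [Group G] (z t x : G) : Prop := x = 1 ∨ x = z ∨ x = t ∨ x = z * t

/-- Two involutions, each in the two-core of the other one. -/
structure Pair {G : Type u} [Group G] (z t : G) where
  A : Dat z
  B : Dat t
  ht : A.ck 3 3 = t
  hz : B.ck 3 3 = z
  meet : ∀ x, A.InQ x → B.InQ x → InR z t x

namespace Pair

variable {G : Type u} [Group G] {z t : G} (P : Pair z t)

theorem zt (P : Pair z t) : z * t = t * z := by
  calc z * t = z * P.A.ck 3 3 := by rw [P.ht]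
    _ = P.A.ck 3 3 * z := (P.A.ck_central 3 3).symm
    _ = t * z := by rw [P.ht]

/-- The roles exchanged. -/
def symm : Pair t z where
  A := P.B
  B := P.A
  ht := P.hz
  hz := P.ht
  meet x hA hB := by
    rcases P.meet x hB hA with e | e | e | e
    · exact Or.inl e
    · exact Or.inr (Or.inr (Or.inl e))
    · exact Or.inr (Or.inl e)
    · exact Or.inr (Or.inr (Or.inr (e.trans P.zt)))

theorem t_mul {a b : ℕ} (ha : a < 24) (hb : b < 24) :
    t * P.A.ck a b = P.A.ck (mt 3 a) (mt 3 b) :=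
  (congrArg (· * P.A.ck a b) P.ht).symm.trans (P.A.ck_mul (by norm_num) (by norm_num) ha hb)

theorem mul_t {a b : ℕ} (ha : a < 24) (hb : b < 24) :
    P.A.ck a b * t = P.A.ck (mt a 3) (mt b 3) :=
  (congrArg (P.A.ck a b * ·) P.ht).symm.trans (P.A.ck_mul ha hb (by norm_num) (by norm_num))

theorem z_mul {a b : ℕ} (ha : a < 24) (hb : b < 24) :
    z * P.A.ck a b = P.A.ck (mt 12 a) b := by
  refine ((congrArg (· * P.A.ck a b) P.A.ck_neg).symm.trans
    (P.A.ck_mul (by norm_num) (by norm_num) ha hb)).trans ?_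
  rw [(iv_spec hb).2.2.2.1]

theorem zt_eq (P : Pair z t) : z * t = P.A.ck 15 3 := by
  refine (congrArg (z * ·) P.ht).symm.trans ((P.z_mul (by norm_num) (by norm_num)).trans ?_)
  rw [show mt 12 3 = 15 by decide +kernel]

theorem t_conj {a b : ℕ} (ha : a < 24) (hb : b < 24) :
    t * P.A.ck a b * t⁻¹ = P.A.ck (cj 3 a) (cj 3 b) :=
  (congrArg (fun u => u * P.A.ck a b * u⁻¹) P.ht).symm.trans
    (P.A.ck_conj (by norm_num) (by norm_num) ha hb)

theorem t_sq (P : Pair z t) : t * t = 1 := P.B.z_sq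

/-- Membership of `W = C(z) ∩ Q_t`. -/
def InW (w : G) : Prop := P.B.InQ w ∧ w * z = z * w

theorem w_comm_t {w : G} (hw : P.InW w) : w * t = t * w := by
  obtain ⟨a, b, -, -, rfl⟩ := hw.1
  exact P.B.ck_central a b

theorem comm_R {w v : G} (hw : P.InW w) (hv : P.A.InQ v) (hvt : v * t = t * v) :
    InR z t (w * v * w⁻¹ * v⁻¹) := by
  refine P.meet _ (P.A.inQ_mul (P.A.inQ_conj hw.2 hv) (P.A.inQ_inv hv)) ?_
  rw [show w * v * w⁻¹ * v⁻¹ = w * (v * w⁻¹ * v⁻¹) by simp [mul_assoc]]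
  exact P.B.inQ_mul hw.1 (P.B.inQ_conj hvt (P.B.inQ_inv hw.1))

theorem inR_iff {a b : ℕ} (ha : a < 24) (hb : b < 24) :
    InR z t (P.A.ck a b) ↔ rOK a b = true := by
  have e3 : z * t = P.A.ck 15 3 := by
    calc z * t = P.A.ck 12 0 * P.A.ck 3 3 := by rw [P.A.ck_neg, P.ht]
      _ = _ := by
        rw [P.A.ck_mul (by norm_num) (by norm_num) (by norm_num) (by norm_num),
          show mt 12 3 = 15 by decide +kernel, show mt 0 3 = 3 by decide +kernel]
  simp only [InR, rOK, Bool.or_eq_true, e3, ← P.A.eq_iff ha hb (by norm_num : 0 < 24) (by norm_num : 0 < 24),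
    ← P.A.eq_iff ha hb (by norm_num : 12 < 24) (by norm_num : 0 < 24),
    ← P.A.eq_iff ha hb (by norm_num : 3 < 24) (by norm_num : 3 < 24),
    ← P.A.eq_iff ha hb (by norm_num : 15 < 24) (by norm_num : 3 < 24), P.A.ck_zero, P.A.ck_neg, P.ht]
  tauto

/-- Acting as an outer automorphism on both quaternion groups. -/
def Outer (w : G) : Prop :=
  ∃ c x y, (c = 3 ∨ c = 15) ∧ (x = 9 ∨ x = 21) ∧ (y = 9 ∨ y = 21) ∧
    w * P.A.ck 3 0 * w⁻¹ = P.A.ck c 0 ∧ w * P.A.ck 0 3 * w⁻¹ = P.A.ck 0 c ∧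
    w * P.A.ck 6 0 * w⁻¹ = P.A.ck x 0 ∧ w * P.A.ck 0 6 * w⁻¹ = P.A.ck 0 y

theorem nrm_check : allBelow 24 (fun c => !qa c || allBelow 24 fun d => !qa d || !eqK c d 3 3 ||
    allBelow 24 fun x => !qa x || Nat.beq (mt c x) (mt x c) ||
    allBelow 24 fun y => !qa y || Nat.beq (mt d y) (mt y d) ||
      !rOK (mt x (iv 6)) (mt y (iv 6)) ||
      ((Nat.beq c 3 || Nat.beq c 15) && Nat.beq d c &&
        (((Nat.beq x 6 || Nat.beq x 18) && (List.range 24).any fun a => qa a && Nat.beq (cj a 3) c &&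
            Nat.beq (cj a 6) x && (List.range 24).any fun b => qa b && Nat.beq (cj b 3) c &&
            Nat.beq (cj b 6) y) ||
          ((Nat.beq x 9 || Nat.beq x 21) && (Nat.beq y 9 || Nat.beq y 21))))) = true := by
  decide +kernel

theorem inner_of {w : G} (hw : P.InW w) {a b c x y : ℕ} (ha : qa a = true) (hb : qa b = true)
    (e1 : cj a 3 = c) (e2 : cj a 6 = x) (e3 : cj b 3 = c) (e4 : cj b 6 = y)
    (f1 : w * P.A.ck 3 0 * w⁻¹ = P.A.ck c 0) (f2 : w * P.A.ck 0 3 * w⁻¹ = P.A.ck 0 c)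
    (f3 : w * P.A.ck 6 0 * w⁻¹ = P.A.ck x 0) (f4 : w * P.A.ck 0 6 * w⁻¹ = P.A.ck 0 y) :
    InR z t w := by
  set k := P.A.ck a b with hk
  have hkz : k * z = z * k := P.A.ck_central a b
  have hcj : ∀ v v', w * v * w⁻¹ = v' → k * v * k⁻¹ = v' → Commute (k⁻¹ * w) v := by
    intro v v' g1 g2
    show k⁻¹ * w * v = v * (k⁻¹ * w)
    calc k⁻¹ * w * v = k⁻¹ * (w * v * w⁻¹) * w := by simp [mul_assoc]
      _ = k⁻¹ * (k * v * k⁻¹) * w := by rw [g1, g2]
      _ = _ := by simp [mul_assoc]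
  have hconjL : ∀ v, v < 24 → k * P.A.ck v 0 * k⁻¹ = P.A.ck (cj a v) 0 := fun v hv => by
    rw [hk, P.A.ck_conj (qa_lt ha) (qa_lt hb) hv (by norm_num),
      show cj b 0 = 0 from el_inj (cj_spec (qa_lt hb) (by norm_num)).1 (by norm_num)
        (by rw [← (cj_spec (qa_lt hb) (by norm_num)).2, el_zero]; simp)]
  have hconjR : ∀ v, v < 24 → k * P.A.ck 0 v * k⁻¹ = P.A.ck 0 (cj b v) := fun v hv => by
    rw [hk, P.A.ck_conj (qa_lt ha) (qa_lt hb) (by norm_num) hv,
      show cj a 0 = 0 from el_inj (cj_spec (qa_lt ha) (by norm_num)).1 (by norm_num)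
        (by rw [← (cj_spec (qa_lt ha) (by norm_num)).2, el_zero]; simp)]
  have c3 := hcj _ _ f1 (by rw [hconjL 3 (by norm_num), e1])
  have c6 := hcj _ _ f3 (by rw [hconjL 6 (by norm_num), e2])
  have d3 := hcj _ _ f2 (by rw [hconjR 3 (by norm_num), e3])
  have d6 := hcj _ _ f4 (by rw [hconjR 6 (by norm_num), e4])
  have hl : ∀ v, qa v = true → Commute (k⁻¹ * w) (P.A.ck v 0) := qa_gen
    (by rw [P.A.ck_zero]; exact Commute.one_right _) c3 c6 fun p q hp hq g1 g2 => by
      rw [← P.A.mul_left' (qa_lt hp) (qa_lt hq)]; exact g1.mul_right g2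
  have hr : ∀ v, qa v = true → Commute (k⁻¹ * w) (P.A.ck 0 v) := qa_gen
    (by rw [P.A.ck_zero]; exact Commute.one_right _) d3 d6 fun p q hp hq g1 g2 => by
      rw [← P.A.mul_right' (qa_lt hp) (qa_lt hq)]; exact g1.mul_right g2
  have hkw : k⁻¹ * w = 1 ∨ k⁻¹ * w = z := by
    refine P.A.centQ _ ?_ fun p q hp hq => ?_
    · have h1 : Commute k z := hkz
      have h2 : Commute w z := hw.2
      exact (h1.inv_left.mul_left h2).eq
    · have := (hl p hp).mul_right (hr q hq)
      rw [P.A.ck_left, P.A.ck_right] at this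
      exact this.eq
  refine P.meet w ?_ hw.1
  have q0 : qa 0 = true := by decide +kernel
  have hkQ : P.A.InQ k := P.A.inQ_ck ha hb
  rcases hkw with e | e
  · rw [inv_mul_eq_one] at e; rwa [← e]
  · rw [inv_mul_eq_iff_eq_mul] at e
    rw [e]
    exact P.A.inQ_mul hkQ ⟨12, 0, by decide +kernel, q0, P.A.ck_neg.symm⟩

/-- A normalising element of `W` outside `R` is outer on both factors. -/
theorem outer_of_nrm {w : G} (hw : P.InW w) (hn : P.A.Nrm w) : InR z t w ∨ P.Outer w := by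
  have q0 : qa 0 = true := by decide +kernel
  have q3 : qa 3 = true := by decide +kernel
  have q6 : qa 6 = true := by decide +kernel
  obtain ⟨⟨c, hc, ec⟩, d, hd, ed⟩ := hn 3 q3
  obtain ⟨⟨x, hx, ex⟩, y, hy, ey⟩ := hn 6 q6
  have ht : eqK c d 3 3 = true := by
    rw [← P.A.eq_iff (qa_lt hc) (qa_lt hd) (by norm_num) (by norm_num), P.ht]
    calc P.A.ck c d = P.A.ck c 0 * P.A.ck 0 d := by
          rw [P.A.ck_mul (qa_lt hc) (by norm_num) (by norm_num) (qa_lt hd),
            (iv_spec (qa_lt hc)).2.2.2.2.1, (iv_spec (qa_lt hd)).2.2.2.1]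
      _ = w * (P.A.ck 3 0 * P.A.ck 0 3) * w⁻¹ := by rw [← ec, ← ed, conj_mul]
      _ = w * P.A.ck 3 3 * w⁻¹ := by
          rw [P.A.ck_mul (by norm_num) (by norm_num) (by norm_num) (by norm_num),
            show mt 3 0 = 3 by decide +kernel, show mt 0 3 = 3 by decide +kernel]
      _ = t := by rw [P.ht, P.w_comm_t hw, mul_inv_cancel_right]
  have hu : P.A.InQ (P.A.ck 6 6) := P.A.inQ_ck q6 q6
  have hut : P.A.ck 6 6 * t = t * P.A.ck 6 6 := by
    rw [P.mul_t (by norm_num) (by norm_num), P.t_mul (by norm_num) (by norm_num),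
      P.A.eq_iff (el_mul (by norm_num) (by norm_num)).2 (el_mul (by norm_num) (by norm_num)).2
        (el_mul (by norm_num) (by norm_num)).2 (el_mul (by norm_num) (by norm_num)).2]
    decide +kernel
  have hR : rOK (mt x (iv 6)) (mt y (iv 6)) = true := by
    rw [← P.inR_iff (el_mul (qa_lt hx) (iv_spec (by norm_num)).1).2
      (el_mul (qa_lt hy) (iv_spec (by norm_num)).1).2]
    have e : w * P.A.ck 6 6 * w⁻¹ * (P.A.ck 6 6)⁻¹ = P.A.ck (mt x (iv 6)) (mt y (iv 6)) := by
      rw [P.A.ck_inv (by norm_num) (by norm_num),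
        ← P.A.ck_mul (qa_lt hx) (qa_lt hy) (iv_spec (by norm_num)).1 (iv_spec (by norm_num)).1]
      congr 1
      calc w * P.A.ck 6 6 * w⁻¹ = w * (P.A.ck 6 0 * P.A.ck 0 6) * w⁻¹ := by
            rw [P.A.ck_mul (by norm_num) (by norm_num) (by norm_num) (by norm_num),
              show mt 6 0 = 6 by decide +kernel, show mt 0 6 = 6 by decide +kernel]
        _ = P.A.ck x 0 * P.A.ck 0 y := by rw [← ex, ← ey, conj_mul]
        _ = _ := by
            rw [P.A.ck_mul (qa_lt hx) (by norm_num) (by norm_num) (qa_lt hy),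
              (iv_spec (qa_lt hx)).2.2.2.2.1, (iv_spec (qa_lt hy)).2.2.2.1]
    rw [← e]
    exact P.comm_R hw hu hut
  have n1 : mt c x ≠ mt x c := fun e => by
    have h1 : w * (P.A.ck 3 0 * P.A.ck 6 0) * w⁻¹ = w * (P.A.ck 6 0 * P.A.ck 3 0) * w⁻¹ := by
      rw [← conj_mul, ← conj_mul, ec, ex, P.A.mul_left' (qa_lt hc) (qa_lt hx),
        P.A.mul_left' (qa_lt hx) (qa_lt hc), e]
    have h2 := mul_left_cancel (mul_right_cancel h1)
    rw [P.A.mul_left' (by norm_num) (by norm_num), P.A.mul_left' (by norm_num) (by norm_num)] at h2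
    have h3 := P.A.ck_inj_left (el_mul (by norm_num) (by norm_num)).2
      (el_mul (by norm_num) (by norm_num)).2 h2
    revert h3; decide +kernel
  have n2 : mt d y ≠ mt y d := fun e => by
    have h1 : w * (P.A.ck 0 3 * P.A.ck 0 6) * w⁻¹ = w * (P.A.ck 0 6 * P.A.ck 0 3) * w⁻¹ := by
      rw [← conj_mul, ← conj_mul, ed, ey, P.A.mul_right' (qa_lt hd) (qa_lt hy),
        P.A.mul_right' (qa_lt hy) (qa_lt hd), e]
    have h2 := mul_left_cancel (mul_right_cancel h1)
    rw [P.A.mul_right' (by norm_num) (by norm_num), P.A.mul_right' (by norm_num) (by norm_num)] at h2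
    have h3 := P.A.ck_inj_right (el_mul (by norm_num) (by norm_num)).2
      (el_mul (by norm_num) (by norm_num)).2 h2
    revert h3; decide +kernel
  have h := allBelow_get nrm_check (qa_lt hc)
  simp only [hc, Bool.not_true, Bool.false_or] at h
  have h := allBelow_get h (qa_lt hd)
  simp only [hd, ht, Bool.not_true, Bool.false_or] at h
  have h := allBelow_get h (qa_lt hx)
  rw [show Nat.beq (mt c x) (mt x c) = false from Bool.eq_false_iff.2 fun e => n1 (Nat.eq_of_beq_eq_true e)] at h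
  simp only [hx, Bool.not_true, Bool.false_or] at h
  have h := allBelow_get h (qa_lt hy)
  rw [show Nat.beq (mt d y) (mt y d) = false from Bool.eq_false_iff.2 fun e => n2 (Nat.eq_of_beq_eq_true e)] at h
  simp only [hy, hR, Bool.not_true, Bool.false_or, Bool.and_eq_true, Bool.or_eq_true, Nat.beq_eq,
    List.any_eq_true] at h
  obtain ⟨⟨hc', hdc⟩, hcase⟩ := h
  subst hdc
  rcases hcase with ⟨-, a, -, ⟨⟨ha, a3⟩, a6⟩, b, -, ⟨⟨hb, b3⟩, b6⟩⟩ | ⟨hx', hy'⟩
  · exact Or.inl (P.inner_of hw ha hb a3 a6 b3 b6 ec ed ex ey)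
  · exact Or.inr ⟨d, x, y, hc', hx', hy', ec, ed, ex, ey⟩

theorem inW_mul {v w : G} (hv : P.InW v) (hw : P.InW w) : P.InW (v * w) :=
  ⟨P.B.inQ_mul hv.1 hw.1, by rw [mul_assoc, hw.2, ← mul_assoc, hv.2, mul_assoc]⟩

theorem inR_mul_of_outer {v w : G} (hv : P.InW v) (hw : P.InW w) (ov : P.Outer v)
    (nv : P.A.Nrm v) (ow : P.Outer w) (nw : P.A.Nrm w) : InR z t (v * w) := by
  rcases P.outer_of_nrm (P.inW_mul hv hw) (P.A.nrm_mul nv nw) with h | ⟨c, x, y, -, hx, -, -, -, e, -⟩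
  · exact h
  exfalso
  obtain ⟨c1, x1, y1, hc1, hx1, -, f1, -, f3, -⟩ := ov
  obtain ⟨c2, x2, y2, hc2, hx2, -, g1, -, g3, -⟩ := ow
  have hv9 : ∀ u, (u = 9 ∨ u = 21) → ∃ r, (r = 6 ∨ r = 18) ∧ v * P.A.ck u 0 * v⁻¹ = P.A.ck r 0 := by
    intro u hu
    have h21 : v * P.A.ck 12 0 * v⁻¹ = P.A.ck 12 0 := by
      rw [P.A.ck_neg, hv.2, mul_inv_cancel_right]
    have h9 : v * P.A.ck 9 0 * v⁻¹ = P.A.ck (mt c1 x1) 0 := by
      rw [show (9 : ℕ) = mt 3 6 by decide +kernel, ← P.A.mul_left' (by norm_num) (by norm_num),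
        ← conj_mul, f1, f3, P.A.mul_left' (by omega) (by omega)]
    rcases hu with rfl | rfl
    · refine ⟨_, ?_, h9⟩
      rcases hc1 with rfl | rfl <;> rcases hx1 with rfl | rfl <;> decide +kernel
    · refine ⟨mt 12 (mt c1 x1), ?_, ?_⟩
      · rcases hc1 with rfl | rfl <;> rcases hx1 with rfl | rfl <;> decide +kernel
      · rw [show (21 : ℕ) = mt 12 9 by decide +kernel, ← P.A.mul_left' (by norm_num) (by norm_num),
          ← conj_mul, h21, h9, P.A.mul_left' (by norm_num) (el_mul (by omega) (by omega)).2]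
  obtain ⟨r, hr, er⟩ := hv9 x2 hx2
  have : P.A.ck x 0 = P.A.ck r 0 := by rw [← e, ← er, ← g3]; simp [mul_assoc]
  have := P.A.ck_inj_left (by omega) (by omega) this
  omega

theorem not_inR_B {a b : ℕ} (ha : a < 24) (hb : b < 24) (h : rOK a b = false) :
    ¬ InR z t (P.B.ck a b) := fun hr => by
  have h' : InR t z (P.B.ck a b) := by
    rcases hr with e | e | e | e
    · exact Or.inl e
    · exact Or.inr (Or.inr (Or.inl e))
    · exact Or.inr (Or.inl e)
    · exact Or.inr (Or.inr (Or.inr (e.trans P.zt)))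
  have := (P.symm.inR_iff ha hb).1 h'
  rw [h] at this
  exact Bool.noConfusion this

theorem B_comm_iff {a b c d : ℕ} (ha : a < 24) (hb : b < 24) (hc : c < 24) (hd : d < 24)
    (h : eqK (mt a c) (mt b d) (mt c a) (mt d b) = true) :
    P.B.ck a b * P.B.ck c d = P.B.ck c d * P.B.ck a b := by
  rw [P.B.ck_mul ha hb hc hd, P.B.ck_mul hc hd ha hb,
    P.B.eq_iff (el_mul ha hc).2 (el_mul hb hd).2 (el_mul hc ha).2 (el_mul hd hb).2]
  exact h

theorem inW_B {a b : ℕ} (ha : qa a = true) (hb : qa b = true)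
    (h : eqK (mt a 3) (mt b 3) (mt 3 a) (mt 3 b) = true) : P.InW (P.B.ck a b) :=
  ⟨P.B.inQ_ck ha hb, by
    have e := P.B_comm_iff (qa_lt ha) (qa_lt hb) (by norm_num : 3 < 24) (by norm_num : 3 < 24) h
    exact ((congrArg (P.B.ck a b * ·) P.hz).symm.trans e).trans (congrArg (· * P.B.ck a b) P.hz)⟩

theorem wp : P.InW (P.B.ck 3 0) := P.inW_B (by decide +kernel) (by decide +kernel) (by decide +kernel)
theorem w6 : P.InW (P.B.ck 6 6) := P.inW_B (by decide +kernel) (by decide +kernel) (by decide +kernel)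
theorem w9 : P.InW (P.B.ck 9 6) := P.inW_B (by decide +kernel) (by decide +kernel) (by decide +kernel)

theorem wp_w6 : P.B.ck 3 0 * P.B.ck 6 6 = P.B.ck 9 6 := by
  rw [P.B.ck_mul (by norm_num) (by norm_num) (by norm_num) (by norm_num),
    show mt 3 6 = 9 by decide +kernel, show mt 0 6 = 6 by decide +kernel]

theorem outer_w {a b : ℕ} (ha : a < 24) (hb : b < 24) (hr : rOK a b = false)
    (hw : P.InW (P.B.ck a b)) (hn : P.A.Nrm (P.B.ck a b)) : P.Outer (P.B.ck a b) :=
  (P.outer_of_nrm hw hn).resolve_left (P.not_inR_B ha hb hr)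

/-- If the element of order four normalises the factors, it fixes `A.ck 3 0`. -/
theorem p_fix (hn : P.A.Nrm (P.B.ck 3 0)) :
    P.B.ck 3 0 * P.A.ck 3 0 * (P.B.ck 3 0)⁻¹ = P.A.ck 3 0 ∧
      P.B.ck 3 0 * P.A.ck 0 3 * (P.B.ck 3 0)⁻¹ = P.A.ck 0 3 ∧
      ∃ x, (x = 9 ∨ x = 21) ∧ P.B.ck 3 0 * P.A.ck 6 0 * (P.B.ck 3 0)⁻¹ = P.A.ck x 0 := by
  obtain ⟨c, x, y, hc, hx, -, e1, e2, e3, -⟩ :=
    P.outer_w (by norm_num) (by norm_num) (by decide +kernel) P.wp hn
  rcases hc with rfl | rfl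
  · exact ⟨e1, e2, x, hx, e3⟩
  exfalso
  set p := P.B.ck 3 0 with hp
  have hpp : p * p = t := by
    rw [hp, P.B.mul_left' (by norm_num) (by norm_num), show mt 3 3 = 12 by decide +kernel, P.B.ck_neg]
  have h12 : p * P.A.ck 12 0 * p⁻¹ = P.A.ck 12 0 := by
    rw [P.A.ck_neg, P.wp.2, mul_inv_cancel_right]
  have h9 : p * P.A.ck 9 0 * p⁻¹ = P.A.ck (mt 15 x) 0 := by
    rw [show (9 : ℕ) = mt 3 6 by decide +kernel, ← P.A.mul_left' (by norm_num) (by norm_num),
      ← conj_mul, e1, e3, P.A.mul_left' (by norm_num) (by omega)]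
  have hsq : p * p * P.A.ck 6 0 * (p * p)⁻¹ = P.A.ck 6 0 := by
    calc p * p * P.A.ck 6 0 * (p * p)⁻¹ = p * (p * P.A.ck 6 0 * p⁻¹) * p⁻¹ := by simp [mul_assoc]
      _ = p * P.A.ck x 0 * p⁻¹ := by rw [e3]
      _ = P.A.ck 6 0 := by
        rcases hx with rfl | rfl
        · rw [h9, show mt 15 9 = 6 by decide +kernel]
        · rw [show (21 : ℕ) = mt 12 9 by decide +kernel,
            ← P.A.mul_left' (by norm_num) (by norm_num), ← conj_mul, h12, h9,
            P.A.mul_left' (a := 12) (b := mt 15 21) (by norm_num) (el_mul (by norm_num) (by norm_num)).2,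
            show mt 12 (mt 15 21) = 6 by decide +kernel]
  rw [hpp, P.t_conj (by norm_num) (by norm_num),
    P.A.eq_iff (cj_spec (by norm_num) (by norm_num)).1 (cj_spec (by norm_num) (by norm_num)).1
      (by norm_num) (by norm_num)] at hsq
  revert hsq; decide +kernel

theorem p_commute (hn : P.A.Nrm (P.B.ck 3 0)) :
    P.B.ck 3 0 * P.A.ck 3 0 = P.A.ck 3 0 * P.B.ck 3 0 := by
  have h := (P.p_fix hn).1
  rwa [mul_inv_eq_iff_eq_mul] at h

/-- An interchanging element of `W` maps the first `J` to one of two elements. -/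
theorem swp_img {w : G} (hw : P.InW w) (hs : P.A.Swp w) :
    ∃ c, (c = 3 ∨ c = 15) ∧ w * P.A.ck 3 0 * w⁻¹ = P.A.ck 0 c := by
  obtain ⟨⟨c, hc, ec⟩, d, hd, ed⟩ := hs 3 (by decide +kernel)
  refine ⟨c, ?_, ec⟩
  have ht : eqK d c 3 3 = true := by
    rw [← P.A.eq_iff (qa_lt hd) (qa_lt hc) (by norm_num) (by norm_num), P.ht]
    calc P.A.ck d c = P.A.ck 0 c * P.A.ck d 0 := by
          rw [P.A.ck_mul (by norm_num) (qa_lt hc) (qa_lt hd) (by norm_num),
            (iv_spec (qa_lt hc)).2.2.2.2.1, (iv_spec (qa_lt hd)).2.2.2.1]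
      _ = w * (P.A.ck 3 0 * P.A.ck 0 3) * w⁻¹ := by rw [← ec, ← ed, conj_mul]
      _ = w * P.A.ck 3 3 * w⁻¹ := by
          rw [P.A.ck_mul (by norm_num) (by norm_num) (by norm_num) (by norm_num),
            show mt 3 0 = 3 by decide +kernel, show mt 0 3 = 3 by decide +kernel]
      _ = t := by rw [P.ht, P.w_comm_t hw, mul_inv_cancel_right]
  have hcc := allBelow_get (allBelow_get (show allBelow 24 (fun d => allBelow 24 fun c =>
    !eqK d c 3 3 || Nat.beq c 3 || Nat.beq c 15) = true by decide +kernel) (qa_lt hd)) (qa_lt hc)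
  simpa [ht] using hcc

theorem flip {p q m : G} (hm : p * m = m * p) (h : q * p * q⁻¹ = p * m) :
    p * q * p⁻¹ = m⁻¹ * q := by
  have h2 : q * p = p * m * q := by rw [← h, inv_mul_cancel_right]
  calc p * q * p⁻¹ = m⁻¹ * (p * m * q) * p⁻¹ := by rw [hm]; simp [mul_assoc]
    _ = _ := by rw [← h2]; simp [mul_assoc]

/-- The element of order four of `W` normalises the factors. -/
theorem nrm_p : P.A.Nrm (P.B.ck 3 0) := by
  by_contra hn
  have hsp : P.A.Swp (P.B.ck 3 0) := (P.A.nrm_or_swp P.wp.2).resolve_left hn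
  set p := P.B.ck 3 0 with hp
  set q := P.A.ck 3 0 with hq
  obtain ⟨c, hc, ec⟩ := P.swp_img P.wp hsp
  have hqnp : p * q * p⁻¹ ≠ q := fun e => by
    have h0 : P.A.ck 0 c = P.A.ck 3 0 := ec.symm.trans e
    rw [P.A.eq_iff (by norm_num) (by omega) (by norm_num) (by norm_num)] at h0
    rcases hc with rfl | rfl <;> revert h0 <;> decide +kernel
  have hsq : P.symm.A.Swp q := by
    refine (P.symm.A.nrm_or_swp P.symm.wp.2).resolve_left fun h => hqnp ?_
    have := P.symm.p_commute h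
    change q * p = p * q at this
    rw [← this, mul_inv_cancel_right]
  obtain ⟨c', hc', ec'⟩ := P.symm.swp_img P.symm.wp hsq
  change q * p * q⁻¹ = P.B.ck 0 c' at ec'
  -- the value of the commutator of `p` and `q`
  have hps : p * q * p⁻¹ = P.A.ck 0 3 := by
    have e15 : P.B.ck 15 c' = z ∨ P.B.ck 15 c' = z * t := by
      rcases hc' with rfl | rfl
      · right
        exact P.symm.zt_eq.symm.trans P.zt.symm
      · left
        refine Eq.trans ?_ P.hz
        rw [P.B.eq_iff (by norm_num) (by norm_num) (by norm_num) (by norm_num)]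
        decide +kernel
    have hm : P.B.ck 0 c' = p * P.B.ck 15 c' := by
      rw [hp, P.B.ck_mul (by norm_num) (by norm_num) (by norm_num) (by omega),
        show mt 3 15 = 0 by decide +kernel, (iv_spec (by omega : c' < 24)).2.2.2.1]
    rcases e15 with e | e
    · exfalso
      rw [hm, e] at ec'
      have h1 := flip P.wp.2 ec'
      rw [inv_eq_of_mul_eq_one_right P.A.z_sq] at h1
      have h2 : z * q = P.A.ck 15 0 := by
        rw [hq, P.z_mul (by norm_num) (by norm_num), show mt 12 3 = 15 by decide +kernel]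
      rw [h1, h2, P.A.eq_iff (by norm_num) (by norm_num) (by norm_num) (by omega)] at ec
      rcases hc with rfl | rfl <;> revert ec <;> decide +kernel
    · rw [hm, e] at ec'
      have hmz : p * (z * t) = z * t * p := by
        rw [← mul_assoc, P.wp.2, mul_assoc, P.w_comm_t P.wp, mul_assoc]
      rw [flip hmz ec']
      have h2 : (z * t)⁻¹ = P.A.ck (iv 15) (iv 3) := by
        rw [P.zt_eq, P.A.ck_inv (by norm_num) (by norm_num)]
      rw [h2, hq, P.A.ck_mul (iv_spec (by norm_num)).1 (iv_spec (by norm_num)).1 (by norm_num)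
        (by norm_num), P.A.eq_iff (el_mul (iv_spec (by norm_num)).1 (by norm_num)).2
        (el_mul (iv_spec (by norm_num)).1 (by norm_num)).2 (by norm_num) (by norm_num)]
      decide +kernel
  have hpp : p * p = t := by
    rw [hp, P.B.mul_left' (by norm_num) (by norm_num), show mt 3 3 = 12 by decide +kernel, P.B.ck_neg]
  have htt : ∀ a b : ℕ, a < 24 → b < 24 → t * P.A.ck a b * t⁻¹ = P.A.ck (cj 3 a) (cj 3 b) :=
    fun a b ha hb => P.t_conj ha hb
  have hps' : p * P.A.ck 0 3 * p⁻¹ = P.A.ck 3 0 := by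
    rw [← hps]
    calc p * (p * q * p⁻¹) * p⁻¹ = p * p * q * (p * p)⁻¹ := by simp [mul_assoc]
      _ = _ := by
        rw [hpp, hq, htt 3 0 (by norm_num) (by norm_num), show cj 3 3 = 3 by decide +kernel,
          show cj 3 0 = 0 by decide +kernel]
  obtain ⟨⟨b, hb, eb⟩, -⟩ := hsp 6 (by decide +kernel)
  have hb' := qa_lt hb
  have eb' : p * P.A.ck 0 b * p⁻¹ = P.A.ck 18 0 := by
    rw [← eb]
    calc p * (p * P.A.ck 6 0 * p⁻¹) * p⁻¹ = p * p * P.A.ck 6 0 * (p * p)⁻¹ := by simp [mul_assoc]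
      _ = _ := by
        rw [hpp, htt 6 0 (by norm_num) (by norm_num), show cj 3 6 = 18 by decide +kernel,
          show cj 3 0 = 0 by decide +kernel]
  have hb4 : b = 6 ∨ b = 18 ∨ b = 9 ∨ b = 21 := by
    have hne : mt b 3 ≠ mt 3 b := fun e => by
      have h1 : p * (P.A.ck 6 0 * P.A.ck 3 0) * p⁻¹ = p * (P.A.ck 3 0 * P.A.ck 6 0) * p⁻¹ := by
        rw [← conj_mul, ← conj_mul, eb, hps, P.A.mul_right' hb' (by norm_num),
          P.A.mul_right' (by norm_num) hb', e]
      have h2 := mul_left_cancel (mul_right_cancel h1)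
      rw [P.A.mul_left' (by norm_num) (by norm_num), P.A.mul_left' (by norm_num) (by norm_num)] at h2
      have h3 := P.A.ck_inj_left (el_mul (by norm_num) (by norm_num)).2
        (el_mul (by norm_num) (by norm_num)).2 h2
      revert h3; decide +kernel
    have := allBelow_get (show allBelow 24 (fun b => !qa b || Nat.beq (mt b 3) (mt 3 b) ||
      Nat.beq b 6 || Nat.beq b 18 || Nat.beq b 9 || Nat.beq b 21) = true by decide +kernel) hb'
    simpa [hb, hne, or_assoc] using this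
  -- the normalising involution
  obtain ⟨a0, b0, hab, hDn⟩ : ∃ a b, (a = 6 ∨ a = 9) ∧ b = 6 ∧ P.A.Nrm (P.B.ck a b) := by
    rcases P.A.nrm_or_swp P.w6.2 with h | h
    · exact ⟨6, 6, Or.inl rfl, rfl, h⟩
    · exact ⟨9, 6, Or.inr rfl, rfl, P.wp_w6 ▸ P.A.nrm_of_swp_swp hsp h⟩
  obtain ⟨rfl, hDn⟩ := hDn
  have ha0 : a0 < 24 := by omega
  have hDW : P.InW (P.B.ck a0 6) := by
    rcases hab with rfl | rfl
    · exact P.w6
    · exact P.w9
  obtain ⟨c0, x, y, hc0, hx, -, g1, g2, g3, -⟩ :=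
    P.outer_w ha0 (by norm_num) (by rcases hab with rfl | rfl <;> decide +kernel) hDW hDn
  set D := P.B.ck a0 6 with hD
  have hDD : D * D = 1 := by
    rw [hD, P.B.ck_mul ha0 (by norm_num) ha0 (by norm_num), ← P.B.ck_zero,
      P.B.eq_iff (el_mul ha0 ha0).2 (el_mul (by norm_num) (by norm_num)).2 (by norm_num) (by norm_num)]
    rcases hab with rfl | rfl <;> decide +kernel
  have h12 : D * P.A.ck 12 0 * D⁻¹ = P.A.ck 12 0 := by
    rw [P.A.ck_neg, hDW.2, mul_inv_cancel_right]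
  have hc15 : c0 = 15 := by
    rcases hc0 with rfl | rfl
    · exfalso
      have h9 : D * P.A.ck 9 0 * D⁻¹ = P.A.ck (mt 3 x) 0 := by
        rw [show (9 : ℕ) = mt 3 6 by decide +kernel, ← P.A.mul_left' (by norm_num) (by norm_num),
          ← conj_mul, g1, g3, P.A.mul_left' (by norm_num) (by omega)]
      have hsq : D * D * P.A.ck 6 0 * (D * D)⁻¹ = P.A.ck 18 0 := by
        calc D * D * P.A.ck 6 0 * (D * D)⁻¹ = D * (D * P.A.ck 6 0 * D⁻¹) * D⁻¹ := by simp [mul_assoc]
          _ = D * P.A.ck x 0 * D⁻¹ := by rw [g3]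
          _ = P.A.ck 18 0 := by
            rcases hx with rfl | rfl
            · rw [h9, show mt 3 9 = 18 by decide +kernel]
            · rw [show (21 : ℕ) = mt 12 9 by decide +kernel,
                ← P.A.mul_left' (by norm_num) (by norm_num), ← conj_mul, h12, h9,
                P.A.mul_left' (a := 12) (b := mt 3 21) (by norm_num) (el_mul (by norm_num) (by norm_num)).2,
                show mt 12 (mt 3 21) = 18 by decide +kernel]
      rw [hDD, one_mul, inv_one, mul_one] at hsq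
      have := P.A.ck_inj_left (by norm_num) (by norm_num) hsq
      omega
    · rfl
  subst hc15
  set v := P.A.ck 6 (mt b 3) with hv
  have hb3 : mt b 3 < 24 := (el_mul hb' (by norm_num)).2
  have hsplit : v = P.A.ck 6 0 * (P.A.ck 0 b * P.A.ck 0 3) := by
    rw [P.A.mul_right' hb' (by norm_num), P.A.ck_mul (by norm_num) (by norm_num) (by norm_num) hb3,
      show mt 6 0 = 6 by decide +kernel, (iv_spec hb3).2.2.2.1]
  -- `p` maps `v` to `t * v`
  have hpv : p * v * p⁻¹ = t * v := by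
    rw [hsplit, ← conj_mul, ← conj_mul, eb, eb', hps', P.A.mul_left' (by norm_num) (by norm_num),
      P.A.mul_right' hb' (by norm_num),
      P.A.ck_mul (by norm_num) hb' (el_mul (by norm_num) (by norm_num)).2 (by norm_num),
      P.A.ck_mul (by norm_num) (by norm_num) (by norm_num) hb3,
      P.t_mul (el_mul (by norm_num) (by norm_num)).2 (el_mul (by norm_num) hb3).2,
      P.A.eq_iff (el_mul (by norm_num) (el_mul (by norm_num) (by norm_num)).2).2
        (el_mul hb' (by norm_num)).2 (el_mul (by norm_num) (el_mul (by norm_num) (by norm_num)).2).2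
        (el_mul (by norm_num) (el_mul (by norm_num) hb3).2).2]
    rcases hb4 with rfl | rfl | rfl | rfl <;> decide +kernel
  -- `D * p = t * p * D`
  have hDp : D * p = t * (p * D) := by
    rw [hD, hp, P.B.ck_mul ha0 (by norm_num) (by norm_num) (by norm_num),
      P.B.ck_mul (by norm_num) (by norm_num) ha0 (by norm_num)]
    have e := P.symm.z_mul (a := mt 3 a0) (b := mt 0 6) (el_mul (by norm_num) ha0).2
      (el_mul (by norm_num) (by norm_num)).2
    change t * P.B.ck (mt 3 a0) (mt 0 6) = P.B.ck (mt 12 (mt 3 a0)) (mt 0 6) at e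
    rw [e,
      P.B.eq_iff (el_mul ha0 (by norm_num)).2 (el_mul (by norm_num) (by norm_num)).2
        (el_mul (by norm_num) (el_mul (by norm_num) ha0).2).2
        (el_mul (by norm_num) (by norm_num)).2]
    rcases hab with rfl | rfl <;> decide +kernel
  -- the image of the second component
  have hx24 : x < 24 := by omega
  obtain ⟨x', hx', hxb⟩ : ∃ x', qa x' = true ∧ D * P.A.ck 0 b * D⁻¹ = P.A.ck 0 x' ∧
      x' = cj 3 (if x = 9 then mt 3 b else mt 12 (mt 3 b)) := by
    refine ⟨_, ?_, ?_, rfl⟩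
    · rcases hb4 with rfl | rfl | rfl | rfl <;> rcases hx with rfl | rfl <;> decide +kernel
    · have h12p : p * P.A.ck 12 0 * p⁻¹ = P.A.ck 0 12 := by
        rw [P.A.ck_neg, P.wp.2, mul_inv_cancel_right, P.A.ck_right, P.A.neg2]
      have h9 : p * P.A.ck 9 0 * p⁻¹ = P.A.ck 0 (mt 3 b) := by
        rw [show (9 : ℕ) = mt 3 6 by decide +kernel, ← P.A.mul_left' (by norm_num) (by norm_num),
          ← conj_mul, hps, eb, P.A.mul_right' (by norm_num) hb']
      have hpx : p * P.A.ck x 0 * p⁻¹ = P.A.ck 0 (if x = 9 then mt 3 b else mt 12 (mt 3 b)) := by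
        rcases hx with rfl | rfl
        · rw [if_pos rfl, h9]
        · rw [if_neg (by norm_num : ¬ (21 : ℕ) = 9), show (21 : ℕ) = mt 12 9 by decide +kernel,
            ← P.A.mul_left' (by norm_num) (by norm_num), ← conj_mul, h12p, h9,
            P.A.mul_right' (by norm_num) (el_mul (by norm_num) hb').2]
      calc D * P.A.ck 0 b * D⁻¹ = D * p * P.A.ck 6 0 * (D * p)⁻¹ := by rw [← eb]; simp [mul_assoc]
        _ = t * (p * (D * P.A.ck 6 0 * D⁻¹) * p⁻¹) * t⁻¹ := by rw [hDp]; simp [mul_assoc]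
        _ = _ := by
          rw [g3, hpx, htt 0 _ (by norm_num) (by
            rcases hb4 with rfl | rfl | rfl | rfl <;> rcases hx with rfl | rfl <;> decide +kernel),
            show cj 3 0 = 0 by decide +kernel]
  obtain ⟨hxb, rfl⟩ := hxb
  have hDv : D * v * D⁻¹ = t * v := by
    rw [hsplit, ← conj_mul, ← conj_mul, g3, hxb, g2, P.A.mul_right' (qa_lt hx') (by norm_num),
      P.A.mul_right' hb' (by norm_num),
      P.A.ck_mul hx24 (by norm_num) (by norm_num) (el_mul (qa_lt hx') (by norm_num)).2,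
      P.A.ck_mul (by norm_num) (by norm_num) (by norm_num) hb3,
      P.t_mul (el_mul (by norm_num) (by norm_num)).2 (el_mul (by norm_num) hb3).2,
      P.A.eq_iff (el_mul hx24 (by norm_num)).2
        (el_mul (by norm_num) (el_mul (qa_lt hx') (by norm_num)).2).2
        (el_mul (by norm_num) (el_mul (by norm_num) (by norm_num)).2).2
        (el_mul (by norm_num) (el_mul (by norm_num) hb3).2).2]
    rcases hb4 with rfl | rfl | rfl | rfl <;> rcases hx with rfl | rfl <;> decide +kernel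
  -- contradiction on the side of `t`
  have hvt : v * t = t * v := by
    rw [hv, P.mul_t (by norm_num) hb3, P.t_mul (by norm_num) hb3,
      P.A.eq_iff (el_mul (by norm_num) (by norm_num)).2 (el_mul hb3 (by norm_num)).2
        (el_mul (by norm_num) (by norm_num)).2 (el_mul (by norm_num) hb3).2]
    rcases hb4 with rfl | rfl | rfl | rfl <;> decide +kernel
  have hq3 : qa (mt b 3) = true := qa_mul hb (by decide +kernel)
  have hvW : P.symm.InW v := ⟨P.A.inQ_ck (by decide +kernel) hq3, hvt⟩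
  have htp : t * p = p * t := (P.w_comm_t P.wp).symm
  have hswap : ∀ {u : G}, u * v * u⁻¹ = t * v → u * t = t * u → v * u * v⁻¹ = t * u := by
    intro u h hu
    have h1 : u * v = t * v * u := mul_inv_eq_iff_eq_mul.1 h
    calc v * u * v⁻¹ = t * (t * v * u) * v⁻¹ := by
          simp only [← mul_assoc, P.t_sq, one_mul]
      _ = t * u := by rw [← h1]; simp [mul_assoc]
  have hvp : v * p * v⁻¹ = P.B.ck 15 0 := by
    rw [hswap hpv htp.symm]
    refine (P.symm.z_mul (a := 3) (b := 0) (by norm_num) (by norm_num)).trans ?_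
    rw [show mt 12 3 = 15 by decide +kernel]
    rfl
  have hvD : v * D * v⁻¹ = P.B.ck (mt 12 a0) 6 := by
    rw [hswap hDv (P.w_comm_t hDW)]
    exact P.symm.z_mul ha0 (by norm_num)
  have hvn : P.symm.A.Nrm v := by
    refine (P.symm.A.nrm_or_swp hvt).resolve_right fun h => ?_
    obtain ⟨⟨c1, hc1, e⟩, -⟩ := h 3 (by decide +kernel)
    change v * p * v⁻¹ = P.B.ck 0 c1 at e
    rw [hvp, P.B.eq_iff (by norm_num) (by norm_num) (by norm_num) (qa_lt hc1)] at e
    have := allBelow_get (show allBelow 24 (fun c => !eqK 15 0 0 c) = true by decide +kernel) (qa_lt hc1)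
    simp [e] at this
  rcases P.symm.outer_of_nrm hvW hvn with hr | ⟨c1, x1, y1, hc1, hx1, hy1, f1, -, f3, f4⟩
  · have hcomm : p * v = v * p := by
      rcases hr with e | e | e | e <;> rw [e]
      · rw [mul_one, one_mul]
      · exact htp.symm
      · exact P.wp.2
      · rw [← mul_assoc, ← htp, mul_assoc, P.wp.2, ← mul_assoc]
    have : P.B.ck 15 0 = p := by rw [← hvp, ← hcomm, mul_inv_cancel_right]
    have := P.B.ck_inj_left (by norm_num) (by norm_num) this
    omega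
  change v * p * v⁻¹ = P.B.ck c1 0 at f1
  change v * P.B.ck 6 0 * v⁻¹ = P.B.ck x1 0 at f3
  change v * P.B.ck 0 6 * v⁻¹ = P.B.ck 0 y1 at f4
  have hc1' : c1 = 15 := (P.B.ck_inj_left (by norm_num) (by omega) (hvp.symm.trans f1)).symm
  subst hc1'
  have hy24 : y1 < 24 := by omega
  have hx24' : x1 < 24 := by omega
  have h66 : v * P.B.ck 6 6 * v⁻¹ = P.B.ck x1 y1 := by
    calc v * P.B.ck 6 6 * v⁻¹ = v * (P.B.ck 6 0 * P.B.ck 0 6) * v⁻¹ := by
          rw [P.B.ck_mul (by norm_num) (by norm_num) (by norm_num) (by norm_num),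
            show mt 6 0 = 6 by decide +kernel, show mt 0 6 = 6 by decide +kernel]
      _ = P.B.ck x1 0 * P.B.ck 0 y1 := by rw [← conj_mul, f3, f4]
      _ = _ := by
        rw [P.B.ck_mul hx24' (by norm_num) (by norm_num) hy24, (iv_spec hx24').2.2.2.2.1,
          (iv_spec hy24).2.2.2.1]
  rcases hab with rfl | rfl
  · rw [hD, h66, P.B.eq_iff hx24' hy24 (el_mul (by norm_num) (by norm_num)).2 (by norm_num)] at hvD
    rcases hx1 with rfl | rfl <;> rcases hy1 with rfl | rfl <;> revert hvD <;> decide +kernel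
  · rw [hD, ← P.wp_w6, ← hp, ← conj_mul, f1, h66,
      P.B.ck_mul (by norm_num) (by norm_num) hx24' hy24,
      P.B.eq_iff (el_mul (by norm_num) hx24').2 (el_mul (by norm_num) hy24).2
        (el_mul (by norm_num) (by norm_num)).2 (by norm_num)] at hvD
    rcases hx1 with rfl | rfl <;> rcases hy1 with rfl | rfl <;> revert hvD <;> decide +kernel

end Pair

end CfsgLib.U43
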