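import Cfsg.Agent.Lib.U43.Codes
import Cfsg.Agent.Lib.Comp.FStar
import Cfsg.Agent.Lib.Solvable.PCore
import Cfsg.Prelude.Def_Local
import Cfsg.Prelude.Def_Solvable

/-!
# The product of the two subgroups `SL(2, 3)` in the centraliser
-/

set_option autoImplicit false
set_option maxRecDepth 100000
set_option synthInstance.maxSize 2000

namespace CfsgLib.U43

open Subgroup SL23

/-- The map from two copies of `SL(2, 3)` onto the odd-generated part of the centraliser. -/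
structure KSetup {G : Type*} [Group G] (z : G) (Qm : Subgroup G) (φ : S3 × S3 →* G) : Prop where
  ker : ∀ x, φ x = 1 ↔ x = 1 ∨ x = (el 1, el 1)
  zeq : φ (el 1, 1) = z
  mem : ∀ x, φ x ∈ centralizer ({z} : Set G)
  normal : ∀ h ∈ centralizer ({z} : Set G), ∀ x, ∃ y, h * φ x * h⁻¹ = φ y
  qmem : ∀ g, g ∈ Qm ↔ ∃ u ∈ q8, ∃ v ∈ q8, φ (el u, el v) = g
  cent : ∀ g ∈ centralizer ({z} : Set G), (∀ x, g * φ x = φ x * g) → g ∈ Qm

theorem el_basic : el 0 = 1 ∧ el 1 ≠ 1 := by decide +kernel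

theorem invol_sl : ∀ i < 24, mT i i = 0 → i = 0 ∨ i = 1 := by decide +kernel

theorem central_sl : ∀ x : S3, x * el 1 = el 1 * x := by decide +kernel

theorem pow_sl : ∀ x : S3, x ^ 24 = 1 := by decide +kernel

theorem word_gens : ∀ x : S3, x ∈ Subgroup.closure ({el gS, el gT} : Set S3) := by
  intro x
  obtain ⟨i, hi, rfl⟩ := el_surj x
  have key : ∀ L : List Bool, ∀ p < 24, el p ∈ Subgroup.closure ({el gS, el gT} : Set S3) →
      L.foldl (fun p k => mT p (bif k then gT else gS)) p < 24 ∧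
        el (L.foldl (fun p k => mT p (bif k then gT else gS)) p) ∈ Subgroup.closure ({el gS, el gT} : Set S3) := by
    intro L
    induction L with
    | nil => exact fun p hp h => ⟨hp, h⟩
    | cons k L ih =>
      intro p hp h
      have hk : (bif k then gT else gS) < 24 := by cases k <;> decide +kernel
      obtain ⟨e, hlt⟩ := el_mul p hp _ hk
      refine ih _ hlt ?_
      rw [← e]
      exact mul_mem h (subset_closure (by cases k <;> simp))
  have h := key (words.getD i []) 0 (by norm_num) (el_basic.1 ▸ one_mem _)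
  rw [← (tab_facts i hi).2.2.2.2.2.2]
  exact h.2

theorem cube_gens : el gS ^ 3 = 1 ∧ el gT ^ 3 = 1 := by decide +kernel

/-- The product of the quaternion groups. -/
def qPairs : Subgroup (S3 × S3) where
  carrier := {x | ∃ u ∈ q8, ∃ v ∈ q8, (el u, el v) = x}
  one_mem' := ⟨0, by decide +kernel, 0, by decide +kernel, by simp [el_basic.1]⟩
  mul_mem' := by
    rintro _ _ ⟨u, hu, v, hv, rfl⟩ ⟨u', hu', v', hv', rfl⟩
    have h : ∀ a ∈ q8, ∀ b ∈ q8, mT a b ∈ q8 ∧ a < 24 := by decide +kernel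
    refine ⟨_, (h u hu u' hu').1, _, (h v hv v' hv').1, ?_⟩
    rw [Prod.mk_mul_mk, (el_mul u (h u hu u' hu').2 u' (h u' hu' u hu).2).1,
      (el_mul v (h v hv v' hv').2 v' (h v' hv' v hv).2).1]
  inv_mem' := by
    rintro _ ⟨u, hu, v, hv, rfl⟩
    have h : ∀ a ∈ q8, iT a ∈ q8 ∧ (el a)⁻¹ = el (iT a) := by decide +kernel
    exact ⟨_, (h u hu).1, _, (h v hv).1, by rw [Prod.inv_mk, (h u hu).2, (h v hv).2]⟩

theorem qPairs_normal : qPairs.Normal := by
  constructor
  rintro _ ⟨u, hu, v, hv, rfl⟩ ⟨a, b⟩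
  obtain ⟨i, hi, rfl⟩ := el_surj a
  obtain ⟨j, hj, rfl⟩ := el_surj b
  have h : ∀ i < 24, ∀ a ∈ q8, mT (mT i a) (iT i) ∈ q8 ∧ a < 24 ∧
      el i * el a * (el i)⁻¹ = el (mT (mT i a) (iT i)) := by decide +kernel
  exact ⟨_, (h i hi u hu).1, _, (h j hj v hv).1, by
    rw [Prod.inv_mk, Prod.mk_mul_mk, Prod.mk_mul_mk, (h i hi u hu).2.2, (h j hj v hv).2.2]⟩

theorem qPairs_pow {x : S3 × S3} (hx : x ∈ qPairs) : x ^ 4 = 1 := by
  obtain ⟨u, hu, v, hv, rfl⟩ := hx
  have h : ∀ a ∈ q8, el a ^ 4 = 1 := by decide +kernel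
  rw [Prod.pow_mk, h u hu, h v hv]; rfl

variable {G : Type*} [Group G] [Finite G] {z : G}

/-- The map exists under the hypotheses of the type. -/
theorem exists_kSetup (hz : orderOf z = 2) (H₁ H₂ : Subgroup (centralizer ({z} : Set G)))
    (hK : H₁ ⊔ H₂ = closure {x : centralizer ({z} : Set G) | Odd (orderOf x)})
    (hn₁ : (H₁.subgroupOf (H₁ ⊔ H₂)).Normal) (hn₂ : (H₂.subgroupOf (H₁ ⊔ H₂)).Normal)
    (e₁ : H₁ ≃* S3) (e₂ : H₂ ≃* S3)
    (hmeet : (H₁ ⊓ H₂).map (centralizer ({z} : Set G)).subtype = zpowers z)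
    (Q : Subgroup (centralizer ({z} : Set G)))
    (hQ : Q = (Cfsg.pCore 2 ↥(H₁ ⊔ H₂)).map (H₁ ⊔ H₂).subtype)
    (hF : Cfsg.generalizedFittingSubgroup (centralizer ({z} : Set G)) = Q) :
    ∃ φ, KSetup z (Q.map (centralizer ({z} : Set G)).subtype) φ := by
  let zC : (centralizer ({z} : Set G)) := ⟨z, mem_centralizer_singleton_iff.2 rfl⟩
  have hinter : ∀ x : (centralizer ({z} : Set G)), x ∈ H₁ → x ∈ H₂ → x = 1 ∨ x = zC := by
    intro x h1 h2
    obtain ⟨n, hn⟩ := mem_zpowers_iff.1 (hmeet ▸ mem_map_of_mem (centralizer ({z} : Set G)).subtype (mem_inf.2 ⟨h1, h2⟩) :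
      ((x : G) ∈ zpowers z))
    rw [← zpow_mod_orderOf, hz] at hn
    rcases Int.emod_two_eq_zero_or_one n with h | h <;> push_cast at hn <;> rw [h] at hn
    · left; exact Subtype.ext (by simpa using hn.symm)
    · right; exact Subtype.ext (by rw [zpow_one] at hn; exact hn.symm)
  have hzmem : zC ∈ H₁ ∧ zC ∈ H₂ := by
    have : z ∈ (H₁ ⊓ H₂).map (centralizer ({z} : Set G)).subtype := hmeet ▸ mem_zpowers z
    obtain ⟨w, hw, e⟩ := this
    obtain rfl : w = zC := Subtype.ext e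
    exact mem_inf.1 hw
  have hz2 : z * z = 1 := by
    have := pow_orderOf_eq_one z; rwa [hz, sq] at this
  have hzne : z ≠ 1 := fun e => by rw [e, orderOf_one] at hz; omega
  have hzc : ∀ x : (centralizer ({z} : Set G)), x * zC = zC * x := fun x => Subtype.ext (mem_centralizer_singleton_iff.1 x.2)
  -- the two factors commute
  have hcomm : ∀ x ∈ H₁, ∀ y ∈ H₂, x * y = y * x := by
    intro x hx y hy
    suffices h3 : ∀ y ∈ H₂, y ^ 3 = 1 → x * y = y * x by
      suffices hcl : ∀ a : S3, x * (e₂.symm a : (centralizer ({z} : Set G))) = (e₂.symm a : (centralizer ({z} : Set G))) * x by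
        simpa using hcl (e₂ ⟨y, hy⟩)
      intro a
      induction word_gens a using Subgroup.closure_induction with
      | mem b hb =>
        refine h3 _ (e₂.symm b).2 ?_
        rw [← SubmonoidClass.coe_pow, ← map_pow]
        rcases hb with rfl | rfl <;> simp [cube_gens]
      | one => simp
      | mul p q _ _ hp hq => rw [map_mul, Subgroup.coe_mul, ← mul_assoc, hp, mul_assoc, hq, mul_assoc]
      | inv p _ hp => rw [map_inv, Subgroup.coe_inv]; exact (Commute.inv_right hp).eq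
    intro y hy h3
    have hx' : x ∈ H₁ ⊔ H₂ := mem_sup_left hx
    have hy' : y ∈ H₁ ⊔ H₂ := mem_sup_right hy
    have m1 : x * y * x⁻¹ * y⁻¹ ∈ H₁ := by
      have := hn₁.conj_mem ⟨x⁻¹, inv_mem hx'⟩ (show x⁻¹ ∈ H₁ from inv_mem hx) ⟨y, hy'⟩
      have h' : y * x⁻¹ * y⁻¹ ∈ H₁ := this
      rw [show x * y * x⁻¹ * y⁻¹ = x * (y * x⁻¹ * y⁻¹) by group]
      exact mul_mem hx h'
    have m2 : x * y * x⁻¹ * y⁻¹ ∈ H₂ := by
      have := hn₂.conj_mem ⟨y, hy'⟩ hy ⟨x, hx'⟩
      exact mul_mem (show x * y * x⁻¹ ∈ H₂ from this) (inv_mem hy)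
    rcases hinter _ m1 m2 with h | h
    · exact mul_inv_eq_iff_eq_mul.1 (mul_inv_eq_one.1 h)
    · exfalso
      have hc : x * y * x⁻¹ = zC * y := mul_inv_eq_iff_eq_mul.1 h
      have h' : (zC * y) ^ 3 = 1 := by
        rw [← hc, ← MulAut.conj_apply, ← map_pow, h3, map_one]
      rw [(show Commute zC y from (hzc y).symm).mul_pow, h3, mul_one] at h'
      have h'' : z ^ 3 = 1 := congrArg Subtype.val h'
      rw [pow_succ, sq, hz2, one_mul] at h''
      exact hzne h''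
  let f₁ : S3 →* (centralizer ({z} : Set G)) := H₁.subtype.comp e₁.symm.toMonoidHom
  let f₂ : S3 →* (centralizer ({z} : Set G)) := H₂.subtype.comp e₂.symm.toMonoidHom
  let φC : S3 × S3 →* (centralizer ({z} : Set G)) := MonoidHom.noncommCoprod f₁ f₂ fun a b => hcomm _ (e₁.symm a).2 _ (e₂.symm b).2
  have hrange : φC.range = H₁ ⊔ H₂ := by
    refine le_antisymm ?_ (sup_le ?_ ?_)
    · rintro _ ⟨⟨a, b⟩, rfl⟩
      exact mul_mem (mem_sup_left (e₁.symm a).2) (mem_sup_right (e₂.symm b).2)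
    · intro x hx
      exact ⟨(e₁ ⟨x, hx⟩, 1), by simp [φC, f₁, f₂]⟩
    · intro x hx
      exact ⟨(1, e₂ ⟨x, hx⟩), by simp [φC, f₁, f₂]⟩
  have hneg : ∀ (H : Subgroup (centralizer ({z} : Set G))) (e : H ≃* S3) (h : zC ∈ H), e ⟨zC, h⟩ = el 1 := by
    intro H e h
    obtain ⟨i, hi, hei⟩ := el_surj (e ⟨zC, h⟩)
    have hsq : el i * el i = 1 := by
      rw [hei, ← map_mul, show (⟨zC, h⟩ : H) * ⟨zC, h⟩ = 1 from Subtype.ext (Subtype.ext hz2), map_one]
    obtain ⟨hm, hlt⟩ := el_mul i hi i hi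
    rcases invol_sl i hi (el_inj _ hlt 0 (by norm_num) (by rw [← hm, hsq, el_basic.1])) with rfl | rfl
    · exfalso
      rw [el_basic.1, eq_comm, map_eq_one_iff e e.injective] at hei
      exact hzne (congrArg (fun a : H => ((a : (centralizer ({z} : Set G))) : G)) hei)
    · exact hei.symm
  have hf₁ : f₁ (el 1) = zC := by
    rw [← hneg H₁ e₁ hzmem.1]; simp [f₁]
  have hf₂ : f₂ (el 1) = zC := by
    rw [← hneg H₂ e₂ hzmem.2]; simp [f₂]
  have hker : ∀ x, φC x = 1 ↔ x = 1 ∨ x = (el 1, el 1) := by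
    rintro ⟨a, b⟩
    constructor
    · intro h
      have he : f₁ a = (f₂ b)⁻¹ := eq_inv_of_mul_eq_one_left h
      have ha : f₁ a ∈ H₁ := (e₁.symm a).2
      have hb : f₁ a ∈ H₂ := he ▸ inv_mem (e₂.symm b).2
      have inj₁ : Function.Injective f₁ := Subtype.val_injective.comp e₁.symm.injective
      have inj₂ : Function.Injective f₂ := Subtype.val_injective.comp e₂.symm.injective
      rcases hinter _ ha hb with h1 | h1
      · left
        rw [h1, eq_comm, inv_eq_one] at he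
        rw [inj₁ (h1.trans (map_one f₁).symm), inj₂ (he.trans (map_one f₂).symm)]; rfl
      · right
        rw [h1, eq_comm, inv_eq_iff_eq_inv, show zC⁻¹ = zC from
          inv_eq_of_mul_eq_one_right (Subtype.ext hz2)] at he
        rw [inj₁ (h1.trans hf₁.symm), inj₂ (he.trans hf₂.symm)]
    · rintro (h | h)
      · rw [h, map_one]
      · rw [h]
        show f₁ (el 1) * f₂ (el 1) = 1
        rw [hf₁, hf₂]; exact Subtype.ext hz2
  have hKn : (H₁ ⊔ H₂).Normal := by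
    rw [hK]
    refine ⟨fun x hx g => ?_⟩
    have : (closure {x : (centralizer ({z} : Set G)) | Odd (orderOf x)}).map (MulAut.conj g).toMonoidHom ≤
        closure {x : (centralizer ({z} : Set G)) | Odd (orderOf x)} := by
      rw [MonoidHom.map_closure]
      refine closure_mono ?_
      rintro _ ⟨y, hy, rfl⟩
      show Odd (orderOf (MulAut.conj g y))
      rw [MulEquiv.orderOf_eq]
      exact hy
    exact this ⟨x, hx, rfl⟩
  have hQmem : ∀ x : (centralizer ({z} : Set G)), x ∈ Q ↔ ∃ p ∈ qPairs, φC p = x := by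
    intro x
    constructor
    · intro hx
      rw [hQ] at hx
      obtain ⟨y, hy, rfl⟩ := hx
      obtain ⟨⟨a, b⟩, hab⟩ : (y : (centralizer ({z} : Set G))) ∈ φC.range := hrange.symm ▸ y.2
      obtain ⟨i, hi, rfl⟩ := el_surj a
      obtain ⟨j, hj, rfl⟩ := el_surj b
      obtain ⟨n, hn⟩ := CfsgLib.Solvable.pCore_isPGroup 2 (G := ↥(H₁ ⊔ H₂)) ⟨y, hy⟩
      have h1 : φC (el i, el j) ^ 2 ^ n = 1 := by
        rw [hab]; exact congrArg (fun w : Cfsg.pCore 2 ↥(H₁ ⊔ H₂) => ((w : ↥(H₁ ⊔ H₂)) : (centralizer ({z} : Set G)))) hn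
      have h24 : φC (el i, el j) ^ 24 = 1 := by
        rw [← map_pow, Prod.pow_mk, pow_sl, pow_sl]; exact map_one φC
      have h8 : φC (el i, el j) ^ 8 = 1 := by
        refine orderOf_dvd_iff_pow_eq_one.1 ?_
        exact (Nat.Coprime.coprime_dvd_left (orderOf_dvd_of_pow_eq_one h1)
          (Nat.Coprime.pow_left n (by norm_num : Nat.Coprime 2 3))).dvd_of_dvd_mul_right
          (show orderOf _ ∣ 8 * 3 from orderOf_dvd_of_pow_eq_one h24)
      rw [← map_pow, hker, Prod.pow_mk] at h8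
      have key : ∀ i < 24, ∀ j < 24, ((el i ^ 8, el j ^ 8) = (1 : S3 × S3) ∨
          (el i ^ 8, el j ^ 8) = (el 1, el 1)) → i ∈ q8 ∧ j ∈ q8 := by decide +kernel
      exact ⟨_, ⟨i, (key i hi j hj h8).1, j, (key i hi j hj h8).2, rfl⟩, hab⟩
    · rintro ⟨p, hp, rfl⟩
      rw [hQ]
      let φK : S3 × S3 →* ↥(H₁ ⊔ H₂) := φC.codRestrict _ fun p => hrange ▸ ⟨p, rfl⟩
      have hs : Function.Surjective φK := fun y => by
        obtain ⟨q, hq⟩ : (y : (centralizer ({z} : Set G))) ∈ φC.range := hrange.symm ▸ y.2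
        exact ⟨q, Subtype.ext hq⟩
      have hN : (qPairs.map φK).Normal := qPairs_normal.map φK hs
      have hP : IsPGroup 2 (qPairs.map φK) := by
        rintro ⟨_, q, hq, rfl⟩
        exact ⟨2, Subtype.ext (by
          show φK q ^ 2 ^ 2 = 1
          rw [← map_pow, show 2 ^ 2 = 4 by norm_num, qPairs_pow hq, map_one])⟩
      exact ⟨φK p, CfsgLib.Solvable.le_pCore hN hP ⟨p, hp, rfl⟩, rfl⟩
  refine ⟨(centralizer ({z} : Set G)).subtype.comp φC, ?_, ?_, fun x => (φC x).2, ?_, ?_, ?_⟩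
  · intro x
    rw [← hker x]
    exact ⟨fun h => Subtype.ext h, fun h => congrArg Subtype.val h⟩
  · show ((φC (el 1, 1) : (centralizer ({z} : Set G))) : G) = z
    show ((f₁ (el 1) * f₂ 1 : (centralizer ({z} : Set G))) : G) = z
    rw [hf₁, map_one, mul_one]
  · intro h hh x
    obtain ⟨y, hy⟩ : (⟨h, hh⟩ : (centralizer ({z} : Set G))) * φC x * (⟨h, hh⟩ : (centralizer ({z} : Set G)))⁻¹ ∈ φC.range :=
      hrange.symm ▸ hKn.conj_mem _ (hrange ▸ ⟨x, rfl⟩) _
    exact ⟨y, (congrArg Subtype.val hy).symm⟩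
  · intro g
    constructor
    · rintro ⟨x, hx, rfl⟩
      obtain ⟨_, ⟨u, hu, v, hv, rfl⟩, e⟩ := (hQmem x).1 hx
      exact ⟨u, hu, v, hv, congrArg Subtype.val e⟩
    · rintro ⟨u, hu, v, hv, rfl⟩
      exact ⟨_, (hQmem _).2 ⟨_, ⟨u, hu, v, hv, rfl⟩, rfl⟩, rfl⟩
  · intro g hg h
    refine ⟨⟨g, hg⟩, hF ▸ CfsgLib.Comp.centralizer_generalizedFitting_le (centralizer ({z} : Set G)) ?_, rfl⟩
    refine mem_centralizer_iff.2 fun y hy => Subtype.ext ?_
    rw [hF] at hy
    obtain ⟨p, -, rfl⟩ := (hQmem y).1 hy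
    exact (h p).symm

end CfsgLib.U43
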