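import Cfsg.Agent.Lib.U43.LocalData

/-!
# Finite checks in the table of the centraliser
-/

set_option autoImplicit false
set_option maxRecDepth 100000
set_option Elab.async false

namespace CfsgLib.U43.Local

open CfsgLib.InvChar.Coset

/-- Membership of a value in a list of words. -/
noncomputable def hasVal (v : ℕ) (L : List (List ℕ)) : Bool := L.any fun q => Nat.beq (hvA q) v

/-- Commutation of two words with the value of their products. -/
noncomputable def comm (v w : List ℕ) : Bool := Nat.beq (hvA (v ++ w)) (hvA (w ++ v))

/-- Membership in the list of actions. -/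
noncomputable def hasAct (p : List ℕ) (L : List (List ℕ)) : Bool := L.any fun q => leq p q

theorem q_closed : (qElts.all fun a => qWords.all fun b => hasVal (hvA (a ++ b)) qElts) = true := by
  decide +kernel

theorem q_basic : hasVal (hvA []) qElts = true ∧ (qWords.all fun b => hasVal (hvA b) qElts) = true ∧
    hasVal (hvA tW) qElts = true := by
  decide +kernel

theorem q_mem : (qElts.all fun a => a.all fun x => decide (x ∈ lettersH)) = true := by
  decide +kernel

theorem q_fusion : (qElts.all fun a => Nat.beq (hvA a) (hvA []) || Nat.beq (hvA a) (hvA [0]) ||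
    !Nat.beq (hvA (a ++ a)) (hvA []) || (List.range 1152).any fun i =>
      Nat.beq (hvA (wdA i ++ tW ++ (wdA i).reverse)) (hvA a)) = true := by
  decide +kernel

theorem square_mem_q : ((List.range 1152).all fun i =>
    !Nat.beq (hvA (wdA i ++ wdA i ++ wdA i ++ wdA i)) (hvA []) || hasVal (hvA (wdA i ++ wdA i)) qElts) = true := by
  decide +kernel

theorem four_facts : comm fourW tW = true ∧ hvA (fourW ++ fourW) = hvA [0] ∧
    comm fourW [0] = true := by
  decide +kernel

theorem t_facts : hvA (tW ++ tW) = hvA [] ∧ hvA tW ≠ hvA [0] ∧ hvA tW ≠ hvA [] ∧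
    hvA (sigmaW ++ tW ++ sigmaW.reverse) = hvA ([0] ++ tW) ∧ hvA [0] ≠ hvA [] := by
  decide +kernel

theorem ew_mem : ((List.range 16).all fun k => ((ew k).all fun x => decide (x ∈ [0, 1, 2, 3, 4])) &&
    (ew2 k).all fun x => decide (x ∈ [0, 1, 2, 3, 4])) = true := by
  decide +kernel

theorem ew_special : hvA (ew 0) = hvA [] ∧ hvA (ew 1) = hvA [0] ∧ hvA (ew 2) = hvA tW ∧
    hvA (ew2 0) = hvA [] ∧ hvA (ew2 1) = hvA [0] ∧ hvA (ew2 2) = hvA tW := by
  decide +kernel

theorem ew_mul : ((List.range 16).all fun i => (List.range 16).all fun j =>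
    Nat.beq (hvA (ew i ++ ew j)) (hvA (ew (i ^^^ j))) &&
      Nat.beq (hvA (ew2 i ++ ew2 j)) (hvA (ew2 (i ^^^ j)))) = true := by
  decide +kernel

theorem ew_inj : ((List.range 16).all fun i => (List.range 16).all fun j =>
    (Nat.beq i j || !Nat.beq (hvA (ew i)) (hvA (ew j))) &&
      (Nat.beq i j || !Nat.beq (hvA (ew2 i)) (hvA (ew2 j)))) = true := by
  decide +kernel

/-- Whether an element lies in `C(z) ∩ C(t)`, is of order two, and avoids `⟨z, t⟩`. -/
noncomputable def smallInv (i : ℕ) : Bool :=
  comm (wdA i) tW && Nat.beq (hvA (wdA i ++ wdA i)) (hvA []) &&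
    !hasVal i [[], [0], tW, [0] ++ tW]

theorem pairs_elem : ((List.range 1152).all fun i => !smallInv i || (List.range 1152).all fun j =>
    !smallInv j || !comm (wdA i) (wdA j) ||
      hasVal (hvA (wdA i ++ wdA j)) [[], [0], tW, [0] ++ tW] ||
      (hasVal i ewL && hasVal j ewL) || (hasVal i ew2L && hasVal j ew2L)) = true := by
  decide +kernel

theorem act_T : ((List.range 1152).all fun i => !comm (wdA i) tW || hasAct (actOf (wdA i)) aT) = true := by
  decide +kernel

theorem aT_real : (aT.all fun h => (List.range 1152).any fun i =>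
    comm (wdA i) tW && leq (actOf (wdA i)) h) = true := by
  decide +kernel

theorem act_N : ((List.range 1152).all fun i =>
    !((actOf (wdA i)).all fun j => Nat.blt j 16) || hasAct (actOf (wdA i)) aN) = true := by
  decide +kernel

theorem cent_E : ((List.range 1152).all fun i =>
    !(comm (wdA i) (ew 1) && comm (wdA i) (ew 2) && comm (wdA i) (ew 4) && comm (wdA i) (ew 8)) ||
      hasVal i ewL) = true := by
  decide +kernel

theorem letters_act : ((List.range 5).all fun x => (List.range 16).all fun k =>
    Nat.beq (hvA ([x] ++ ew k ++ [x])) (hvA (ew (ap (aL.getD x []) k))) &&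
      Nat.blt (ap (aL.getD x []) k) 16) = true := by
  decide +kernel

theorem aI_mem : (aI.all fun k => Nat.blt k 16 && hasVal (hvA (ew k)) qElts) = true ∧ aI.Nodup ∧
    aI.length = 8 := by
  decide +kernel

theorem aI_rest : ((List.range 16).all fun k =>
    decide (k ∈ aI) || !hasVal (hvA (ew k)) qElts) = true := by
  decide +kernel

/-- Whether an action can be that of the element carrying `z` to `t`. -/
noncomputable def valid (a b : ℕ) : Bool :=
  ((List.range 16).all fun i => (List.range 16).all fun j =>
      Nat.beq i j || !Nat.beq (ap (lin a b) i) (ap (lin a b) j)) &&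
    (aT.all fun h => aT.any fun h' => (List.range 16).all fun k =>
      Nat.beq (ap (lin a b) (ap h k)) (ap h' (ap (lin a b) k))) &&
    aI.any fun k => !decide (ap (lin a b) k ∈ aI)

/-- Whether a word settles a possible action. -/
noncomputable def settles (a b : ℕ) (L : List ℕ) : Bool :=
  L.all (fun x => Nat.blt x 6) &&
    ((List.range 16).all (fun k => Nat.beq (actW (lin a b) L k) (ap (aL.getD 5 []) k)) ||
      (Nat.beq (actW (lin a b) L 1) 1 && !hasAct ((List.range 16).map (actW (lin a b) L)) aN))

theorem certs_ok : ((List.range 16).all fun a => (List.range 16).all fun b =>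
    !valid a b || certs.any fun c => Nat.beq c.1 a && Nat.beq c.2.1 b && settles a b c.2.2) = true := by
  decide +kernel

theorem lin_lt : ((List.range 16).all fun a => (List.range 16).all fun b => (List.range 16).all fun k =>
    Nat.blt (ap (lin a b) k) 16) = true := by
  decide +kernel

theorem aX_five : ((List.range 16).all fun k => Nat.blt (ap (aL.getD 5 []) k) 16) = true := by
  decide +kernel

end CfsgLib.U43.Local
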