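import Cfsg.Agent.Lib.U43.HTable

/-!
# Data for the local analysis of a group of unitary type `U₄(3)`

`ew k` spells the element of the elementary abelian subgroup `E` of order 16 with coordinates the bits of
`k` in a basis starting with `z` and `t = [1, 2, 1, 2]`; `aL` lists the actions of the letters on these
sixteen elements, `aT` those of `C(z) ∩ C(t)`, `aN` those of the normaliser of `E` in the centraliser.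
-/

set_option autoImplicit false
set_option maxRecDepth 100000

namespace CfsgLib.U43.Local

open CfsgLib.InvChar.Coset

/-- The word of the second involution. -/
def tW : List ℕ := [1, 2, 1, 2]

/-- The elements of `Q`. -/
def qElts : List (List ℕ) := [
  [], [2, 4], [0, 2, 4], [1, 2, 1, 2], [3, 2, 4, 3], [1, 3, 2, 1, 2, 3], [2, 4, 0, 2, 4],
  [2, 4, 1, 2, 1, 2], [2, 4, 3, 2, 4, 3], [2, 4, 1, 3, 2, 1, 2, 3], [0, 2, 4, 1, 2, 1, 2],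
  [0, 2, 4, 3, 2, 4, 3], [0, 2, 4, 1, 3, 2, 1, 2, 3], [1, 2, 1, 2, 3, 2, 4, 3],
  [1, 2, 1, 2, 1, 3, 2, 1, 2, 3], [3, 2, 4, 3, 1, 2, 1, 2], [3, 2, 4, 3, 1, 3, 2, 1, 2, 3],
  [2, 4, 0, 2, 4, 1, 2, 1, 2], [2, 4, 0, 2, 4, 3, 2, 4, 3], [2, 4, 0, 2, 4, 1, 3, 2, 1, 2, 3],
  [2, 4, 1, 2, 1, 2, 3, 2, 4, 3], [2, 4, 1, 2, 1, 2, 1, 3, 2, 1, 2, 3], [2, 4, 3, 2, 4, 3, 1, 2, 1, 2],
  [2, 4, 3, 2, 4, 3, 1, 3, 2, 1, 2, 3], [0, 2, 4, 1, 2, 1, 2, 1, 3, 2, 1, 2, 3],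
  [0, 2, 4, 3, 2, 4, 3, 1, 3, 2, 1, 2, 3], [1, 2, 1, 2, 3, 2, 4, 3, 1, 3, 2, 1, 2, 3],
  [3, 2, 4, 3, 1, 2, 1, 2, 1, 3, 2, 1, 2, 3], [2, 4, 0, 2, 4, 1, 2, 1, 2, 1, 3, 2, 1, 2, 3],
  [2, 4, 0, 2, 4, 3, 2, 4, 3, 1, 3, 2, 1, 2, 3], [2, 4, 1, 2, 1, 2, 3, 2, 4, 3, 1, 3, 2, 1, 2, 3],
  [2, 4, 3, 2, 4, 3, 1, 2, 1, 2, 1, 3, 2, 1, 2, 3]]

/-- The elements of `E`. -/
def ewL : List (List ℕ) := [
  [], [0], [1, 2, 1, 2], [0, 1, 2, 1, 2], [1], [0, 1], [1, 2, 1, 2, 1], [0, 1, 2, 1, 2, 1],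
  [3, 2, 1, 2, 3], [0, 3, 2, 1, 2, 3], [1, 2, 1, 2, 3, 2, 1, 2, 3], [0, 1, 2, 1, 2, 3, 2, 1, 2, 3],
  [1, 3, 2, 1, 2, 3], [0, 1, 3, 2, 1, 2, 3], [1, 2, 1, 2, 1, 3, 2, 1, 2, 3],
  [0, 1, 2, 1, 2, 1, 3, 2, 1, 2, 3]]

/-- The elements of the other elementary subgroup of order 16 of `C(z) ∩ C(t)`. -/
def ew2L : List (List ℕ) := [
  [], [0], [1, 2, 1, 2], [0, 1, 2, 1, 2], [2], [0, 2], [1, 2, 1, 2, 2], [0, 1, 2, 1, 2, 2], [4], [0, 4],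
  [1, 2, 1, 2, 4], [0, 1, 2, 1, 2, 4], [2, 4], [0, 2, 4], [1, 2, 1, 2, 2, 4], [0, 1, 2, 1, 2, 2, 4]]

/-- The element of `E` with given coordinates. -/
def ew (k : ℕ) : List ℕ := ewL.getD k []

/-- The element of the other subgroup with given coordinates. -/
def ew2 (k : ℕ) : List ℕ := ew2L.getD k []

/-- An element conjugating `t` to `t * z`. -/
def sigmaW : List ℕ := [3, 2, 4, 3]

/-- An element of order four commuting with `t`, with square `z`. -/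
def fourW : List ℕ := [1, 4]

/-- The coordinates of `E ∩ Q`. -/
def aI : List ℕ := [0, 1, 2, 3, 12, 13, 14, 15]

/-- The actions of the letters. -/
def aL : List (List ℕ) := [
  [0, 1, 2, 3, 4, 5, 6, 7, 8, 9, 10, 11, 12, 13, 14, 15],
  [0, 1, 2, 3, 4, 5, 6, 7, 8, 9, 10, 11, 12, 13, 14, 15],
  [0, 1, 2, 3, 6, 7, 4, 5, 9, 8, 11, 10, 15, 14, 13, 12],
  [0, 1, 13, 12, 5, 4, 8, 9, 6, 7, 11, 10, 3, 2, 14, 15],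
  [0, 1, 2, 3, 5, 4, 7, 6, 11, 10, 9, 8, 14, 15, 12, 13],
  [0, 11, 8, 3, 13, 6, 5, 14, 2, 9, 10, 1, 15, 4, 7, 12]]

/-- The actions of `C(z) ∩ C(t)`. -/
def aT : List (List ℕ) := [
  [0, 1, 2, 3, 4, 5, 6, 7, 8, 9, 10, 11, 12, 13, 14, 15],
  [0, 1, 2, 3, 5, 4, 7, 6, 11, 10, 9, 8, 14, 15, 12, 13],
  [0, 1, 2, 3, 6, 7, 4, 5, 9, 8, 11, 10, 15, 14, 13, 12],
  [0, 1, 2, 3, 7, 6, 5, 4, 10, 11, 8, 9, 13, 12, 15, 14]]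

/-- The actions of the normaliser of `E` in the centraliser. -/
def aN : List (List ℕ) := [
  [0, 1, 2, 3, 4, 5, 6, 7, 8, 9, 10, 11, 12, 13, 14, 15],
  [0, 1, 2, 3, 5, 4, 7, 6, 11, 10, 9, 8, 14, 15, 12, 13],
  [0, 1, 2, 3, 6, 7, 4, 5, 9, 8, 11, 10, 15, 14, 13, 12],
  [0, 1, 2, 3, 7, 6, 5, 4, 10, 11, 8, 9, 13, 12, 15, 14],
  [0, 1, 3, 2, 8, 9, 11, 10, 4, 5, 7, 6, 12, 13, 15, 14],
  [0, 1, 3, 2, 9, 8, 10, 11, 6, 7, 5, 4, 15, 14, 12, 13],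
  [0, 1, 3, 2, 10, 11, 9, 8, 7, 6, 4, 5, 13, 12, 14, 15],
  [0, 1, 3, 2, 11, 10, 8, 9, 5, 4, 6, 7, 14, 15, 13, 12],
  [0, 1, 12, 13, 6, 7, 10, 11, 5, 4, 9, 8, 3, 2, 15, 14],
  [0, 1, 12, 13, 7, 6, 11, 10, 8, 9, 4, 5, 15, 14, 3, 2],
  [0, 1, 12, 13, 10, 11, 6, 7, 4, 5, 8, 9, 14, 15, 2, 3],
  [0, 1, 12, 13, 11, 10, 7, 6, 9, 8, 5, 4, 2, 3, 14, 15],
  [0, 1, 13, 12, 4, 5, 9, 8, 10, 11, 7, 6, 14, 15, 3, 2],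
  [0, 1, 13, 12, 5, 4, 8, 9, 6, 7, 11, 10, 3, 2, 14, 15],
  [0, 1, 13, 12, 8, 9, 5, 4, 7, 6, 10, 11, 15, 14, 2, 3],
  [0, 1, 13, 12, 9, 8, 4, 5, 11, 10, 6, 7, 2, 3, 15, 14],
  [0, 1, 14, 15, 6, 7, 8, 9, 11, 10, 5, 4, 13, 12, 3, 2],
  [0, 1, 14, 15, 7, 6, 9, 8, 4, 5, 10, 11, 3, 2, 13, 12],
  [0, 1, 14, 15, 8, 9, 6, 7, 10, 11, 4, 5, 2, 3, 12, 13],
  [0, 1, 14, 15, 9, 8, 7, 6, 5, 4, 11, 10, 12, 13, 2, 3],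
  [0, 1, 15, 14, 4, 5, 11, 10, 7, 6, 8, 9, 3, 2, 12, 13],
  [0, 1, 15, 14, 5, 4, 10, 11, 9, 8, 6, 7, 12, 13, 3, 2],
  [0, 1, 15, 14, 10, 11, 5, 4, 8, 9, 7, 6, 2, 3, 13, 12],
  [0, 1, 15, 14, 11, 10, 4, 5, 6, 7, 9, 8, 13, 12, 2, 3]]

/-- For each possible action of an element carrying `z` to `t` (given by two images), a word either
giving the action of the last letter or escaping from the stabiliser of `z`. -/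
def certs : List (ℕ × ℕ × List ℕ) := [
  (8, 12, [5, 5, 3, 5]),
  (8, 13, [5, 5, 5]),
  (8, 14, [5, 5, 5]),
  (8, 15, [5, 5, 5]),
  (9, 12, [5, 5, 5]),
  (9, 13, [5, 5, 5]),
  (9, 14, [5, 5, 5]),
  (9, 15, [5, 4, 5, 3, 2, 5]),
  (10, 12, [5, 5, 5]),
  (10, 13, [4, 5, 5, 3, 5, 4]),
  (10, 14, [5, 5, 5]),
  (10, 15, [5, 5, 5]),
  (11, 12, [5, 5, 5]),
  (11, 13, [5, 5, 5]),
  (11, 14, [2, 5, 5, 3, 4, 5]),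
  (11, 15, [5, 5, 5]),
  (12, 4, [5, 3, 2, 5, 3, 5, 3, 5, 5]),
  (12, 5, [5, 3, 2, 4, 3, 5]),
  (12, 6, [5, 3, 2, 5, 3, 5, 3, 5]),
  (12, 7, [5, 3, 2, 4, 3, 5]),
  (13, 4, [5, 3, 2, 4, 3, 5]),
  (13, 5, [5, 3, 5, 3, 4, 5, 3, 5]),
  (13, 6, [5, 3, 2, 4, 3, 5]),
  (13, 7, [5, 3, 4, 5, 3, 5, 3, 5]),
  (14, 4, [5, 3, 2, 4, 3, 5]),
  (14, 5, [5, 3, 2, 5, 3, 5, 3, 5]),
  (14, 6, [5, 3, 2, 4, 3, 5]),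
  (14, 7, [5, 3, 2, 5, 3, 5, 3, 5, 5]),
  (15, 4, [5, 3, 4, 5, 3, 5, 3, 5]),
  (15, 5, [5, 3, 2, 4, 3, 5]),
  (15, 6, [5, 3, 5, 3, 4, 5, 3, 5]),
  (15, 7, [5, 3, 2, 4, 3, 5])]

/-- Apply a list as a map. -/
def ap (p : List ℕ) (k : ℕ) : ℕ := p.getD k 16

/-- The actions of the six letters, the last one replaced by a given one. -/
def aX (p : List ℕ) (x : ℕ) : List ℕ := if x = 5 then p else aL.getD x []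

/-- The action of a word. -/
def actW (p : List ℕ) (L : List ℕ) (k : ℕ) : ℕ := L.foldr (fun x j => ap (aX p x) j) k

/-- The linear map with given images of the last two basis elements. -/
def lin (a b : ℕ) : List ℕ :=
  (List.range 16).map fun k =>
    ((if k % 2 = 1 then 2 else 0) ^^^ (if k / 2 % 2 = 1 then 3 else 0)) ^^^
      ((if k / 4 % 2 = 1 then a else 0) ^^^ (if k / 8 = 1 then b else 0))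

/-- The action of an element of the centraliser. -/
noncomputable def actOf (w : List ℕ) : List ℕ :=
  (List.range 16).map fun k =>
    ((List.range 16).find? fun j => Nat.beq (hvA (ew j)) (hvA (w ++ ew k ++ w.reverse))).getD 16

/-- The relators deciding the extension. -/
def relsExt : List (List ℕ) := [
  [1, 0, 1, 0], [2, 0, 2, 0], [4, 2, 4, 2], [3, 0, 3, 0], [0, 1, 4, 1, 4], [0, 1, 3, 1, 3],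
  [1, 2, 0, 2, 1, 0], [2, 4, 0, 4, 2, 0], [3, 2, 3, 2, 3, 2], [3, 4, 1, 4, 3, 1], [2, 3, 0, 3, 2, 0],
  [4, 3, 4, 3, 4, 3], [3, 4, 0, 4, 3, 0], [0, 2, 1, 4, 1, 4, 2], [0, 3, 4, 1, 4, 1, 3],
  [0, 4, 3, 1, 3, 1, 4], [0, 2, 1, 3, 1, 3, 2], [1, 2, 4, 0, 2, 1, 4], [0, 1, 2, 4, 2, 1, 4],
  [1, 2, 3, 0, 3, 2, 1, 0], [2, 1, 2, 0, 2, 1, 2, 0], [3, 2, 4, 0, 4, 2, 3, 0],
  [4, 1, 2, 1, 4, 1, 2, 1], [2, 1, 2, 1, 2, 1, 2, 1], [2, 3, 2, 0, 2, 3, 2, 0],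
  [1, 2, 1, 0, 1, 2, 1, 0], [2, 3, 4, 0, 4, 3, 2, 0], [4, 3, 2, 4, 2, 3, 4, 3],
  [4, 3, 2, 3, 2, 3, 4, 2], [4, 1, 3, 4, 3, 4, 1, 3], [3, 4, 3, 0, 3, 4, 3, 0],
  [2, 4, 3, 0, 3, 4, 2, 0], [2, 1, 2, 3, 2, 1, 2, 4, 3, 2, 1, 2, 3, 4, 3, 1],
  [5, 0, 5, 4, 3, 2, 1, 2, 3, 4], [5, 1, 5, 3, 2, 1, 2, 1, 3], [5, 2, 1, 2, 5, 1, 0],
  [5, 3, 2, 1, 2, 3, 5, 2, 1, 2, 1], [3, 5, 2, 3, 5, 2], [5, 2, 5, 2, 5, 2], [3, 5, 3, 5, 3, 5],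
  [3, 4, 5, 3, 4, 5, 3, 4, 5, 3, 4, 5, 3, 4, 5], [5, 4, 5, 4, 5, 4, 5, 4]]

end CfsgLib.U43.Local
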