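import Cfsg.Agent.Lib.U43.LocalNorm
import Cfsg.Agent.Lib.U43.CertExt

/-!
# The relators of the extension follow from those of the normaliser

In a group with the centraliser frame, six letters satisfying `relsM` also satisfy the relators of the
table `CertExt`, so equal values in that table give equal products.
-/

set_option autoImplicit false
set_option maxRecDepth 100000
set_option Elab.async false

namespace CfsgLib.U43.Local

open Subgroup CfsgLib.InvChar.Coset

/-- The four relators of the table not found among `relsH`, `relsM` and their reverses. -/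
def extraRels : List (List ℕ) := [
  [5, 0, 5, 4, 3, 2, 1, 2, 3, 4], [5, 1, 5, 3, 2, 1, 2, 1, 3], [5, 3, 2, 1, 2, 3, 5, 2, 1, 2, 1],
  [3, 4, 5, 3, 4, 5, 3, 4, 5, 3, 4, 5, 3, 4, 5]]

theorem ext_rels_split : ∀ r ∈ CertExt.cert.rels,
    r ∈ relsH ∨ r ∈ relsM ∨ r.reverse ∈ relsM ∨ r ∈ extraRels ∨
      r ∈ [] :: (List.range 6).map fun x => [x, x] := by
  decide +kernel

theorem lin_five : ∀ i < 16, ∀ j < 16,
    ap (aL.getD 5 []) (i ^^^ j) = ap (aL.getD 5 []) i ^^^ ap (aL.getD 5 []) j := by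
  decide +kernel

theorem pent_act : (∀ k < 16, actW (aL.getD 5 []) [3, 4, 5, 3, 4, 5, 3, 4, 5, 3, 4, 5, 3, 4, 5] k = k) ∧
    ∀ k < 16, actW (aL.getD 5 []) [3, 4, 5] k = k → k = 0 := by
  decide +kernel

theorem ew_vals : hvA (ew 5) = hvA [1, 0] ∧ hvA (ew 6) = hvA [2, 1, 2] ∧
    hvA (ew 13) = hvA [3, 2, 1, 2, 1, 3] ∧ hvA (ew 11) = hvA [4, 3, 2, 1, 2, 3, 4] ∧
    hvA (ew 8) = hvA [3, 2, 1, 2, 3] ∧ hvA (ew 2) = hvA [1, 2, 1, 2] ∧ hvA (ew 4) = hvA [1] := by
  decide +kernel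

theorem upd_self {G : Type*} (f : ℕ → G) [Group G] : upd f (f 5) = f := by
  funext x
  unfold upd
  split
  · rename_i h; rw [h]
  · rfl

theorem wprod_single {G : Type*} [Group G] (f : ℕ → G) (x : ℕ) : wprod f [x] = f x := by
  simp [wprod]

variable {G : Type*} [Group G] [Finite G] {z : G} {f : ℕ → G} (Φ : HFrame z f)
include Φ

omit [Finite G] in
theorem eq_of_rel {A B : List ℕ} (h : wprod f (A ++ B) = 1) : wprod f A = wprod f B.reverse := by
  rw [wprod_reverse f Φ.sq, ← mul_eq_one_iff_eq_inv, ← wprod_append, h]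

omit [Finite G] in
theorem rel_of_eq {A B : List ℕ} (h : wprod f A = wprod f B.reverse) : wprod f (A ++ B) = 1 := by
  rw [wprod_append, h, wprod_reverse f Φ.sq, inv_mul_cancel]

omit [Finite G] in
theorem rotate_rel {A B : List ℕ} (h : wprod f (A ++ B) = 1) : wprod f (B ++ A) = 1 := by
  rw [wprod_append] at h ⊢
  rw [mul_eq_one_iff_eq_inv'.1 h, inv_mul_cancel]

variable (hM : ∀ r ∈ relsM, wprod f r = 1)
include hM

/-- The last letter acts on `E` as it should. -/
theorem acts_five : Acts f (f 5) (aL.getD 5 []) := by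
  obtain ⟨e5, e6, e13, -, -, -, e4⟩ := ew_vals
  have v : ∀ k, e f k = wprod f (ew k) := fun _ => rfl
  have sq5 : (f 5)⁻¹ = f 5 := inv_eq_of_mul_eq_one_right (Φ.sq 5)
  have conj5 : ∀ L : List ℕ, f 5 * wprod f L * (f 5)⁻¹ = wprod f ([5] ++ L ++ [5]) := fun L => by
    rw [wprod_append, wprod_append, wprod_single, sq5]
  let S : Set ℕ := {k | k < 16 ∧ ap (aL.getD 5 []) k < 16 ∧
    f 5 * e f k * (f 5)⁻¹ = e f (ap (aL.getD 5 []) k)}
  have hS : ∀ i ∈ S, ∀ j ∈ S, i ^^^ j ∈ S := by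
    rintro i ⟨hi, hi', hie⟩ j ⟨hj, hj', hje⟩
    rw [Set.mem_setOf_eq, lin_five i hi j hj]
    refine ⟨xor_lt hi hj, xor_lt hi' hj', ?_⟩
    rw [← (e_mul Φ hi hj).1, ← (e_mul Φ hi' hj').1, ← hie, ← hje]
    group
  have back : ∀ i < 16, i ∈ S → ap (aL.getD 5 []) (ap (aL.getD 5 []) i) = i →
      ap (aL.getD 5 []) i ∈ S := by
    rintro i - ⟨hi, hi', hie⟩ hinv
    rw [Set.mem_setOf_eq, hinv]
    refine ⟨hi', hi, ?_⟩
    rw [← hie, sq5]
    calc f 5 * (f 5 * e f i * f 5) * f 5 = (f 5 * f 5) * e f i * (f 5 * f 5) := by group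
      _ = e f i := by rw [Φ.sq]; group
  have s6 : 6 ∈ S := by
    refine ⟨by norm_num, by decide, ?_⟩
    have h := eq_of_rel Φ (A := [5, 2, 1, 2, 5]) (B := [0, 1])
      (rotate_rel Φ (A := [0, 1]) (B := [5, 2, 1, 2, 5]) (hM _ (by decide)))
    rw [show ap (aL.getD 5 []) 6 = 5 from by decide, v, v,
      (Φ.eq_iff (ew_H (by norm_num)).1 (by decide)).2 e6,
      (Φ.eq_iff (ew_H (by norm_num)).1 (by decide)).2 e5, conj5]
    exact h
  have s4 : 4 ∈ S := by
    refine ⟨by norm_num, by decide, ?_⟩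
    have h := eq_of_rel Φ (A := [5, 1, 5]) (B := [3, 1, 2, 1, 2, 3])
      (rotate_rel Φ (A := [1, 2, 1, 2, 3]) (B := [5, 1, 5, 3]) (hM _ (by decide)))
    rw [show ap (aL.getD 5 []) 4 = 13 from by decide, v, v,
      (Φ.eq_iff (ew_H (by norm_num)).1 (by decide)).2 e4,
      (Φ.eq_iff (ew_H (by norm_num)).1 (by decide)).2 e13, conj5]
    exact h
  have s5 : 5 ∈ S := by
    have := back 6 (by norm_num) s6 (by decide)
    rwa [show ap (aL.getD 5 []) 6 = 5 from by decide] at this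
  have s13 : 13 ∈ S := by
    have := back 4 (by norm_num) s4 (by decide)
    rwa [show ap (aL.getD 5 []) 4 = 13 from by decide] at this
  have s1 : 1 ∈ S := hS 4 s4 5 s5
  have s2 : 2 ∈ S := hS 4 s4 6 s6
  have s3 : 3 ∈ S := hS 1 s1 2 s2
  have s0 : 0 ∈ S := hS 1 s1 1 s1
  have s8 : 8 ∈ S := hS 13 s13 5 s5
  have s12 : 12 ∈ S := hS 13 s13 1 s1
  intro k hk
  have hkS : k ∈ S := by
    interval_cases k
    exacts [s0, s1, s2, s3, s4, s5, s6, hS 6 s6 1 s1, s8, hS 8 s8 1 s1, hS 8 s8 2 s2, hS 8 s8 3 s3,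
      s12, s13, hS 12 s12 2 s2, hS 12 s12 3 s3]
  exact hkS.2

/-- A word in the six letters acts as computed. -/
theorem acts_M {L : List ℕ} (hL : ∀ x ∈ L, x < 6) : ∀ k < 16, actW (aL.getD 5 []) L k < 16 ∧
    wprod f L * e f k * (wprod f L)⁻¹ = e f (actW (aL.getD 5 []) L k) := by
  intro k hk
  have := acts_word Φ (acts_five Φ hM) hL k hk
  rwa [upd_self f] at this

theorem rels_ext : ∀ r ∈ CertExt.cert.rels, wprod f r = 1 := by
  intro r hr
  rcases ext_rels_split r hr with h | h | h | h | h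
  · exact Φ.relH r h
  · exact hM r h
  · have := hM _ h
    rwa [wprod_reverse f Φ.sq, inv_eq_one] at this
  · obtain ⟨-, -, e13, e11, e8, e2, -⟩ := ew_vals
    have A := acts_five Φ hM
    have v : ∀ k, e f k = wprod f (ew k) := fun _ => rfl
    have sq5 : (f 5)⁻¹ = f 5 := inv_eq_of_mul_eq_one_right (Φ.sq 5)
    have conj5 : ∀ L : List ℕ, f 5 * wprod f L * (f 5)⁻¹ = wprod f ([5] ++ L ++ [5]) := fun L => by
      rw [wprod_append, wprod_append, wprod_single, sq5]
    simp only [extraRels, List.mem_cons, List.not_mem_nil, or_false] at h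
    rcases h with rfl | rfl | rfl | rfl
    · refine rel_of_eq Φ (A := [5, 0, 5]) (B := [4, 3, 2, 1, 2, 3, 4]) ?_
      have := (A 1 (by norm_num)).2
      rw [show ap (aL.getD 5 []) 1 = 11 from by decide, v, v,
        (Φ.eq_iff (ew_H (by norm_num)).1 (by decide)).2 e11, show ew 1 = [0] from rfl, conj5] at this
      exact this
    · refine rel_of_eq Φ (A := [5, 1, 5]) (B := [3, 2, 1, 2, 1, 3]) ?_
      have := (A 4 (by norm_num)).2
      rw [show ap (aL.getD 5 []) 4 = 13 from by decide, v, v, show ew 4 = [1] from rfl, conj5,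
        (Φ.eq_iff (ew_H (by norm_num)).1 (by decide)).2 e13] at this
      refine this.trans ((Φ.eq_iff (by decide) (by decide)).2 ?_)
      decide +kernel
    · refine rel_of_eq Φ (A := [5, 3, 2, 1, 2, 3, 5]) (B := [2, 1, 2, 1]) ?_
      have := (A 8 (by norm_num)).2
      rw [show ap (aL.getD 5 []) 8 = 2 from by decide, v, v,
        (Φ.eq_iff (ew_H (by norm_num)).1 (by decide)).2 e8,
        (Φ.eq_iff (ew_H (by norm_num)).1 (by decide)).2 e2, conj5] at this
      exact this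
    · set W := wprod f [3, 4, 5, 3, 4, 5, 3, 4, 5, 3, 4, 5, 3, 4, 5] with hW
      obtain ⟨j, hj, hWj⟩ := cent_E_mem Φ (v := W) fun k hk => by
        have h1 := (acts_M Φ hM (L := [3, 4, 5, 3, 4, 5, 3, 4, 5, 3, 4, 5, 3, 4, 5]) (by decide) k hk).2
        rw [pent_act.1 k hk] at h1
        exact mul_inv_eq_iff_eq_mul.1 h1
      have hc : wprod f [3, 4, 5] * W * (wprod f [3, 4, 5])⁻¹ = W := by
        rw [mul_inv_eq_iff_eq_mul, hW, ← wprod_append, ← wprod_append]
        rfl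
      obtain ⟨h2, h3⟩ := acts_M Φ hM (L := [3, 4, 5]) (by decide) j hj
      rw [← hWj, hc, hWj] at h3
      rw [hWj, pent_act.2 j hj ((e_inj Φ hj h2).1 h3).symm, (e_special Φ).1]
  · rcases List.mem_cons.1 h with rfl | h
    · rfl
    · obtain ⟨x, -, rfl⟩ := List.mem_map.1 h
      simp [wprod, Φ.sq]

/-- Equal values in the table give equal products. -/
theorem eq_of_ext {L M : List ℕ} (hL : ∀ x ∈ L, x < 6) (hM' : ∀ x ∈ M, x < 6)
    (h : CertExt.table.val L = CertExt.table.val M) : wprod f L = wprod f M :=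
  CertExt.covered.eq_of_val f Φ.sq (rels_ext Φ hM) rfl hL hM' h

end CfsgLib.U43.Local
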