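import Cfsg.Agent.Lib.U43.LocalNorm

/-!
# An element normalising `E` with the action of the last letter
-/

set_option autoImplicit false
set_option maxRecDepth 100000

namespace CfsgLib.U43.Local

open Subgroup CfsgLib.InvChar.Coset

/-- The elements of `E ∩ Q` as products of the generators of `Q`. -/
def aQ : List (ℕ × List ℕ) :=
  [(0, []), (1, [0, 1]), (2, [2]), (3, [0, 1, 2]), (12, [4]), (13, [0, 1, 4]), (14, [2, 4]), (15, [0, 1, 2, 4])]

theorem aQ_ok : (aI.all fun k => aQ.any fun c => Nat.beq c.1 k &&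
    Nat.beq (hvA (c.2.map fun i => qWords.getD i []).flatten) (hvA (ew k))) = true := by
  decide +kernel

theorem aT_lt : (aT.all fun h => Nat.beq h.length 16 && (List.range 16).all fun k => Nat.blt (ap h k) 16) = true := by
  decide +kernel

theorem aL_five_length : (aL.getD 5 []).length = 16 := by decide

variable {G : Type*} [Group G] [Finite G] {z : G} {f : ℕ → G} (Φ : HFrame z f)
include Φ

theorem acts_of_lt {i : ℕ} (hi : i < 1152) (h : ∀ k < 16, ap (actOf (wdA i)) k < 16) :
    Acts f (wprod f (wdA i)) (actOf (wdA i)) := by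
  refine acts_actOf Φ hi fun k hk => ?_
  have h' := h k hk
  rw [ap, actOf, List.getD_eq_getElem?_getD, List.getElem?_map, List.getElem?_range hk] at h'
  simp only [Option.map_some, Option.getD_some] at h'
  cases hf : (List.range 16).find? fun j => Nat.beq (hvA (ew j)) (hvA (wdA i ++ ew k ++ (wdA i).reverse)) with
  | none => rw [hf] at h'; simp at h'
  | some a =>
    have ha : a < 16 := List.mem_range.1 (List.mem_of_find?_eq_some hf)
    refine ⟨a, ha, ?_⟩
    have hb : Nat.beq (hvA (ew a)) (hvA (wdA i ++ ew k ++ (wdA i).reverse)) = true :=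
      (List.find?_some hf :)
    rw [Nat.beq_eq] at hb
    unfold e
    rw [← conj_word Φ.sq]
    exact ((Φ.eq_iff (ew_H ha).1
      (mem_app (mem_app (wdA_mem hi) (ew_H hk).1) (mem_rev (wdA_mem hi)))).2 hb).symm

omit Φ in
theorem aI_sub {k : ℕ} (hk : k ∈ aI) : k < 16 := by
  have := mem_of_all aI_mem.1 hk
  simp only [Bool.and_eq_true, Nat.blt_eq] at this
  exact this.1

theorem e_aI_mem {k : ℕ} (hk : k ∈ aI) : e f k ∈ qSub f := by
  obtain ⟨⟨c, l⟩, hc, h⟩ := List.any_eq_true.1 (mem_of_all aQ_ok hk)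
  simp only [Bool.and_eq_true, Nat.beq_eq] at h
  obtain ⟨h1, h2⟩ := h
  have hl : ∀ i ∈ l, i < 5 := (by decide : ∀ c ∈ aQ, ∀ i ∈ c.2, i < 5) _ hc
  have hmem : ∀ w ∈ l.map fun i => qWords.getD i [], w ∈ qWords := by
    intro w hw
    obtain ⟨i, hi, rfl⟩ := List.mem_map.1 hw
    rw [List.getD_eq_getElem _ _ (show i < qWords.length from hl i hi)]
    exact List.getElem_mem _
  have hlet : ∀ x ∈ (l.map fun i => qWords.getD i []).flatten, x ∈ lettersH := by
    intro x hx
    obtain ⟨w, hw, hxw⟩ := List.mem_flatten.1 hx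
    exact qWords_mem w (hmem w hw) x hxw
  rw [e, ← (Φ.eq_iff hlet (ew_H (aI_sub hk)).1).2 h2]
  clear h2 hlet
  generalize l.map (fun i => qWords.getD i []) = L at hmem
  induction L with
  | nil => exact one_mem _
  | cons w L ih =>
    rw [List.flatten_cons, wprod_append]
    exact mul_mem (subset_closure (List.mem_map_of_mem (hmem w List.mem_cons_self)))
      (ih fun v hv => hmem v (List.mem_cons_of_mem w hv))

/-- There is an element inducing on `E` the action of the last letter. -/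
theorem exists_five (hne : ∃ g : G, g * z * g⁻¹ ∈ qSub f ∧ g * z * g⁻¹ ≠ z)
    (hmeet : ∀ g : G, g * z * g⁻¹ ∈ qSub f → g * z * g⁻¹ ≠ z →
      Nat.card ↥(qSub f ⊓ (qSub f).map (MulAut.conj g).toMonoidHom) = 4) :
    ∃ w : G, Acts f w (aL.getD 5 []) := by
  obtain ⟨n, hnz, hnt, hnE, hnT⟩ := exists_mover Φ hne
  obtain ⟨h0, h1, h2, -⟩ := e_special Φ
  choose π hπ hπe using hnE
  obtain ⟨a, had⟩ : ∃ a, a = π 4 (by norm_num) := ⟨_, rfl⟩
  obtain ⟨b, hbd⟩ : ∃ b, b = π 8 (by norm_num) := ⟨_, rfl⟩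
  have ha : a < 16 := had ▸ hπ _ _
  have hb : b < 16 := hbd ▸ hπ _ _
  obtain ⟨p, hpd⟩ : ∃ p, p = lin a b := ⟨_, rfl⟩
  have hplt : ∀ k < 16, ap p k < 16 := fun k hk => by
    have := range_of_all (range_of_all (range_of_all lin_lt ha) hb) hk
    rw [hpd]; simpa [Nat.blt_eq] using this
  -- the action of `n` is linear
  let S : Set ℕ := {k | k < 16 ∧ n * e f k * n⁻¹ = e f (ap p k)}
  have hlin : ∀ i < 16, ∀ j < 16, ap (lin a b) (i ^^^ j) = ap (lin a b) i ^^^ ap (lin a b) j := by
    have key : ∀ i < 16, ∀ k, ap (lin a b) k = if k < 16 then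
        ((if k % 2 = 1 then 2 else 0) ^^^ (if k / 2 % 2 = 1 then 3 else 0)) ^^^
          ((if k / 4 % 2 = 1 then a else 0) ^^^ (if k / 8 = 1 then b else 0)) else 16 := by
      intro i _ k
      unfold ap lin
      by_cases hk : k < 16
      · rw [List.getD_eq_getElem?_getD, List.getElem?_map, List.getElem?_range hk]; simp [hk]
      · rw [List.getD_eq_default _ _ (by simpa using Nat.le_of_not_lt hk)]; simp [hk]
    intro i hi j hj
    rw [key i hi, key i hi, key i hi, if_pos hi, if_pos hj, if_pos (xor_lt hi hj)]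
    interval_cases i <;> interval_cases j <;> simp [Nat.xor_assoc, Nat.xor_comm, Nat.xor_left_comm]
  have hS : ∀ i ∈ S, ∀ j ∈ S, i ^^^ j ∈ S := by
    rintro i ⟨hi, hie⟩ j ⟨hj, hje⟩
    refine ⟨xor_lt hi hj, ?_⟩
    rw [hpd, hlin i hi j hj, ← hpd, ← (e_mul Φ (hplt i hi) (hplt j hj)).1, ← hie, ← hje,
      ← (e_mul Φ hi hj).1]
    group
  have v0 : ap p 0 = 0 ∧ ap p 1 = 2 ∧ ap p 2 = 3 ∧ ap p 4 = a ∧ ap p 8 = b := by
    rw [hpd]; refine ⟨?_, ?_, ?_, ?_, ?_⟩ <;> simp [ap, lin, List.getD_eq_getElem?_getD]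
  obtain ⟨v0, v1, v2, v4, v8⟩ := v0
  have s0 : 0 ∈ S := ⟨by norm_num, by rw [v0, h0]; group⟩
  have s1 : 1 ∈ S := ⟨by norm_num, by rw [v1, h1, h2, hnz]⟩
  have s2 : 2 ∈ S := ⟨by norm_num, by
    rw [v2, h2, hnt, show (3 : ℕ) = 1 ^^^ 2 from rfl,
      ← (e_mul Φ (show 1 < 16 by norm_num) (show 2 < 16 by norm_num)).1, h1, h2]⟩
  have s4 : 4 ∈ S := ⟨by norm_num, by rw [v4, had]; exact hπe _ _⟩
  have s8 : 8 ∈ S := ⟨by norm_num, by rw [v8, hbd]; exact hπe _ _⟩
  have s3 : 3 ∈ S := hS 1 s1 2 s2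
  have s12 : 12 ∈ S := hS 4 s4 8 s8
  have hact : Acts f n p := fun k hk => by
    have hkS : k ∈ S := by
      interval_cases k
      exacts [s0, s1, s2, s3, s4, hS 4 s4 1 s1, hS 4 s4 2 s2, hS 4 s4 3 s3, s8, hS 8 s8 1 s1,
        hS 8 s8 2 s2, hS 8 s8 3 s3, s12, hS 12 s12 1 s1, hS 12 s12 2 s2, hS 12 s12 3 s3]
    exact ⟨hplt k hk, hkS.2⟩
  -- it is one of the possible ones
  have hvalid : valid a b = true := by
    simp only [valid, Bool.and_eq_true, List.all_eq_true, List.any_eq_true, List.mem_range,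
      Bool.or_eq_true, Nat.beq_eq, Bool.not_eq_true', beq_false_iff, decide_eq_false_iff_not]
    rw [← hpd]
    refine ⟨⟨fun i hi j hj => ?_, fun h hh => ?_⟩, ?_⟩
    · by_cases he : ap p i = ap p j
      · left
        refine (e_inj Φ hi hj).1 (mul_left_cancel (a := n) (mul_right_cancel (b := n⁻¹) ?_))
        rw [(hact i hi).2, (hact j hj).2, he]
      · exact Or.inr he
    · obtain ⟨i, hi, hie⟩ := List.any_eq_true.1 (mem_of_all aT_real hh)
      rw [List.mem_range] at hi
      simp only [Bool.and_eq_true] at hie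
      have hh16 := mem_of_all aT_lt hh
      simp only [Bool.and_eq_true, List.all_eq_true, List.mem_range, Nat.blt_eq, Nat.beq_eq] at hh16
      have hieq : actOf (wdA i) = h := eq_of_leq _ _ hie.2
      have hA : Acts f (wprod f (wdA i)) h :=
        hieq ▸ acts_of_lt Φ hi fun k hk => hieq.symm ▸ hh16.2 k hk
      obtain ⟨hy1, hy2⟩ := hnT _ (mem_centralizer_singleton_iff.1 (Φ.mem_C (wdA_mem hi)))
        ((commute_iff Φ (wdA_mem hi) tW_mem).2 hie.1)
      obtain ⟨i', hi', hie'⟩ := Φ.exists_word (g := n * wprod f (wdA i) * n⁻¹)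
        (mem_centralizer_singleton_iff.2 hy1)
      have hc' : comm (wdA i') tW = true :=
        (commute_iff Φ (wdA_mem hi') tW_mem).1 (by rw [hie']; exact hy2)
      have hh' := range_of_all act_T hi'
      simp only [hc', Bool.not_true, Bool.false_or, hasAct_iff] at hh'
      have hh16' := mem_of_all aT_lt hh'
      simp only [Bool.and_eq_true, List.all_eq_true, List.mem_range, Nat.blt_eq, Nat.beq_eq] at hh16'
      have hA' := acts_of_lt Φ hi' hh16'.2
      refine ⟨_, hh', fun k hk => ?_⟩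
      obtain ⟨q1, q2⟩ := hA k hk
      obtain ⟨q3, q4⟩ := hact k hk
      obtain ⟨q5, q6⟩ := hA' _ q3
      obtain ⟨q7, q8⟩ := hact _ q1
      refine (e_inj Φ q7 q5).1 ?_
      rw [← q8, ← q2, ← q6, ← q4, hie']
      group
    · by_contra hcon
      have hall : ∀ k ∈ aI, ap p k ∈ aI := fun k hk => by
        by_contra h; exact hcon ⟨k, hk, h⟩
      have hcard := hmeet n (by
          rw [hnz, ← h2]; exact e_aI_mem Φ (by decide))
        (by rw [hnz]; exact tt_ne_z Φ)
      have hge : 8 ≤ Nat.card ↥(qSub f ⊓ (qSub f).map (MulAut.conj n).toMonoidHom) := by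
        let F : {k // k ∈ aI.toFinset} → ↥(qSub f ⊓ (qSub f).map (MulAut.conj n).toMonoidHom) :=
          fun k => ⟨e f (ap p k.1), e_aI_mem Φ (hall _ (List.mem_toFinset.1 k.2)),
            ⟨e f k.1, e_aI_mem Φ (List.mem_toFinset.1 k.2),
              (hact _ (aI_sub (List.mem_toFinset.1 k.2))).2⟩⟩
        have hF : Function.Injective F := by
          rintro ⟨i, hi⟩ ⟨j, hj⟩ he
          have hi' := aI_sub (List.mem_toFinset.1 hi)
          have hj' := aI_sub (List.mem_toFinset.1 hj)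
          refine Subtype.ext ((e_inj Φ hi' hj').1 (mul_left_cancel (a := n) (mul_right_cancel (b := n⁻¹) ?_)))
          rw [(hact i hi').2, (hact j hj').2]
          exact congrArg Subtype.val he
        refine le_trans (le_of_eq ?_) (Nat.card_le_card_of_injective F hF)
        rw [Nat.card_eq_fintype_card, Fintype.card_coe, List.toFinset_card_of_nodup aI_mem.2.1,
          aI_mem.2.2]
      omega
  -- the certificate
  have hc := range_of_all (range_of_all certs_ok ha) hb
  simp only [hvalid, Bool.not_true, Bool.false_or, List.any_eq_true, Bool.and_eq_true, Nat.beq_eq,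
    settles, List.all_eq_true, Nat.blt_eq, Bool.or_eq_true, List.mem_range, Bool.not_eq_true'] at hc
  obtain ⟨c, -, ⟨-, -⟩, hL, hset⟩ := hc
  rw [← hpd] at hset
  have hW := acts_word Φ hact hL
  rcases hset with hset | ⟨hz1, hnot⟩
  · exact ⟨_, fun k hk => by
      obtain ⟨q1, q2⟩ := hW k hk
      rw [hset k hk] at q1 q2
      exact ⟨q1, q2⟩⟩
  · exfalso
    obtain ⟨X, hXd⟩ : ∃ X, X = wprod (upd f n) c.2.2 := ⟨_, rfl⟩
    have hX : X ∈ centralizer ({z} : Set G) := by
      have := (hW 1 (by norm_num)).2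
      rw [hz1, h1, ← hXd] at this
      rw [mem_centralizer_singleton_iff]
      exact mul_inv_eq_iff_eq_mul.1 this
    have hmem := act_mem_aN Φ hX (p := (List.range 16).map (actW p c.2.2)) (by simp) fun k hk => by
      have e1 : ap ((List.range 16).map (actW p c.2.2)) k = actW p c.2.2 k := by
        rw [ap, List.getD_eq_getElem?_getD, List.getElem?_map, List.getElem?_range hk]; rfl
      rw [e1, hXd]; exact hW k hk
    rw [hasAct_iff.2 hmem] at hnot
    exact absurd hnot (by decide)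

end CfsgLib.U43.Local
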