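import Cfsg.Agent.Lib.U43.LocalChecks

/-!
# An element carrying `z` to `t` and normalising `E`
-/

set_option autoImplicit false
set_option maxRecDepth 100000

namespace CfsgLib.U43.Local

open Subgroup CfsgLib.InvChar.Coset

theorem mem_of_all {α : Type*} {L : List α} {p : α → Bool} (h : L.all p = true) {a : α} (ha : a ∈ L) :
    p a = true := List.all_eq_true.1 h a ha

theorem range_of_all {n : ℕ} {p : ℕ → Bool} (h : (List.range n).all p = true) {i : ℕ} (hi : i < n) :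
    p i = true := List.all_eq_true.1 h i (List.mem_range.2 hi)

theorem beq_false_iff {a b : ℕ} : Nat.beq a b = false ↔ a ≠ b := by
  rw [← Bool.not_eq_true, Nat.beq_eq]

theorem hasVal_iff {v : ℕ} {L : List (List ℕ)} : hasVal v L = true ↔ ∃ q ∈ L, hvA q = v := by
  simp [hasVal, List.any_eq_true, Nat.beq_eq]

theorem comm_iff {v w : List ℕ} : comm v w = true ↔ hvA (v ++ w) = hvA (w ++ v) := by
  simp [comm, Nat.beq_eq]

theorem hasAct_iff {p : List ℕ} {L : List (List ℕ)} : hasAct p L = true ↔ p ∈ L := by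
  simp only [hasAct, List.any_eq_true]
  refine ⟨fun ⟨q, hq, h⟩ => eq_of_leq _ _ h ▸ hq, fun h => ⟨p, h, ?_⟩⟩
  have key : ∀ L : List ℕ, leq L L = true := by
    intro L
    induction L with
    | nil => rfl
    | cons a L ih => show (Nat.beq a a && leq L L) = true; rw [ih]; simp [Nat.beq_eq]
  exact key p

theorem tW_mem : ∀ x ∈ tW, x ∈ lettersH := by decide

theorem zW_mem : ∀ x ∈ ([0] : List ℕ), x ∈ lettersH := by decide

theorem fourW_mem : ∀ x ∈ fourW, x ∈ lettersH := by decide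

theorem sigmaW_mem : ∀ x ∈ sigmaW, x ∈ lettersH := by decide

theorem qWords_mem : ∀ w ∈ qWords, ∀ x ∈ w, x ∈ lettersH := by decide

theorem qElts_mem {q : List ℕ} (hq : q ∈ qElts) : ∀ x ∈ q, x ∈ lettersH := fun x hx =>
  of_decide_eq_true (mem_of_all (mem_of_all q_mem hq) hx)

theorem ew_letters {k : ℕ} (hk : k < 16) :
    (∀ x ∈ ew k, x ∈ ([0, 1, 2, 3, 4] : List ℕ)) ∧ ∀ x ∈ ew2 k, x ∈ ([0, 1, 2, 3, 4] : List ℕ) := by
  have h := range_of_all ew_mem hk
  simp only [Bool.and_eq_true, List.all_eq_true, decide_eq_true_eq] at h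
  exact h

theorem five_sub : ∀ x ∈ ([0, 1, 2, 3, 4] : List ℕ), x ∈ lettersH := by decide

theorem ew_H {k : ℕ} (hk : k < 16) : (∀ x ∈ ew k, x ∈ lettersH) ∧ ∀ x ∈ ew2 k, x ∈ lettersH :=
  ⟨fun x hx => five_sub x ((ew_letters hk).1 x hx), fun x hx => five_sub x ((ew_letters hk).2 x hx)⟩

theorem xor_lt {i j : ℕ} (hi : i < 16) (hj : j < 16) : i ^^^ j < 16 :=
  Nat.xor_lt_two_pow (n := 4) hi hj

theorem mem_app {A B : List ℕ} (hA : ∀ x ∈ A, x ∈ lettersH) (hB : ∀ x ∈ B, x ∈ lettersH) :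
    ∀ x ∈ A ++ B, x ∈ lettersH := fun x hx => (List.mem_append.1 hx).elim (hA x) (hB x)

theorem mem_rev {A : List ℕ} (hA : ∀ x ∈ A, x ∈ lettersH) : ∀ x ∈ A.reverse, x ∈ lettersH :=
  fun x hx => hA x (List.mem_reverse.1 hx)

variable {G : Type*} [Group G] [Finite G] {z : G} {f : ℕ → G}

/-- The element of `E` with given coordinates. -/
def e (f : ℕ → G) (k : ℕ) : G := wprod f (ew k)

/-- The element of the second elementary subgroup with given coordinates. -/
def e2 (f : ℕ → G) (k : ℕ) : G := wprod f (ew2 k)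

/-- The second involution. -/
def tt (f : ℕ → G) : G := wprod f tW

variable (Φ : HFrame z f)
include Φ

omit [Finite G] Φ in
theorem conj_word (hsq : ∀ x, f x * f x = 1) (A B : List ℕ) :
    wprod f (A ++ B ++ A.reverse) = wprod f A * wprod f B * (wprod f A)⁻¹ := by
  rw [wprod_append, wprod_append, wprod_reverse f hsq]

theorem commute_iff {A B : List ℕ} (hA : ∀ x ∈ A, x ∈ lettersH) (hB : ∀ x ∈ B, x ∈ lettersH) :
    wprod f A * wprod f B = wprod f B * wprod f A ↔ comm A B = true := by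
  rw [comm_iff, ← Φ.eq_iff (mem_app hA hB) (mem_app hB hA), wprod_append, wprod_append]

omit [Finite G] in
theorem wprod_z : wprod f [0] = z := by simp [wprod, Φ.zeq]

theorem tt_mem : tt f ∈ centralizer ({z} : Set G) := Φ.mem_C tW_mem

theorem tt_comm_z : tt f * z = z * tt f := mem_centralizer_singleton_iff.1 (tt_mem Φ)

theorem tt_sq : tt f * tt f = 1 := by
  rw [tt, ← wprod_append]
  exact (Φ.eq_iff (mem_app tW_mem tW_mem) (by simp)).2 t_facts.1

theorem tt_ne_z : tt f ≠ z := fun h => t_facts.2.1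
  ((Φ.eq_iff tW_mem zW_mem).1 (h.trans (wprod_z Φ).symm))

theorem z_ne_one : z ≠ 1 := fun h => t_facts.2.2.2.2
  ((Φ.eq_iff zW_mem (by simp)).1 ((wprod_z Φ).trans h))

omit [Finite G] in
theorem z_sq : z * z = 1 := by rw [← Φ.zeq, Φ.sq]

theorem e_mem {k : ℕ} (hk : k < 16) : e f k ∈ centralizer ({z} : Set G) := Φ.mem_C (ew_H hk).1

theorem e_mul {i j : ℕ} (hi : i < 16) (hj : j < 16) :
    e f i * e f j = e f (i ^^^ j) ∧ e2 f i * e2 f j = e2 f (i ^^^ j) := by
  have h := range_of_all (range_of_all ew_mul hi) hj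
  simp only [Bool.and_eq_true, Nat.beq_eq] at h
  unfold e e2
  rw [← wprod_append, ← wprod_append]
  exact ⟨(Φ.eq_iff (mem_app (ew_H hi).1 (ew_H hj).1) (ew_H (xor_lt hi hj)).1).2 h.1,
    (Φ.eq_iff (mem_app (ew_H hi).2 (ew_H hj).2) (ew_H (xor_lt hi hj)).2).2 h.2⟩

theorem e_inj {i j : ℕ} (hi : i < 16) (hj : j < 16) :
    (e f i = e f j → i = j) ∧ (e2 f i = e2 f j → i = j) := by
  have h := range_of_all (range_of_all ew_inj hi) hj
  simp only [Bool.and_eq_true, Bool.or_eq_true, Nat.beq_eq, Bool.not_eq_true', beq_false_iff] at h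
  exact ⟨fun he => h.1.resolve_right (not_not_intro ((Φ.eq_iff (ew_H hi).1 (ew_H hj).1).1 he)),
    fun he => h.2.resolve_right (not_not_intro ((Φ.eq_iff (ew_H hi).2 (ew_H hj).2).1 he))⟩

theorem e_special : e f 0 = 1 ∧ e f 1 = z ∧ e f 2 = tt f ∧
    e2 f 0 = 1 ∧ e2 f 1 = z ∧ e2 f 2 = tt f := by
  obtain ⟨h0, h1, h2, k0, k1, k2⟩ := ew_special
  refine ⟨(Φ.eq_iff (ew_H (by norm_num)).1 (by simp)).2 h0, ?_, ?_,
    (Φ.eq_iff (ew_H (by norm_num)).2 (by simp)).2 k0, ?_, ?_⟩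
  · rw [← wprod_z Φ]; exact (Φ.eq_iff (ew_H (by norm_num)).1 zW_mem).2 h1
  · exact (Φ.eq_iff (ew_H (by norm_num)).1 tW_mem).2 h2
  · rw [← wprod_z Φ]; exact (Φ.eq_iff (ew_H (by norm_num)).2 zW_mem).2 k1
  · exact (Φ.eq_iff (ew_H (by norm_num)).2 tW_mem).2 k2

omit [Finite G] Φ in
theorem q_closed_inv : (qElts.all fun a => qWords.all fun b =>
    hasVal (hvA (a ++ b.reverse)) qElts) = true := by
  decide +kernel

/-- Membership in `Q`. -/
theorem qSub_mem {a : G} (ha : a ∈ qSub f) : ∃ q ∈ qElts, a = wprod f q := by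
  suffices h : ∀ q ∈ qElts, ∃ r ∈ qElts, wprod f q * a = wprod f r by
    obtain ⟨q, hq, e⟩ := hasVal_iff.1 q_basic.1
    have h1 : wprod f q = 1 := (Φ.eq_iff (M := []) (qElts_mem hq) (by simp)).2 e
    obtain ⟨r, hr, e'⟩ := h q hq
    exact ⟨r, hr, by rwa [h1, one_mul] at e'⟩
  induction ha using Subgroup.closure_induction'' with
  | mem u hu =>
    obtain ⟨w, hw, rfl⟩ := List.mem_map.1 hu
    intro q hq
    obtain ⟨r, hr, e⟩ := hasVal_iff.1 (mem_of_all (mem_of_all q_closed hq) hw)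
    exact ⟨r, hr, by
      rw [← wprod_append]
      exact (Φ.eq_iff (mem_app (qElts_mem hq) (qWords_mem w hw)) (qElts_mem hr)).2 e.symm⟩
  | inv_mem u hu =>
    obtain ⟨w, hw, rfl⟩ := List.mem_map.1 hu
    intro q hq
    obtain ⟨r, hr, e⟩ := hasVal_iff.1 (mem_of_all (mem_of_all q_closed_inv hq) hw)
    exact ⟨r, hr, by
      rw [← wprod_reverse f Φ.sq, ← wprod_append]
      exact (Φ.eq_iff (mem_app (qElts_mem hq) (mem_rev (qWords_mem w hw))) (qElts_mem hr)).2 e.symm⟩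
  | one => intro q hq; exact ⟨q, hq, mul_one _⟩
  | mul a b _ _ iha ihb =>
    intro q hq
    obtain ⟨r, hr, e⟩ := iha q hq
    obtain ⟨r', hr', e'⟩ := ihb r hr
    exact ⟨r', hr', by rw [← mul_assoc, e, e']⟩

/-- An involution of `Q` other than `z` is conjugate to `t` in the centraliser. -/
theorem exists_conj_t {a : G} (ha : a ∈ qSub f) (h2 : a * a = 1) (h1 : a ≠ 1) (hz : a ≠ z) :
    ∃ h ∈ centralizer ({z} : Set G), h * tt f * h⁻¹ = a := by
  obtain ⟨q, hq, rfl⟩ := qSub_mem Φ ha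
  have hm := qElts_mem hq
  have e2 : hvA (q ++ q) = hvA [] :=
    (Φ.eq_iff (mem_app hm hm) (by simp)).1 (by rw [wprod_append, h2]; rfl)
  have e1 : hvA q ≠ hvA [] := fun e => h1 ((Φ.eq_iff hm (by simp)).2 e)
  have e0 : hvA q ≠ hvA [0] := fun e => hz (((Φ.eq_iff hm zW_mem).2 e).trans (wprod_z Φ))
  have h := mem_of_all q_fusion hq
  simp only [Bool.or_eq_true, Nat.beq_eq, Bool.not_eq_true', beq_false_iff, List.any_eq_true,
    List.mem_range] at h
  obtain ⟨i, hi, e⟩ := h.resolve_left fun h => h.elim (fun h => h.elim e1 e0) (fun h => h e2)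
  refine ⟨wprod f (wdA i), Φ.mem_C (wdA_mem hi), ?_⟩
  rw [tt, ← conj_word Φ.sq]
  exact (Φ.eq_iff (mem_app (mem_app (wdA_mem hi) tW_mem) (mem_rev (wdA_mem hi))) hm).2 e

/-- A square of an element of order dividing four lies in `Q`. -/
theorem sq_mem_qElts {a : G} (ha : a ∈ centralizer ({z} : Set G)) (h4 : a * a * (a * a) = 1) :
    ∃ q ∈ qElts, a * a = wprod f q := by
  obtain ⟨i, hi, rfl⟩ := Φ.exists_word ha
  have hm := wdA_mem hi
  have e4 : hvA (wdA i ++ wdA i ++ wdA i ++ wdA i) = hvA [] := by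
    refine (Φ.eq_iff (mem_app (mem_app (mem_app hm hm) hm) hm) (by simp)).1 ?_
    simp only [wprod_append]
    rw [mul_assoc, h4]; rfl
  have h := range_of_all square_mem_q hi
  simp only [Bool.or_eq_true, Bool.not_eq_true', beq_false_iff, hasVal_iff] at h
  obtain ⟨q, hq, e⟩ := h.resolve_left (not_not_intro e4)
  exact ⟨q, hq, by
    rw [← wprod_append]; exact (Φ.eq_iff (mem_app hm hm) (qElts_mem hq)).2 e.symm⟩

end CfsgLib.U43.Local
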