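import Cfsg.Agent.Lib.U43.LocalFive
import Cfsg.Agent.Lib.U43.CertExt
import Cfsg.Agent.Lib.U43.CertExtBad

/-!
# The relators of the normaliser of `E`

An element inducing the action of the last letter is corrected by elements of `E` to an involution
inverting `c = f 2 * f 3`; the few remaining relators then hold because their values lie in `E` and are
fixed by enough actions, except one with two possible values, one of which collapses `E`.
-/

set_option autoImplicit false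
set_option maxRecDepth 100000
set_option Elab.async false

namespace CfsgLib.U43.Local

open Subgroup CfsgLib.InvChar.Coset

/-- The action of the last letter. -/
def a5 : List ℕ := aL.getD 5 []

/-- The relators of the extension, in the order: those of the centraliser, the four actions, five more. -/
def relsTail : List (List ℕ) :=
  [[3, 5, 2, 3, 5, 2], [5, 2, 5, 2, 5, 2], [5, 3, 5, 3, 5, 3],
   [3, 4, 5, 3, 4, 5, 3, 4, 5, 3, 4, 5, 3, 4, 5]]

/-- The last relator. -/
def rLast : List ℕ := [5, 4, 5, 4, 5, 4, 5, 4]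

/-- The last relator in the impossible case. -/
def rBad : List ℕ := rLast ++ [2, 1, 2, 1, 0]

/-- Whether a relator records the action of the last letter. -/
noncomputable def isAct (r : List ℕ) : Bool :=
  (List.range r.length).any fun i =>
    leq r ([5] ++ (r.drop 1).take i ++ [5] ++ r.drop (i + 2)) &&
      ((r.drop 1).take i).all (fun x => decide (x ∈ lettersH)) &&
      (r.drop (i + 2)).all (fun x => decide (x ∈ lettersH)) &&
      (List.range 16).any fun k => Nat.beq (hvA ((r.drop 1).take i)) (hvA (ew k)) &&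
        Nat.beq (hvA (r.drop (i + 2)).reverse) (hvA (ew (ap a5 k)))

theorem cover_good : (CertExt.cert.rels.all fun r =>
    ((relsH ++ ([] :: lettersH.map fun x => [x, x])).any (leq r) && r.all fun x => decide (x ∈ lettersH)) ||
      isAct r || leq r [5, 5] || (relsTail ++ [rLast]).any fun q => leq r q || leq r q.reverse ||
        (List.range q.length).any fun i => leq r (q.drop i ++ q.take i)) = true := by
  decide +kernel

theorem cover_bad : (CertExtBad.cert.rels.all fun r =>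
    ((relsH ++ ([] :: lettersH.map fun x => [x, x])).any (leq r) && r.all fun x => decide (x ∈ lettersH)) ||
      isAct r || leq r [5, 5] || (relsTail ++ [rBad]).any fun q => leq r q || leq r q.reverse ||
        (List.range q.length).any fun i => leq r (q.drop i ++ q.take i)) = true := by
  decide +kernel

theorem relsM_val : (relsM.all fun r => r.all (fun x => Nat.blt x CertExt.table.g) &&
    Nat.beq (CertExt.table.val r) 0) = true := by
  decide +kernel

theorem bad_val : CertExtBad.table.val [0] = 0 := by decide +kernel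

theorem a5_invol : ((List.range 16).all fun k => Nat.beq (ap a5 (ap a5 k)) k &&
    Nat.blt (ap a5 k) 16) = true := by
  decide +kernel

theorem act_ids : ((List.range 16).all fun k =>
    Nat.beq (ap a5 (actW a5 [2, 3] (ap a5 k))) (actW a5 [3, 2] k) &&
    (List.all [[5, 2, 5, 2, 5, 2], [5, 3, 5, 3, 5, 3],
      [3, 4, 5, 3, 4, 5, 3, 4, 5, 3, 4, 5, 3, 4, 5], rLast] fun L =>
        Nat.beq (actW a5 L k) k)) = true := by
  decide +kernel

theorem fix_c : ((List.range 16).all fun j =>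
    !Nat.beq (hvA (ew j ++ [3, 2] ++ ew j ++ [3, 2] ++ ew j ++ [3, 2])) (hvA []) ||
      (List.range 16).any fun d =>
        Nat.beq (hvA (ew d ++ ew j ++ [3, 2] ++ ew d)) (hvA [3, 2])) = true := by
  decide +kernel

theorem fix_sq : ((List.range 16).all fun j =>
    !(Nat.beq (ap a5 j) j && Nat.beq (actW a5 [2, 3] j) j) ||
      (List.range 16).any fun d => Nat.beq (actW a5 [2, 3] d) d &&
        Nat.beq ((d ^^^ ap a5 d) ^^^ j) 0) = true := by
  decide +kernel

theorem fix_vals : ((List.range 16).all fun j =>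
    ((!(Nat.beq (ap a5 j) j && Nat.beq (actW a5 [2] j) j && Nat.beq (actW a5 [2, 3] j) j)) || Nat.beq j 0) &&
    ((!(Nat.beq (ap a5 j) j && Nat.beq (actW a5 [3] j) j)) || Nat.beq j 0) &&
    ((!Nat.beq (actW a5 [3, 4, 5] j) j) || Nat.beq j 0) &&
    ((!(Nat.beq (ap a5 j) j && Nat.beq (actW a5 [4] j) j)) || Nat.beq j 0 || Nat.beq j 3)) = true := by
  decide +kernel

theorem bad_word : ew 3 = [0, 1, 2, 1, 2] := by decide

variable {G : Type*} [Group G]

/-- Rotations and reverses of a trivial product are trivial. -/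
theorem wprod_variants {s : ℕ → G} (hs : ∀ x, s x * s x = 1) {q r : List ℕ} (hq : wprod s q = 1)
    (h : r = q ∨ r = q.reverse ∨ ∃ i, r = q.drop i ++ q.take i) : wprod s r = 1 := by
  rcases h with rfl | rfl | ⟨i, rfl⟩
  · exact hq
  · rw [wprod_reverse s hs, hq, inv_one]
  · rw [← List.take_append_drop i q, wprod_append] at hq
    rw [wprod_append]
    exact mul_eq_one_comm.1 hq

theorem upd_five (f : ℕ → G) (g : G) : upd f g 5 = g := if_pos rfl

theorem upd_ne (f : ℕ → G) (g : G) {x : ℕ} (hx : x ≠ 5) : upd f g x = f x := if_neg hx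

theorem wprod_upd (f : ℕ → G) (g : G) {L : List ℕ} (hL : ∀ x ∈ L, x ∈ lettersH) :
    wprod (upd f g) L = wprod f L := by
  simp only [wprod]
  exact congrArg List.prod (List.map_congr_left fun x hx => upd_ne f g fun h =>
    (by decide : (5 : ℕ) ∉ lettersH) (h ▸ hL x hx))

variable [Finite G] {z : G} {f : ℕ → G} (Φ : HFrame z f)
include Φ

theorem act_invol_inv {w : G} (hw : Acts f w a5) {k : ℕ} (hk : k < 16) :
    w⁻¹ * e f k * w = e f (ap a5 k) := by
  have h := range_of_all a5_invol hk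
  simp only [Bool.and_eq_true, Nat.beq_eq, Nat.blt_eq] at h
  have h2 := (hw _ h.2).2
  rw [h.1] at h2
  rw [← h2]; group

omit Φ in
theorem H_one : ∀ L ∈ ([[2, 3], [3, 2], [2], [3], [4]] : List (List ℕ)),
    (∀ x ∈ L, x ∈ lettersH) ∧ ∀ x ∈ L, x < 5 := by decide

theorem acts_H {w : G} (hw : Acts f w a5) {L : List ℕ}
    (hL : L ∈ ([[2, 3], [3, 2], [2], [3], [4]] : List (List ℕ))) {k : ℕ} (hk : k < 16) :
    actW a5 L k < 16 ∧ wprod f L * e f k * (wprod f L)⁻¹ = e f (actW a5 L k) := by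
  have h := acts_word Φ hw (L := L) (fun x hx => by have := (H_one L hL).2 x hx; omega) k hk
  rwa [wprod_upd f w (H_one L hL).1] at h

/-- A word acting trivially has its value in `E`. -/
theorem value_mem {w : G} (hw : Acts f w a5) {L : List ℕ} (hL : ∀ x ∈ L, x < 6)
    (hid : ∀ k < 16, actW a5 L k = k) : ∃ j < 16, wprod (upd f w) L = e f j := by
  refine cent_E_mem Φ fun k hk => ?_
  have h := (acts_word Φ hw hL k hk).2
  rw [hid k hk] at h
  exact mul_inv_eq_iff_eq_mul.1 h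

/-- The centraliser relators, the actions and the tail hold. -/
theorem covered_rels {w : G} (hw : Acts f w a5) (hww : w * w = 1) {last : List ℕ}
    (htail : ∀ q ∈ relsTail ++ [last], wprod (upd f w) q = 1) {R : List (List ℕ)}
    (hR : (R.all fun r =>
      ((relsH ++ ([] :: lettersH.map fun x => [x, x])).any (leq r) && r.all fun x => decide (x ∈ lettersH)) ||
        isAct r || leq r [5, 5] || (relsTail ++ [last]).any fun q => leq r q || leq r q.reverse ||
          (List.range q.length).any fun i => leq r (q.drop i ++ q.take i)) = true) :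
    ∀ r ∈ R, wprod (upd f w) r = 1 := by
  have hs : ∀ x, upd f w x * upd f w x = 1 := fun x => by
    unfold upd; split
    exacts [hww, Φ.sq x]
  intro r hr
  have h := mem_of_all hR hr
  simp only [Bool.or_eq_true, Bool.and_eq_true, List.any_eq_true, List.all_eq_true,
    decide_eq_true_eq, isAct, List.mem_range] at h
  rcases h with ((⟨⟨q, hq, hqe⟩, hlet⟩ | ⟨i, -, ⟨⟨hie, hA⟩, hB⟩, k, hk, hkA, hkB⟩) | h55) | ⟨q, hq, hqe⟩
  · rw [wprod_upd f w hlet, eq_of_leq _ _ hqe]
    rcases List.mem_append.1 hq with hq | hq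
    · exact Φ.relH _ hq
    rcases List.mem_cons.1 hq with hq | hq
    · rw [hq]; rfl
    · obtain ⟨x, -, rfl⟩ := List.mem_map.1 hq
      simp [wprod, Φ.sq]
  · obtain ⟨h1, h2⟩ := hw k hk
    rw [Nat.beq_eq] at hkA hkB
    rw [eq_of_leq _ _ hie, wprod_append, wprod_append, wprod_append,
      show wprod (upd f w) [5] = w by simp [wprod, upd_five], wprod_upd f w hA, wprod_upd f w hB,
      (Φ.eq_iff hA (ew_H hk).1).2 hkA,
      ← inv_inv (wprod f (r.drop (i + 2))), ← wprod_reverse f Φ.sq,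
      (Φ.eq_iff (mem_rev hB) (ew_H h1).1).2 hkB]
    have h3 : w * e f k * w = e f (ap a5 k) := by
      rw [← h2, inv_eq_of_mul_eq_one_right hww]
    exact mul_inv_eq_one.2 h3
  · rw [eq_of_leq _ _ h55]; simp [wprod, upd_five, hww]
  · refine wprod_variants hs (htail q hq) ?_
    rcases hqe with (h | h) | ⟨i, -, h⟩
    exacts [Or.inl (eq_of_leq _ _ h), Or.inr (Or.inl (eq_of_leq _ _ h)),
      Or.inr (Or.inr ⟨i, eq_of_leq _ _ h⟩)]

/-- The normaliser of `E`: a last letter satisfying `relsM`. -/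
theorem exists_relM (hne : ∃ g : G, g * z * g⁻¹ ∈ qSub f ∧ g * z * g⁻¹ ≠ z)
    (hmeet : ∀ g : G, g * z * g⁻¹ ∈ qSub f → g * z * g⁻¹ ≠ z →
      Nat.card ↥(qSub f ⊓ (qSub f).map (MulAut.conj g).toMonoidHom) = 4) :
    ∃ w : G, w * w = 1 ∧ ∀ r ∈ relsM, wprod (upd f w) r = 1 := by
  obtain ⟨w₁, hw₁⟩ := exists_five Φ hne hmeet
  change Acts f w₁ a5 at hw₁
  obtain ⟨h0, h1, h2, -⟩ := e_special Φ
  obtain ⟨c, hcd⟩ : ∃ c, c = wprod f [2, 3] := ⟨_, rfl⟩
  have h23 : ∀ x ∈ ([2, 3] : List ℕ), x ∈ lettersH := by decide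
  have h32 : ∀ x ∈ ([3, 2] : List ℕ), x ∈ lettersH := by decide
  have hci : wprod f [3, 2] = c⁻¹ := by
    rw [hcd, ← wprod_reverse f Φ.sq]; rfl
  have hc3 : c * c * c = 1 := by
    rw [hcd, ← wprod_append, ← wprod_append]
    exact (Φ.eq_iff (mem_app (mem_app h23 h23) h23) (M := []) (by simp)).2 (by decide +kernel)
  -- conjugation by `w₁` inverts `c` up to `E`
  have hconj : ∀ k < 16, (w₁ * c * w₁⁻¹ * c) * e f k = e f k * (w₁ * c * w₁⁻¹ * c) := by
    intro k hk
    have hA : ∀ k < 16, w₁ * c * w₁⁻¹ * e f k * (w₁ * c * w₁⁻¹)⁻¹ = e f (actW a5 [3, 2] k) := by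
      intro k hk
      have h5 := range_of_all a5_invol hk
      simp only [Bool.and_eq_true, Nat.beq_eq, Nat.blt_eq] at h5
      obtain ⟨q1, q2⟩ := acts_H Φ hw₁ (L := [2, 3]) (by simp) h5.2
      obtain ⟨q3, q4⟩ := hw₁ _ q1
      have hid := range_of_all act_ids hk
      simp only [Bool.and_eq_true, Nat.beq_eq] at hid
      rw [← hid.1, ← q4, ← q2, ← hcd, ← act_invol_inv Φ hw₁ hk]
      group
    obtain ⟨q1, q2⟩ := acts_H Φ hw₁ (L := [3, 2]) (by simp) hk
    have hb := hA k hk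
    rw [← q2, hci] at hb
    refine mul_inv_eq_iff_eq_mul.1 ?_
    calc w₁ * c * w₁⁻¹ * c * e f k * (w₁ * c * w₁⁻¹ * c)⁻¹
        = w₁ * c * w₁⁻¹ * (c * e f k * c⁻¹) * (w₁ * c * w₁⁻¹)⁻¹ := by group
      _ = e f k := by
        obtain ⟨q5, q6⟩ := acts_H Φ hw₁ (L := [2, 3]) (by simp) hk
        rw [← hcd] at q6
        have hk2 := hA _ q5
        obtain ⟨q7, q8⟩ := acts_H Φ hw₁ (L := [3, 2]) (by simp) q5
        rw [hci] at q8
        rw [q6, hk2, ← q8, ← q6]
        group
  obtain ⟨j, hj, hje⟩ := cent_E_mem Φ hconj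
  have hje' : w₁ * c * w₁⁻¹ = e f j * c⁻¹ := by rw [← hje]; group
  have hd3 := range_of_all fix_c hj
  simp only [Bool.or_eq_true, Bool.not_eq_true', beq_false_iff, List.any_eq_true, List.mem_range,
    Nat.beq_eq] at hd3
  obtain ⟨d, hd, hde⟩ := hd3.resolve_left (not_not_intro (by
    refine (Φ.eq_iff (mem_app (mem_app (mem_app (mem_app (mem_app (ew_H hj).1 h32) (ew_H hj).1) h32)
      (ew_H hj).1) h32) (M := []) (by simp)).1 ?_
    simp only [wprod_append, hci]
    show e f j * c⁻¹ * e f j * c⁻¹ * e f j * c⁻¹ = 1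
    calc e f j * c⁻¹ * e f j * c⁻¹ * e f j * c⁻¹
        = (e f j * c⁻¹) * (e f j * c⁻¹) * (e f j * c⁻¹) := by group
      _ = w₁ * (c * c * c) * w₁⁻¹ := by rw [← hje']; group
      _ = 1 := by rw [hc3]; group))
  have hde' : e f d * (e f j * c⁻¹) * e f d = c⁻¹ := by
    rw [← hci, e, e, ← wprod_append, ← wprod_append, ← wprod_append]
    refine (Φ.eq_iff (mem_app (mem_app (ew_H hd).1 (mem_app (ew_H hj).1 h32)) (ew_H hd).1) h32).2 ?_
    simpa [List.append_assoc] using hde
  have hEinv : ∀ k < 16, (e f k)⁻¹ = e f k := fun k hk => inv_eq_of_mul_eq_one_right (by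
    rw [(e_mul Φ hk hk).1, Nat.xor_self, h0])
  have hshift : ∀ {w : G}, Acts f w a5 → ∀ d < 16, Acts f (e f d * w) a5 := by
    intro w hw d hd k hk
    obtain ⟨q1, q2⟩ := hw k hk
    refine ⟨q1, ?_⟩
    rw [show e f d * w * e f k * (e f d * w)⁻¹ = e f d * (w * e f k * w⁻¹) * (e f d)⁻¹ by group, q2,
      hEinv d hd, (e_mul Φ hd q1).1, (e_mul Φ (xor_lt hd q1) hd).1]
    congr 1
    rw [Nat.xor_comm, ← Nat.xor_assoc, Nat.xor_self, Nat.zero_xor]
  obtain ⟨w₂, hw₂d⟩ : ∃ w₂, w₂ = e f d * w₁ := ⟨_, rfl⟩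
  have hw₂ : Acts f w₂ a5 := hw₂d ▸ hshift hw₁ d hd
  have hw₂c : w₂ * c * w₂⁻¹ = c⁻¹ := by
    conv_rhs => rw [← hde', ← hje']
    rw [hw₂d, mul_inv_rev, hEinv d hd]
    group
  -- the square
  have hsqE : ∀ k < 16, w₂ * w₂ * e f k = e f k * (w₂ * w₂) := by
    intro k hk
    obtain ⟨q1, q2⟩ := hw₂ k hk
    obtain ⟨q3, q4⟩ := hw₂ _ q1
    have h5 := range_of_all a5_invol hk
    simp only [Bool.and_eq_true, Nat.beq_eq] at h5
    refine mul_inv_eq_iff_eq_mul.1 ?_
    rw [show w₂ * w₂ * e f k * (w₂ * w₂)⁻¹ = w₂ * (w₂ * e f k * w₂⁻¹) * w₂⁻¹ by group, q2, q4, h5.1]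
  obtain ⟨i, hi, hie⟩ := cent_E_mem Φ hsqE
  have hfix5 : ap a5 i = i := (e_inj Φ (hw₂ i hi).1 hi).1 (by
    rw [← (hw₂ i hi).2, ← hie]; group)
  have hfixc : actW a5 [2, 3] i = i := (e_inj Φ (acts_H Φ hw₂ (by simp) hi).1 hi).1 (by
    rw [← (acts_H Φ hw₂ (L := [2, 3]) (by simp) hi).2, ← hcd, ← hie]
    have : c * (w₂ * w₂) = w₂ * w₂ * c := by
      have e1 : w₂ * c⁻¹ * w₂⁻¹ = c := by
        rw [show w₂ * c⁻¹ * w₂⁻¹ = (w₂ * c * w₂⁻¹)⁻¹ by group, hw₂c, inv_inv]
      calc c * (w₂ * w₂) = (w₂ * c⁻¹ * w₂⁻¹) * (w₂ * w₂) := by rw [e1]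
        _ = w₂ * (w₂ * c * w₂⁻¹) * w₂ := by rw [hw₂c]; group
        _ = w₂ * w₂ * c := by group
    rw [this]; group)
  have hd' := range_of_all fix_sq hi
  simp only [hfix5, hfixc, Nat.beq_eq, Bool.or_eq_true, Bool.not_eq_true', List.any_eq_true,
    List.mem_range, Bool.and_eq_true] at hd'
  obtain ⟨d', hd'lt, hdc, hdx⟩ := hd'.resolve_left (by simp [Nat.beq_eq, hfix5, hfixc])
  obtain ⟨w, hwd⟩ : ∃ w, w = e f d' * w₂ := ⟨_, rfl⟩
  have hw : Acts f w a5 := hwd ▸ hshift hw₂ d' hd'lt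
  have hww : w * w = 1 := by
    obtain ⟨q1, q2⟩ := hw₂ d' hd'lt
    rw [hwd, show e f d' * w₂ * (e f d' * w₂) = e f d' * (w₂ * e f d' * w₂⁻¹) * (w₂ * w₂) by group,
      q2, hie, (e_mul Φ hd'lt q1).1, (e_mul Φ (xor_lt hd'lt q1) hi).1, hdx, h0]
  have hwc : w * c * w⁻¹ = c⁻¹ := by
    have hcd' : c * e f d' = e f d' * c := by
      have := (acts_H Φ hw₂ (L := [2, 3]) (by simp) hd'lt).2
      rw [hdc, ← hcd] at this
      exact mul_inv_eq_iff_eq_mul.1 this
    rw [hwd, show e f d' * w₂ * c * (e f d' * w₂)⁻¹ = e f d' * (w₂ * c * w₂⁻¹) * (e f d')⁻¹ by group,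
      hw₂c, mul_inv_eq_iff_eq_mul, eq_inv_mul_iff_mul_eq, ← mul_assoc, hcd', mul_inv_cancel_right]
  refine ⟨w, hww, ?_⟩
  obtain ⟨s, hsd⟩ : ∃ s, s = upd f w := ⟨_, rfl⟩
  have hs : ∀ x, s x * s x = 1 := fun x => by
    rw [hsd]; unfold upd; split
    exacts [hww, Φ.sq x]
  have s5 : s 5 = w := by rw [hsd, upd_five]
  have s2 : s 2 = f 2 := by rw [hsd, upd_ne _ _ (by norm_num)]
  have s3 : s 3 = f 3 := by rw [hsd, upd_ne _ _ (by norm_num)]
  have s4 : s 4 = f 4 := by rw [hsd, upd_ne _ _ (by norm_num)]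
  have hc' : c = f 2 * f 3 := by rw [hcd]; simp [wprod]
  have hwinv : w⁻¹ = w := inv_eq_of_mul_eq_one_right hww
  have finv : ∀ x, (f x)⁻¹ = f x := fun x => inv_eq_of_mul_eq_one_right (Φ.sq x)
  -- a value fixed by the conjugations
  have hfixed : ∀ {L : List ℕ} {j : ℕ}, j < 16 → wprod s L = e f j → ∀ {g : G} {p : ℕ},
      p < 16 → g * e f j * g⁻¹ = e f p → g * wprod s L * g⁻¹ = wprod s L → p = j :=
    fun hj hL _ _ hp hg hgL => (e_inj Φ hp hj).1 (by rw [← hg, ← hL, hgL])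
  have flip : ∀ a b : G, a * a = 1 → b * b = 1 → ∀ m : ℕ, (∃ j < 16, (a * b) ^ m = e f j) →
      a * (a * b) ^ m * a⁻¹ = (a * b) ^ m ∧ b * (a * b) ^ m * b⁻¹ = (a * b) ^ m := by
    intro a b ha hb m ⟨j, hj, hje⟩
    have hbi : b⁻¹ = b := inv_eq_of_mul_eq_one_right hb
    have hai : a⁻¹ = a := inv_eq_of_mul_eq_one_right ha
    have hinv : ((a * b) ^ m)⁻¹ = (a * b) ^ m := by rw [hje, hEinv j hj]
    constructor
    · rw [← conj_pow, show a * (a * b) * a⁻¹ = (a * b)⁻¹ by rw [mul_inv_rev, hbi, hai, ← mul_assoc, ha, one_mul],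
        inv_pow, hinv]
    · rw [← conj_pow, show b * (a * b) * b⁻¹ = (a * b)⁻¹ by rw [mul_inv_rev, hbi, hai, mul_assoc, mul_assoc, hb, mul_one],
        inv_pow, hinv]
  have hids : ∀ L ∈ [[5, 2, 5, 2, 5, 2], [5, 3, 5, 3, 5, 3],
      [3, 4, 5, 3, 4, 5, 3, 4, 5, 3, 4, 5, 3, 4, 5], rLast], ∃ j < 16, wprod s L = e f j := by
    intro L hL
    rw [hsd]
    refine value_mem Φ hw ?_ fun k hk => ?_
    · revert L; decide
    · have h := range_of_all act_ids hk
      simp only [Bool.and_eq_true, List.all_eq_true, Nat.beq_eq] at h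
      exact h.2 L hL
  have t1 : wprod s [3, 5, 2, 3, 5, 2] = 1 := by
    have : w * (f 2 * f 3) * w = f 3 * f 2 := by
      rw [← hc']
      nth_rewrite 2 [← hwinv]
      rw [hwc, hc', mul_inv_rev, finv, finv]
    simp only [wprod, List.map_cons, List.map_nil, List.prod_cons, List.prod_nil, mul_one, s5, s2, s3]
    calc f 3 * (w * (f 2 * (f 3 * (w * f 2)))) = f 3 * (w * (f 2 * f 3) * w) * f 2 := by group
      _ = 1 := by rw [this, ← mul_assoc, Φ.sq, one_mul, Φ.sq]
  have vals : ∀ (a b : ℕ) (m : ℕ) (L : List ℕ), wprod s L = (s a * s b) ^ m →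
      (∃ j < 16, wprod s L = e f j) → ∃ j < 16, wprod s L = e f j ∧
        s a * wprod s L * (s a)⁻¹ = wprod s L ∧ s b * wprod s L * (s b)⁻¹ = wprod s L := by
    intro a b m L hpw ⟨j, hj, hje⟩
    refine ⟨j, hj, hje, ?_⟩
    rw [hpw] at hje ⊢
    exact flip _ _ (hs a) (hs b) m ⟨j, hj, hje⟩
  have t2 : wprod s [5, 2, 5, 2, 5, 2] = 1 := by
    obtain ⟨j, hj, hje, ha, hb⟩ := vals 5 2 3 [5, 2, 5, 2, 5, 2]
      (by simp [wprod, pow_succ, mul_assoc]) (hids _ (by simp))
    rw [s5] at ha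
    rw [s2] at hb
    have q5 := hfixed hj hje (hw j hj).1 (hw j hj).2 ha
    obtain ⟨a1, a2⟩ := acts_H Φ hw (L := [2]) (by simp) hj
    have q2 := hfixed hj hje a1 a2 (by simpa [wprod] using hb)
    obtain ⟨b1, b2⟩ := acts_H Φ hw (L := [2, 3]) (by simp) hj
    have hu : c * (w * f 2) = w * f 2 * c := by
      have e1 : f 2 * c * f 2 = c⁻¹ := by
        rw [hc', mul_inv_rev, finv, finv, ← mul_assoc, Φ.sq, one_mul]
      have e2 : w * c⁻¹ * w⁻¹ = c := by
        rw [show w * c⁻¹ * w⁻¹ = (w * c * w⁻¹)⁻¹ by group, hwc, inv_inv]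
      calc c * (w * f 2) = (w * c⁻¹ * w⁻¹) * (w * f 2) := by rw [e2]
        _ = w * (f 2 * c * f 2) * f 2 := by rw [e1]; group
        _ = w * f 2 * c * (f 2 * f 2) := by group
        _ = w * f 2 * c := by rw [Φ.sq, mul_one]
    have q23 := hfixed hj hje b1 b2 (by
      rw [← hcd]
      have hp : wprod s [5, 2, 5, 2, 5, 2] = (w * f 2) ^ 3 := by
        simp [wprod, pow_succ, mul_assoc, s5, s2]
      rw [hp, mul_inv_eq_iff_eq_mul]
      exact (Commute.pow_right hu 3).eq)
    have h := range_of_all fix_vals hj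
    simp only [Bool.and_eq_true, Bool.or_eq_true, Bool.not_eq_true', Nat.beq_eq, q5, q2, q23,
      Bool.and_eq_false_imp] at h
    rw [hje, h.1.1.1.resolve_left (by simp [Nat.beq_eq, q5, q2, q23]), h0]
  have t3 : wprod s [5, 3, 5, 3, 5, 3] = 1 := by
    obtain ⟨j, hj, hje, ha, hb⟩ := vals 5 3 3 [5, 3, 5, 3, 5, 3]
      (by simp [wprod, pow_succ, mul_assoc]) (hids _ (by simp))
    rw [s5] at ha
    rw [s3] at hb
    have q5 := hfixed hj hje (hw j hj).1 (hw j hj).2 ha
    obtain ⟨a1, a2⟩ := acts_H Φ hw (L := [3]) (by simp) hj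
    have q3 := hfixed hj hje a1 a2 (by simpa [wprod] using hb)
    have h := range_of_all fix_vals hj
    simp only [Bool.and_eq_true, Bool.or_eq_true, Bool.not_eq_true', Nat.beq_eq] at h
    rw [hje, h.1.1.2.resolve_left (by simp [Nat.beq_eq, q5, q3]), h0]
  have t4 : wprod s [3, 4, 5, 3, 4, 5, 3, 4, 5, 3, 4, 5, 3, 4, 5] = 1 := by
    obtain ⟨j, hj, hje⟩ := hids _ (List.mem_cons_of_mem _ (List.mem_cons_of_mem _ List.mem_cons_self))
    obtain ⟨a1, a2⟩ := acts_word Φ hw (L := [3, 4, 5]) (by decide) j hj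
    rw [← hsd] at a2
    have q := hfixed hj hje a1 a2 (by
      rw [show wprod s [3, 4, 5, 3, 4, 5, 3, 4, 5, 3, 4, 5, 3, 4, 5] = wprod s [3, 4, 5] ^ 5 by
        simp [wprod, pow_succ, mul_assoc]]
      group)
    have h := range_of_all fix_vals hj
    simp only [Bool.and_eq_true, Bool.or_eq_true, Bool.not_eq_true', Nat.beq_eq] at h
    rw [hje, h.1.2.resolve_left (by simp [Nat.beq_eq, q]), h0]
  have htail : ∀ q ∈ relsTail, wprod s q = 1 := by
    intro q hq
    simp only [relsTail, List.mem_cons, List.not_mem_nil, or_false] at hq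
    rcases hq with rfl | rfl | rfl | rfl
    exacts [t1, t2, t3, t4]
  obtain ⟨j, hj, hje, ha, hb⟩ := vals 5 4 4 rLast
    (by simp [rLast, wprod, pow_succ, mul_assoc]) (hids _ (by simp))
  rw [s5] at ha
  rw [s4] at hb
  have q5 := hfixed hj hje (hw j hj).1 (hw j hj).2 ha
  obtain ⟨a1, a2⟩ := acts_H Φ hw (L := [4]) (by simp) hj
  have q4 := hfixed hj hje a1 a2 (by simpa [wprod] using hb)
  have h := range_of_all fix_vals hj
  simp only [Bool.and_eq_true, Bool.or_eq_true, Bool.not_eq_true', Nat.beq_eq] at h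
  rcases h.2 with (hc0 | hj0) | hj3
  · simp [Nat.beq_eq, q5, q4] at hc0
  · have htail' : ∀ q ∈ relsTail ++ [rLast], wprod (upd f w) q = 1 := by
      intro q hq
      rcases List.mem_append.1 hq with hq | hq
      · exact hsd ▸ htail q hq
      · rw [List.mem_singleton.1 hq, ← hsd, hje, hj0, h0]
    have hR := covered_rels Φ hw hww htail' cover_good
    intro r hr
    have hr' := mem_of_all relsM_val hr
    simp only [Bool.and_eq_true, List.all_eq_true, Nat.blt_eq, Nat.beq_eq] at hr'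
    exact hsd ▸ CertExt.covered.eq_one_of_val s hs (hsd ▸ hR) rfl hr'.1 hr'.2
  · exfalso
    have htail' : ∀ q ∈ relsTail ++ [rBad], wprod (upd f w) q = 1 := by
      intro q hq
      rcases List.mem_append.1 hq with hq | hq
      · exact hsd ▸ htail q hq
      · rw [List.mem_singleton.1 hq, rBad, wprod_append, ← hsd, hje, hj3]
        show e f 3 * wprod s (([0, 1, 2, 1, 2] : List ℕ).reverse) = 1
        rw [wprod_reverse s hs, hsd, wprod_upd f w (by decide), ← bad_word]
        exact mul_inv_cancel _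
    have hR := covered_rels Φ hw hww htail' cover_bad
    have h1' : wprod s [0] = 1 :=
      CertExtBad.covered.eq_one_of_val s hs (hsd ▸ hR) rfl (by decide +kernel) bad_val
    refine z_ne_one Φ ?_
    rw [hsd, wprod_upd f w zW_mem, wprod_z Φ] at h1'
    exact h1'

end CfsgLib.U43.Local
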