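import Cfsg.Agent.Lib.U43.LocalFusion

/-!
# The normaliser of `E` induces the alternating group of degree six
-/

set_option autoImplicit false
set_option maxRecDepth 100000

namespace CfsgLib.U43.Local

open Subgroup CfsgLib.InvChar.Coset

variable {G : Type*} [Group G] {z : G} {f : ℕ → G}

/-- Conjugation by `g` acts on `E` as the list `p`. -/
def Acts (f : ℕ → G) (g : G) (p : List ℕ) : Prop :=
  ∀ k < 16, ap p k < 16 ∧ g * e f k * g⁻¹ = e f (ap p k)

/-- The letters with the last replaced. -/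
def upd (f : ℕ → G) (g : G) (x : ℕ) : G := if x = 5 then g else f x

theorem actW_cons (p : List ℕ) (x : ℕ) (L : List ℕ) (k : ℕ) :
    actW p (x :: L) k = ap (aX p x) (actW p L k) := rfl

variable [Finite G] (Φ : HFrame z f)
include Φ

theorem acts_letter {x : ℕ} (hx : x < 5) : Acts f (f x) (aL.getD x []) := by
  intro k hk
  have h := range_of_all (range_of_all letters_act hx) hk
  simp only [Bool.and_eq_true, Nat.beq_eq, Nat.blt_eq] at h
  refine ⟨h.2, ?_⟩
  have hxm : ∀ y ∈ [x], y ∈ lettersH := by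
    intro y hy
    rw [List.mem_singleton.1 hy]
    exact five_sub x (by interval_cases x <;> simp)
  have e1 : wprod f [x] = f x := by simp [wprod]
  unfold e
  rw [← e1, ← conj_word Φ.sq]
  exact (Φ.eq_iff (mem_app (mem_app hxm (ew_H hk).1) (mem_rev hxm)) (ew_H h.2).1).2 (by simpa using h.1)

/-- The action of a word in the six letters. -/
theorem acts_word {g : G} {p : List ℕ} (hg : Acts f g p) {L : List ℕ} (hL : ∀ x ∈ L, x < 6) :
    ∀ k < 16, actW p L k < 16 ∧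
      wprod (upd f g) L * e f k * (wprod (upd f g) L)⁻¹ = e f (actW p L k) := by
  induction L with
  | nil => intro k hk; exact ⟨hk, by simp [wprod, actW]⟩
  | cons x L ih =>
    intro k hk
    obtain ⟨h1, h2⟩ := ih (fun y hy => hL y (List.mem_cons_of_mem x hy)) k hk
    have hx : Acts f (upd f g x) (aX p x) := by
      by_cases h5 : x = 5
      · simpa [upd, aX, h5] using hg
      · simp only [upd, aX, h5, if_false]
        exact acts_letter Φ (by have := hL x List.mem_cons_self; omega)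
    obtain ⟨h3, h4⟩ := hx _ h1
    refine ⟨actW_cons p x L k ▸ h3, ?_⟩
    rw [actW_cons, ← h4, ← h2, show wprod (upd f g) (x :: L) = upd f g x * wprod (upd f g) L from by
      simp [wprod]]
    group

/-- The action of an element of the centraliser normalising `E`. -/
theorem acts_actOf {i : ℕ} (hi : i < 1152)
    (h : ∀ k < 16, ∃ j < 16, wprod f (wdA i) * e f k * (wprod f (wdA i))⁻¹ = e f j) :
    Acts f (wprod f (wdA i)) (actOf (wdA i)) := by
  intro k hk
  obtain ⟨j, hj, hje⟩ := h k hk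
  have key : ∀ j' < 16, Nat.beq (hvA (ew j')) (hvA (wdA i ++ ew k ++ (wdA i).reverse)) = true ↔ j' = j := by
    intro j' hj'
    rw [Nat.beq_eq, ← Φ.eq_iff (ew_H hj').1
      (mem_app (mem_app (wdA_mem hi) (ew_H hk).1) (mem_rev (wdA_mem hi))), conj_word Φ.sq]
    constructor
    · intro he
      exact (e_inj Φ hj' hj).1 (he.trans hje)
    · rintro rfl; exact hje.symm
  have e1 : ap (actOf (wdA i)) k = j := by
    rw [ap, actOf, List.getD_eq_getElem?_getD, List.getElem?_map, List.getElem?_range hk]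
    simp only [Option.map_some, Option.getD_some]
    cases hf : (List.range 16).find? fun j => Nat.beq (hvA (ew j)) (hvA (wdA i ++ ew k ++ (wdA i).reverse)) with
    | none =>
      exact absurd ((key j hj).2 rfl) (by
        simpa using List.find?_eq_none.1 hf j (List.mem_range.2 hj))
    | some a =>
      exact (key a (List.mem_range.1 (List.mem_of_find?_eq_some hf))).1 (List.find?_some hf :)
  rw [e1]
  exact ⟨hj, hje⟩

omit [Finite G] Φ in
theorem actOf_length (w : List ℕ) : (actOf w).length = 16 := by simp [actOf]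

omit [Finite G] Φ in
theorem aN_length : ∀ p ∈ aN, p.length = 16 := by decide

/-- An element of the centraliser acting on `E` acts as one of the actions `aN`. -/
theorem act_mem_aN {g : G} (hg : g ∈ centralizer ({z} : Set G)) {p : List ℕ} (hp : p.length = 16)
    (hA : ∀ k < 16, ap p k < 16 ∧ g * e f k * g⁻¹ = e f (ap p k)) : p ∈ aN := by
  obtain ⟨i, hi, rfl⟩ := Φ.exists_word hg
  have hA' := acts_actOf Φ hi fun k hk => ⟨_, (hA k hk).1, (hA k hk).2⟩
  have heq : p = actOf (wdA i) := by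
    refine List.ext_getElem (by rw [hp, actOf_length]) fun k hk _ => ?_
    have hk' : k < 16 := hp ▸ hk
    have := (e_inj Φ (hA k hk').1 (hA' k hk').1).1 ((hA k hk').2.symm.trans (hA' k hk').2)
    rw [ap, ap, List.getD_eq_getElem _ _ hk, List.getD_eq_getElem _ _ (by rw [actOf_length]; exact hk')] at this
    exact this
  have h := range_of_all act_N hi
  simp only [Bool.or_eq_true, Bool.not_eq_true', hasAct_iff] at h
  refine heq ▸ h.resolve_left ?_
  rw [Bool.not_eq_false, List.all_eq_true]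
  intro j hj
  obtain ⟨k, hk, rfl⟩ := List.getElem_of_mem hj
  rw [actOf_length] at hk
  have := (hA' k hk).1
  rw [ap, List.getD_eq_getElem _ _ (by rw [actOf_length]; exact hk)] at this
  rw [Nat.blt_eq]; exact this

/-- An element centralising `E` lies in `E`. -/
theorem cent_E_mem {v : G} (hv : ∀ k < 16, v * e f k = e f k * v) : ∃ j < 16, v = e f j := by
  obtain ⟨h0, h1, h2, -⟩ := e_special Φ
  have hC : v ∈ centralizer ({z} : Set G) := mem_centralizer_singleton_iff.2 (by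
    have := hv 1 (by norm_num); rwa [h1] at this)
  obtain ⟨i, hi, rfl⟩ := Φ.exists_word hC
  have h := range_of_all cent_E hi
  have hc : ∀ k < 16, comm (wdA i) (ew k) = true := fun k hk =>
    (commute_iff Φ (wdA_mem hi) (ew_H hk).1).1 (hv k hk)
  simp only [hc 1 (by norm_num), hc 2 (by norm_num), hc 4 (by norm_num), hc 8 (by norm_num),
    Bool.and_self, Bool.not_true, Bool.false_or, hasVal_iff] at h
  obtain ⟨q, hq, he⟩ := h
  obtain ⟨j, hj, rfl⟩ := List.getElem_of_mem hq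
  have hj' : j < 16 := hj
  refine ⟨j, hj', (Φ.eq_iff (wdA_mem hi) (ew_H hj').1).2 ?_⟩
  rw [hvA_wdA hi, ← he, ew, List.getD_eq_getElem _ _ hj]

/-- What the hypotheses on the conjugates of `z` in `Q` give: an element carrying `z` to `t` and `t`
to `z`. -/
theorem exists_swap (hne : ∃ g : G, g * z * g⁻¹ ∈ qSub f ∧ g * z * g⁻¹ ≠ z) :
    ∃ g : G, g * z * g⁻¹ = tt f ∧ g * tt f * g⁻¹ = z := by
  obtain ⟨g₀, hg₀, hg₀z⟩ := hne
  have hz1 := z_ne_one Φ
  have hzz := z_sq Φ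
  obtain ⟨h, hh, hht⟩ := exists_conj_t Φ hg₀ (by
      rw [show g₀ * z * g₀⁻¹ * (g₀ * z * g₀⁻¹) = g₀ * (z * z) * g₀⁻¹ by group, hzz]; group)
    (fun he => hz1 (conj_eq_one_iff.1 he)) hg₀z
  obtain ⟨g₁, hg1d⟩ : ∃ g₁, g₁ = h⁻¹ * g₀ := ⟨_, rfl⟩
  have hg1 : g₁ * z * g₁⁻¹ = tt f := by
    rw [hg1d, show h⁻¹ * g₀ * z * (h⁻¹ * g₀)⁻¹ = h⁻¹ * (g₀ * z * g₀⁻¹) * h by group, ← hht]; group
  obtain ⟨A, hAd⟩ : ∃ A, A = wprod f fourW := ⟨_, rfl⟩
  obtain ⟨hc1, hsq, hc2⟩ := four_facts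
  have hAt : A * tt f = tt f * A := hAd ▸ (commute_iff Φ fourW_mem tW_mem).2 hc1
  have hA2 : A * A = z := by
    rw [hAd, ← wprod_append, ← wprod_z Φ]
    exact (Φ.eq_iff (mem_app fourW_mem fourW_mem) zW_mem).2 hsq
  obtain ⟨b, hbd⟩ : ∃ b, b = g₁⁻¹ * A * g₁ := ⟨_, rfl⟩
  have hb : b ∈ centralizer ({z} : Set G) := by
    rw [mem_centralizer_singleton_iff, hbd]
    have hz' : z = g₁⁻¹ * tt f * g₁ := by rw [← hg1]; group
    rw [hz', show g₁⁻¹ * A * g₁ * (g₁⁻¹ * tt f * g₁) = g₁⁻¹ * (A * tt f) * g₁ by group, hAt]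
    group
  have hb2 : b * b = g₁⁻¹ * z * g₁ := by
    rw [hbd, show g₁⁻¹ * A * g₁ * (g₁⁻¹ * A * g₁) = g₁⁻¹ * (A * A) * g₁ by group, hA2]
  obtain ⟨q, hq, hbq⟩ := sq_mem_qElts Φ hb (by
    rw [hb2, show g₁⁻¹ * z * g₁ * (g₁⁻¹ * z * g₁) = g₁⁻¹ * (z * z) * g₁ by group, hzz]; group)
  have hu_ne : b * b ≠ z := by
    rw [hb2]
    intro he
    refine tt_ne_z Φ ?_
    rw [← hg1]
    calc g₁ * z * g₁⁻¹ = g₁ * (g₁⁻¹ * z * g₁) * g₁⁻¹ := by rw [he]
      _ = z := by group
  have hu1 : b * b ≠ 1 := by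
    rw [hb2]
    intro he
    exact hz1 (by rw [show z = g₁ * (g₁⁻¹ * z * g₁) * g₁⁻¹ by group, he]; group)
  have hu2 : b * b * (b * b) = 1 := by
    rw [hb2, show g₁⁻¹ * z * g₁ * (g₁⁻¹ * z * g₁) = g₁⁻¹ * (z * z) * g₁ by group, hzz]; group
  have hm := qElts_mem hq
  have e2' : hvA (q ++ q) = hvA [] :=
    (Φ.eq_iff (mem_app hm hm) (by simp)).1 (by rw [wprod_append, ← hbq, hu2]; rfl)
  have e1' : hvA q ≠ hvA [] := fun he => hu1 (hbq.trans ((Φ.eq_iff hm (by simp)).2 he))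
  have e0' : hvA q ≠ hvA [0] := fun he =>
    hu_ne (hbq.trans (((Φ.eq_iff hm zW_mem).2 he).trans (wprod_z Φ)))
  have hq' := mem_of_all q_fusion hq
  simp only [Bool.or_eq_true, Nat.beq_eq, Bool.not_eq_true', beq_false_iff, List.any_eq_true,
    List.mem_range] at hq'
  obtain ⟨i, hi, hie⟩ := hq'.resolve_left fun h => h.elim (fun h => h.elim e1' e0') (fun h => h e2')
  obtain ⟨k, hkd⟩ : ∃ k, k = wprod f (wdA i) := ⟨_, rfl⟩
  have hkC : k ∈ centralizer ({z} : Set G) := hkd ▸ Φ.mem_C (wdA_mem hi)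
  have hkt : k * tt f * k⁻¹ = g₁⁻¹ * z * g₁ := by
    rw [← hb2, hbq, hkd, tt, ← conj_word Φ.sq]
    exact (Φ.eq_iff (mem_app (mem_app (wdA_mem hi) tW_mem) (mem_rev (wdA_mem hi))) hm).2 hie
  refine ⟨g₁ * k, ?_, ?_⟩
  · rw [show g₁ * k * z * (g₁ * k)⁻¹ = g₁ * (k * z * k⁻¹) * g₁⁻¹ by group,
      mem_centralizer_singleton_iff.1 hkC, mul_inv_cancel_right, hg1]
  · rw [show g₁ * k * tt f * (g₁ * k)⁻¹ = g₁ * (k * tt f * k⁻¹) * g₁⁻¹ by group, hkt]; group

/-- An element normalising `E`, carrying `z` to `t` and `t` to `z * t`. -/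
theorem exists_mover (hne : ∃ g : G, g * z * g⁻¹ ∈ qSub f ∧ g * z * g⁻¹ ≠ z) :
    ∃ n : G, n * z * n⁻¹ = tt f ∧ n * tt f * n⁻¹ = z * tt f ∧
      (∀ k < 16, ∃ j < 16, n * e f k * n⁻¹ = e f j) ∧
      ∀ x, x * z = z * x → x * tt f = tt f * x →
        n * x * n⁻¹ * z = z * (n * x * n⁻¹) ∧ n * x * n⁻¹ * tt f = tt f * (n * x * n⁻¹) := by
  obtain ⟨g, hg1, hg2⟩ := exists_swap Φ hne
  obtain ⟨σ, hσd⟩ : ∃ σ, σ = wprod f sigmaW := ⟨_, rfl⟩
  have hσz : σ * z * σ⁻¹ = z := by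
    rw [hσd, mem_centralizer_singleton_iff.1 (Φ.mem_C sigmaW_mem), mul_inv_cancel_right]
  have hσt : σ * tt f * σ⁻¹ = z * tt f := by
    rw [hσd, tt, ← conj_word Φ.sq, show z * wprod f tW = wprod f ([0] ++ tW) by
      rw [wprod_append, wprod_z Φ]]
    exact (Φ.eq_iff (mem_app (mem_app sigmaW_mem tW_mem) (mem_rev sigmaW_mem))
      (mem_app zW_mem tW_mem)).2 t_facts.2.2.2.1
  obtain ⟨r, hrd⟩ : ∃ r, r = g * σ := ⟨_, rfl⟩
  have hcz : tt f * z = z * tt f := tt_comm_z Φ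
  have hr1 : r * z * r⁻¹ = tt f := by
    rw [hrd, show g * σ * z * (g * σ)⁻¹ = g * (σ * z * σ⁻¹) * g⁻¹ by group, hσz, hg1]
  have hr2 : r * tt f * r⁻¹ = z * tt f := by
    rw [hrd, show g * σ * tt f * (g * σ)⁻¹ = g * (σ * tt f * σ⁻¹) * g⁻¹ by group, hσt,
      show g * (z * tt f) * g⁻¹ = (g * z * g⁻¹) * (g * tt f * g⁻¹) by group, hg1, hg2, hcz]
  have hr3 : r * (z * tt f) * r⁻¹ = z := by
    rw [show r * (z * tt f) * r⁻¹ = (r * z * r⁻¹) * (r * tt f * r⁻¹) by group, hr1, hr2,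
      ← mul_assoc, hcz, mul_assoc, tt_sq Φ, mul_one]
  have hrT : ∀ x, x * z = z * x → x * tt f = tt f * x →
      r * x * r⁻¹ * z = z * (r * x * r⁻¹) ∧ r * x * r⁻¹ * tt f = tt f * (r * x * r⁻¹) := by
    intro x h1 h2
    have h3 : x * (z * tt f) = z * tt f * x := by rw [← mul_assoc, h1, mul_assoc, h2, mul_assoc]
    constructor
    · conv_lhs => rw [← hr3, show r * x * r⁻¹ * (r * (z * tt f) * r⁻¹) = r * (x * (z * tt f)) * r⁻¹ by
        group, h3]
      conv_rhs => rw [← hr3]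
      group
    · conv_lhs => rw [← hr1, show r * x * r⁻¹ * (r * z * r⁻¹) = r * (x * z) * r⁻¹ by group, h1]
      conv_rhs => rw [← hr1]
      group
  -- `r` permutes the two elementary subgroups of order sixteen
  obtain ⟨h0, h1, h2, k0, k1, k2⟩ := e_special Φ
  have hperm : ∀ F : ℕ → G, (∀ i < 16, ∀ j < 16, F i * F j = F (i ^^^ j)) →
      (∀ i < 16, ∀ j < 16, F i = F j → i = j) → F 0 = 1 → F 1 = z → F 2 = tt f →
      (∀ k < 16, F k * z = z * F k ∧ F k * tt f = tt f * F k) →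
      (∀ k < 16, ∃ j < 16, r * F k * r⁻¹ = e f j) ∨ ∀ k < 16, ∃ j < 16, r * F k * r⁻¹ = e2 f j := by
    intro F hmul hinj hF0 hF1 hF2 hcm
    obtain ⟨φ, hφd⟩ : ∃ φ : ℕ → G, φ = fun k => r * F k * r⁻¹ := ⟨_, rfl⟩
    have hφmul : ∀ i < 16, ∀ j < 16, φ i * φ j = φ (i ^^^ j) := fun i hi j hj => by
      simp only [hφd]; rw [← hmul i hi j hj]; group
    have hφinj : ∀ i < 16, ∀ j < 16, φ i = φ j → i = j := fun i hi j hj he => hinj i hi j hj (by
      simp only [hφd] at he; exact mul_left_cancel (mul_right_cancel he))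
    have hφC : ∀ k < 16, ∃ i < 1152, wprod f (wdA i) = φ k ∧ comm (wdA i) tW = true ∧
        hvA (wdA i ++ wdA i) = hvA [] := by
      intro k hk
      obtain ⟨hc1, hc2⟩ := hrT (F k) (hcm k hk).1 (hcm k hk).2
      obtain ⟨i, hi, hie⟩ := Φ.exists_word (g := φ k) (mem_centralizer_singleton_iff.2 (by
        simp only [hφd]; exact hc1))
      refine ⟨i, hi, hie, (commute_iff Φ (wdA_mem hi) tW_mem).1 (by
        rw [hie]; simp only [hφd]; exact hc2), ?_⟩
      refine (Φ.eq_iff (mem_app (wdA_mem hi) (wdA_mem hi)) (by simp)).1 ?_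
      rw [wprod_append, hie, hφmul k hk k hk, Nat.xor_self]
      simp [hφd, hF0, wprod]
    have hφ1 : φ 1 = tt f := by simp only [hφd]; rw [hF1, hr1]
    have hφ2 : φ 2 = z * tt f := by simp only [hφd]; rw [hF2, hr2]
    have hφ3 : φ 3 = z := by
      rw [show (3 : ℕ) = 1 ^^^ 2 from rfl, ← hφmul 1 (by norm_num) 2 (by norm_num), hφ1, hφ2,
        ← mul_assoc, hcz, mul_assoc, tt_sq Φ, mul_one]
    have hφ0 : φ 0 = 1 := by simp [hφd, hF0]
    have hsmall : ∀ k < 16, ∀ i < 1152, wprod f (wdA i) = φ k →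
        hasVal i [[], [0], tW, [0] ++ tW] = true → k < 4 := by
      intro k hk i hi hie hv
      obtain ⟨q, hq, hqe⟩ := hasVal_iff.1 hv
      have hq' : φ k = wprod f q := by
        rw [← hie]
        refine (Φ.eq_iff (wdA_mem hi) ?_).2 (by rw [hvA_wdA hi, hqe])
        simp only [List.mem_cons, List.not_mem_nil, or_false] at hq
        rcases hq with rfl | rfl | rfl | rfl
        exacts [by simp, zW_mem, tW_mem, mem_app zW_mem tW_mem]
      simp only [List.mem_cons, List.not_mem_nil, or_false] at hq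
      rcases hq with rfl | rfl | rfl | rfl
      · have := hφinj k hk 0 (by norm_num) (hq'.trans (by rw [hφ0]; rfl)); omega
      · have := hφinj k hk 3 (by norm_num) (hq'.trans (by rw [hφ3, wprod_z Φ])); omega
      · have := hφinj k hk 1 (by norm_num) (hq'.trans hφ1.symm); omega
      · have := hφinj k hk 2 (by norm_num) (hq'.trans (by rw [hφ2, wprod_append, wprod_z Φ]; rfl))
        omega
    obtain ⟨i, hi, hie, hit, hi2⟩ := hφC 4 (by norm_num)
    obtain ⟨j, hj, hje, hjt, hj2⟩ := hφC 8 (by norm_num)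
    have hP := range_of_all (p := fun i => !smallInv i || _) pairs_elem hi
    have hsi : smallInv i = true := by
      simp only [smallInv, hit, hi2, Bool.and_eq_true, Nat.beq_eq, Bool.not_eq_true', true_and]
      refine Bool.eq_false_iff.2 fun h => ?_
      have := hsmall 4 (by norm_num) i hi hie h; omega
    have hsj : smallInv j = true := by
      simp only [smallInv, hjt, hj2, Bool.and_eq_true, Nat.beq_eq, Bool.not_eq_true', true_and]
      refine Bool.eq_false_iff.2 fun h => ?_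
      have := hsmall 8 (by norm_num) j hj hje h; omega
    simp only [hsi, Bool.not_true, Bool.false_or] at hP
    have hP' := range_of_all hP hj
    have hcij : comm (wdA i) (wdA j) = true := (commute_iff Φ (wdA_mem hi) (wdA_mem hj)).1 (by
      rw [hie, hje, hφmul 4 (by norm_num) 8 (by norm_num), hφmul 8 (by norm_num) 4 (by norm_num),
        Nat.xor_comm])
    have hnot : hasVal (hvA (wdA i ++ wdA j)) [[], [0], tW, [0] ++ tW] ≠ true := by
      intro h
      obtain ⟨m, hm, hme⟩ := Φ.exists_word (g := φ 12)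
        (by rw [show (12 : ℕ) = 4 ^^^ 8 from rfl, ← hφmul 4 (by norm_num) 8 (by norm_num), ← hie, ← hje]
            exact mul_mem (Φ.mem_C (wdA_mem hi)) (Φ.mem_C (wdA_mem hj)))
      have e' : hvA (wdA i ++ wdA j) = m := by
        rw [← hvA_wdA hm]
        refine (Φ.eq_iff (mem_app (wdA_mem hi) (wdA_mem hj)) (wdA_mem hm)).1 ?_
        rw [wprod_append, hie, hje, hme, hφmul 4 (by norm_num) 8 (by norm_num)]
        rfl
      rw [e'] at h
      have := hsmall 12 (by norm_num) m hm hme h; omega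
    simp only [hsj, hcij, Bool.not_true, Bool.false_or, Bool.or_eq_true, Bool.and_eq_true] at hP'
    have hmk : ∀ (W : ℕ → List ℕ) (WL : List (List ℕ)), WL.length = 16 →
        (∀ k, WL.getD k [] = W k) → (∀ k < 16, ∀ x ∈ W k, x ∈ lettersH) →
        (∀ a < 16, ∀ b < 16, wprod f (W a) * wprod f (W b) = wprod f (W (a ^^^ b))) →
        wprod f (W 0) = 1 → wprod f (W 1) = z → wprod f (W 2) = tt f →
        hasVal i WL = true → hasVal j WL = true →
        ∀ k < 16, ∃ l < 16, r * F k * r⁻¹ = wprod f (W l) := by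
      intro W WL hlen hW hWm hWmul hW0 hW1 hW2 hiW hjW k hk
      have idx : ∀ m < 1152, hasVal m WL = true → ∃ l < 16, wprod f (wdA m) = wprod f (W l) := by
        intro m hm h
        obtain ⟨q, hq, hqe⟩ := hasVal_iff.1 h
        obtain ⟨l, hl, rfl⟩ := List.getElem_of_mem hq
        refine ⟨l, hlen ▸ hl, (Φ.eq_iff (wdA_mem hm) (hWm l (hlen ▸ hl))).2 ?_⟩
        rw [hvA_wdA hm, ← hW, List.getD_eq_getElem _ _ hl, hqe]
      obtain ⟨a, ha, hae⟩ := idx i hi hiW
      obtain ⟨b, hb, hbe⟩ := idx j hj hjW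
      rw [hie] at hae
      rw [hje] at hbe
      let S : Set ℕ := {k | k < 16 ∧ ∃ l < 16, φ k = wprod f (W l)}
      have hS : ∀ a ∈ S, ∀ b ∈ S, a ^^^ b ∈ S := by
        rintro a ⟨ha, l, hl, hle⟩ b ⟨hb, m, hm, hme⟩
        exact ⟨xor_lt ha hb, l ^^^ m, xor_lt hl hm, by
          rw [← hφmul a ha b hb, hle, hme, hWmul l hl m hm]⟩
      have s4 : 4 ∈ S := ⟨by norm_num, a, ha, hae⟩
      have s8 : 8 ∈ S := ⟨by norm_num, b, hb, hbe⟩
      have s0 : 0 ∈ S := ⟨by norm_num, 0, by norm_num, by rw [hφ0, hW0]⟩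
      have s1 : 1 ∈ S := ⟨by norm_num, 2, by norm_num, by rw [hφ1, hW2]⟩
      have s2 : 2 ∈ S := ⟨by norm_num, 3, by norm_num, by
        rw [hφ2, show (3 : ℕ) = 1 ^^^ 2 from rfl, ← hWmul 1 (by norm_num) 2 (by norm_num), hW1, hW2]⟩
      have s3 : 3 ∈ S := hS 1 s1 2 s2
      have s12 : 12 ∈ S := hS 4 s4 8 s8
      have hkS : k ∈ S := by
        interval_cases k
        exacts [s0, s1, s2, s3, s4, hS 4 s4 1 s1, hS 4 s4 2 s2, hS 4 s4 3 s3, s8, hS 8 s8 1 s1,
          hS 8 s8 2 s2, hS 8 s8 3 s3, s12, hS 12 s12 1 s1, hS 12 s12 2 s2, hS 12 s12 3 s3]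
      obtain ⟨-, l, hl, hle⟩ := hkS
      exact ⟨l, hl, by simpa only [hφd] using hle⟩
    rcases hP' with (h | ⟨hi', hj'⟩) | ⟨hi', hj'⟩
    · exact absurd h hnot
    · exact Or.inl (hmk ew ewL rfl (fun _ => rfl) (fun k hk => (ew_H hk).1)
        (fun a ha b hb => (e_mul Φ ha hb).1) h0 h1 h2 hi' hj')
    · exact Or.inr (hmk ew2 ew2L rfl (fun _ => rfl) (fun k hk => (ew_H hk).2)
        (fun a ha b hb => (e_mul Φ ha hb).2) k0 k1 k2 hi' hj')
  have hmulE := fun i hi j hj => (e_mul Φ (i := i) (j := j) hi hj).1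
  have hmulE2 := fun i hi j hj => (e_mul Φ (i := i) (j := j) hi hj).2
  have hcm : ∀ k < 16, (e f k * z = z * e f k ∧ e f k * tt f = tt f * e f k) ∧
      (e2 f k * z = z * e2 f k ∧ e2 f k * tt f = tt f * e2 f k) := by
    intro k hk
    refine ⟨⟨?_, ?_⟩, ?_, ?_⟩
    · rw [← h1, hmulE k hk 1 (by norm_num), hmulE 1 (by norm_num) k hk, Nat.xor_comm]
    · rw [← h2, hmulE k hk 2 (by norm_num), hmulE 2 (by norm_num) k hk, Nat.xor_comm]
    · rw [← k1, hmulE2 k hk 1 (by norm_num), hmulE2 1 (by norm_num) k hk, Nat.xor_comm]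
    · rw [← k2, hmulE2 k hk 2 (by norm_num), hmulE2 2 (by norm_num) k hk, Nat.xor_comm]
  have hE := hperm (e f) hmulE (fun i hi j hj => (e_inj Φ hi hj).1) h0 h1 h2 fun k hk => (hcm k hk).1
  have hE2 := hperm (e2 f) hmulE2 (fun i hi j hj => (e_inj Φ hi hj).2) k0 k1 k2 fun k hk => (hcm k hk).2
  -- the fourth power
  obtain ⟨C, hCd⟩ : ∃ C : G → G, C = fun x => r * x * r⁻¹ := ⟨_, rfl⟩
  let SE : Set G := {x | ∃ k < 16, x = e f k}
  let SF : Set G := {x | ∃ k < 16, x = e2 f k}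
  have toSet : ∀ {F F' : ℕ → G}, (∀ k < 16, ∃ j < 16, r * F k * r⁻¹ = F' j) →
      ∀ x ∈ {x | ∃ k < 16, x = F k}, C x ∈ {x | ∃ k < 16, x = F' k} := by
    rintro F F' h x ⟨k, hk, rfl⟩
    obtain ⟨j, hj, he⟩ := h k hk
    exact ⟨j, hj, by simpa only [hCd] using he⟩
  have h4 : ∀ k < 16, ∃ j < 16, r ^ 4 * e f k * (r ^ 4)⁻¹ = e f j := by
    have hr4 : ∀ x, r ^ 4 * x * (r ^ 4)⁻¹ = C (C (C (C x))) := fun x => by
      simp only [hCd, pow_succ, pow_zero, one_mul]; group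
    suffices h : ∀ x ∈ SE, C (C (C (C x))) ∈ SE from fun k hk => by
      obtain ⟨j, hj, he⟩ := h _ ⟨k, hk, rfl⟩
      exact ⟨j, hj, by rw [hr4, he]⟩
    intro x hx
    rcases hE with hE | hE
    · exact toSet hE _ (toSet hE _ (toSet hE _ (toSet hE _ hx)))
    rcases hE2 with hE2 | hE2
    · exact toSet hE2 _ (toSet hE _ (toSet hE2 _ (toSet hE _ hx)))
    -- both carried to the second subgroup: then they are equal
    have hCi : Function.Injective C := fun a b h => by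
      simp only [hCd] at h; exact mul_left_cancel (mul_right_cancel h)
    have hfin : SF.Finite := Set.toFinite _
    have hbij : C '' SF = SF := Set.eq_of_subset_of_ncard_le
      (by rintro _ ⟨y, hy, rfl⟩; exact toSet hE2 y hy) (Set.ncard_image_of_injective _ hCi).ge hfin
    have hsub : ∀ y ∈ SE, y ∈ SF := by
      intro y hy
      obtain ⟨w, hw, hwe⟩ := hbij.ge (toSet hE y hy)
      rwa [← hCi hwe]
    have hsub' : SE = SF := by
      refine Set.eq_of_subset_of_ncard_le hsub ?_ hfin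
      have i1 : SF = e2 f '' Set.Iio 16 := by ext y; simp [SF, eq_comm]
      have i2 : SE = e f '' Set.Iio 16 := by ext y; simp [SE, eq_comm]
      have j1 : Set.InjOn (e2 f) (Set.Iio 16) := fun a ha b hb h => (e_inj Φ ha hb).2 h
      have j2 : Set.InjOn (e f) (Set.Iio 16) := fun a ha b hb h => (e_inj Φ ha hb).1 h
      rw [i1, i2, j1.ncard_image, j2.ncard_image]
    rw [hsub'] at hx ⊢
    exact toSet hE2 _ (toSet hE2 _ (toSet hE2 _ (toSet hE2 _ hx)))
  refine ⟨r ^ 4, ?_, ?_, h4, fun x hx1 hx2 => ?_⟩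
  · rw [show r ^ 4 * z * (r ^ 4)⁻¹ = r * (r * (r * (r * z * r⁻¹) * r⁻¹) * r⁻¹) * r⁻¹ by simp only [pow_succ, pow_zero, one_mul]; group,
      hr1, hr2, hr3, hr1]
  · rw [show r ^ 4 * tt f * (r ^ 4)⁻¹ = r * (r * (r * (r * tt f * r⁻¹) * r⁻¹) * r⁻¹) * r⁻¹ by simp only [pow_succ, pow_zero, one_mul]; group,
      hr2, hr3, hr1, hr2]
  · rw [show r ^ 4 * x * (r ^ 4)⁻¹ = r * (r * (r * (r * x * r⁻¹) * r⁻¹) * r⁻¹) * r⁻¹ by simp only [pow_succ, pow_zero, one_mul]; group]
    obtain ⟨a1, a2⟩ := hrT x hx1 hx2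
    obtain ⟨b1, b2⟩ := hrT _ a1 a2
    obtain ⟨c1, c2⟩ := hrT _ b1 b2
    exact hrT _ c1 c2

end CfsgLib.U43.Local
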