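import Cfsg.Agent.Lib.KnownA.U4ThreeSchur.Model
import Cfsg.Agent.Lib.U43.ModelFactsData
import Cfsg.Agent.Lib.Classical.UnitaryGen
import Mathlib.GroupTheory.Sylow

/-!
In the permutation model of `PSU₄(3)` all involutions are conjugate, no element has order 35, and the group is
simple.
-/

set_option autoImplicit false
set_option maxRecDepth 100000
set_option Elab.async false
set_option linter.style.haveILetI false

namespace CfsgLib.U43

open CfsgLib.KnownA.PermCert CfsgLib.KnownA.U4ThreeSchur

/-- The codes used here. -/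
def needFacts : List ℕ :=
  [codeZ, codeFive, codeOne] ++ sylowGens ++ sylowList ++ conjPairs.map Prod.snd

theorem produced_facts : producedBy gensG opsFacts needFacts = true := by decide +kernel

theorem mem_facts {c : ℕ} (hc : c ∈ needFacts) : valid 112 c = true ∧ permOf 112 c ∈ GP :=
  mem_of_producedBy produced_facts c hc

/-- The chosen involution. -/
noncomputable def zGP : GP := ⟨permOf 112 codeZ, (mem_facts (by simp [needFacts])).2⟩

theorem eq_of_eqW {a b : List ℕ} (ha : ∀ c ∈ a, c ∈ needFacts) (hb : ∀ c ∈ b, c ∈ needFacts)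
    (h : eqW 112 a b = true) : prodW 112 a = prodW 112 b :=
  (eqW_iff (fun c hc => (mem_facts (ha c hc)).1) (fun c hc => (mem_facts (hb c hc)).1)).1 h

theorem permOf_codeOne : permOf 112 codeOne = 1 := by
  refine Equiv.ext fun i => Fin.ext ?_
  rw [permOf_val (mem_facts (by simp [needFacts])).1]
  exact (by decide +kernel : ∀ i : Fin 112, pimg codeOne i = i) i

/-- The checks of the list of the Sylow subgroup. -/
def sylowOK : Bool :=
  sylowList.any (fun a => eqW 112 [a] [codeOne]) &&
  sylowGens.all (fun g => sylowList.any fun b => eqW 112 [b] [g]) &&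
  sylowGens.all (fun g => sylowList.all fun a => sylowList.any fun b => eqW 112 [b] [g, a])

/-- Its elements are distinct. -/
def distinctOK : Bool :=
  (List.range 128).all fun i => (List.range i).all fun j =>
    !eqW 112 [sylowList.getD i 0] [sylowList.getD j 0]

/-- Every involution in the list is conjugate to the chosen one. -/
def conjOK : Bool :=
  sylowList.all fun c => eqW 112 [c] [codeOne] || !eqW 112 [c, c] [codeOne] ||
    conjPairs.any fun p => eqW 112 [p.2, codeZ] [c, p.2]

theorem sylow_ok : sylowOK = true := by decide +kernel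

theorem distinct_ok : distinctOK = true := by decide +kernel

theorem conj_ok : conjOK = true := by decide +kernel

theorem sylowList_length : sylowList.length = 128 := by decide +kernel

/-- The Sylow 2-subgroup. -/
noncomputable def sylowGrp : Subgroup (Equiv.Perm (Fin 112)) := genGroup 112 sylowGens

theorem sylowGrp_le : sylowGrp ≤ GP :=
  genGroup_le fun c hc => (mem_facts (by simp [needFacts, hc])).2

theorem prodW_one (a : ℕ) : prodW 112 [a] = permOf 112 a := by simp [prodW]

theorem prodW_two (a b : ℕ) : prodW 112 [a, b] = permOf 112 a * permOf 112 b := by simp [prodW]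

theorem orderOf_conj' {M : Type*} [Group M] (x g : M) : orderOf (x * g * x⁻¹) = orderOf g := by
  simpa using (MulAut.conj x).orderOf_eq g

theorem mem_need_list {c : ℕ} (h : c ∈ sylowList) : c ∈ needFacts := by simp [needFacts, h]

theorem list_of_mem {σ : Equiv.Perm (Fin 112)} (h : σ ∈ sylowGrp) :
    ∃ c ∈ sylowList, permOf 112 c = σ := by
  have hok := sylow_ok
  simp only [sylowOK, Bool.and_eq_true, List.all_eq_true, List.any_eq_true] at hok
  obtain ⟨⟨⟨c₁, hc₁, he₁⟩, -⟩, hmul⟩ := hok
  have h1 : ∃ c ∈ sylowList, permOf 112 c = (1 : Equiv.Perm (Fin 112)) := ⟨c₁, hc₁, by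
    have := eq_of_eqW (by simp [mem_need_list hc₁]) (by simp [needFacts]) he₁
    rwa [prodW_one, prodW_one, permOf_codeOne] at this⟩
  rw [sylowGrp, genGroup, ← Subgroup.mem_toSubmonoid, Subgroup.closure_toSubmonoid_of_finite] at h
  induction h using Submonoid.closure_induction_left with
  | one => exact h1
  | mul_left x hx y hy ih =>
    obtain ⟨g, hg, rfl⟩ := hx
    obtain ⟨a, ha, rfl⟩ := ih
    obtain ⟨b, hb, he⟩ := hmul g hg a ha
    refine ⟨b, hb, ?_⟩
    have := eq_of_eqW (by simp [mem_need_list hb])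
      (fun c hc => by
        rcases List.mem_cons.1 hc with rfl | hc
        · simp [needFacts, hg]
        · rw [List.mem_singleton] at hc; subst hc; exact mem_need_list ha) he
    rwa [prodW_one, prodW_two] at this

theorem produced_sylow : producedBy sylowGens opsSylow sylowList = true := by decide +kernel

theorem mem_of_list {c : ℕ} (hc : c ∈ sylowList) : permOf 112 c ∈ sylowGrp :=
  (mem_of_producedBy (gens := sylowGens) (ops := opsSylow) produced_sylow c hc).2

theorem card_sylowGrp : Nat.card sylowGrp = 2 ^ 7 := by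
  let f : Fin 128 → sylowGrp := fun i => ⟨permOf 112 (sylowList.getD i 0), mem_of_list (by
    rw [List.getD_eq_getElem _ _ (by rw [sylowList_length]; exact i.2)]; exact List.getElem_mem _)⟩
  have hd := distinct_ok
  simp only [distinctOK, List.all_eq_true, List.mem_range, Bool.not_eq_true'] at hd
  have hne : ∀ i j : Fin 128, j < i → f i ≠ f j := fun i j hji e => by
    have h1 : ∀ k : Fin 128, ∀ c ∈ [sylowList.getD k 0], c ∈ needFacts := fun k c hc => by
      rw [List.mem_singleton] at hc
      subst hc
      exact mem_need_list (by rw [List.getD_eq_getElem _ _ (by rw [sylowList_length]; exact k.2)]; exact List.getElem_mem _)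
    have := (eqW_iff (L := [sylowList.getD i 0]) (L' := [sylowList.getD j 0]) (fun c hc => (mem_facts (h1 i c hc)).1)
      (fun c hc => (mem_facts (h1 j c hc)).1)).2 (by rw [prodW_one, prodW_one]; exact congrArg Subtype.val e)
    rw [hd i i.2 j hji] at this
    exact Bool.noConfusion this
  have hb : Function.Bijective f := by
    refine ⟨fun i j e => ?_, fun x => ?_⟩
    · rcases lt_trichotomy i j with h | h | h
      · exact absurd e.symm (hne j i h)
      · exact h
      · exact absurd e (hne i j h)
    · obtain ⟨c, hc, e⟩ := list_of_mem x.2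
      obtain ⟨i, hi, rfl⟩ := List.getElem_of_mem hc
      exact ⟨⟨i, sylowList_length ▸ hi⟩, Subtype.ext (by simp only [f]; rw [List.getD_eq_getElem _ _ hi, e])⟩
  rw [← Nat.card_congr (Equiv.ofBijective f hb), Nat.card_fin]
  norm_num

/-- The Sylow 2-subgroup inside the model. -/
noncomputable def sylowGP : Sylow 2 GP :=
  haveI : Fact (Nat.Prime 2) := ⟨Nat.prime_two⟩
  Sylow.ofCard (sylowGrp.subgroupOf GP) (by
    rw [Nat.card_congr (Subgroup.subgroupOfEquivOfLe sylowGrp_le).toEquiv, card_sylowGrp, card_GP]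
    rw [show (3265920 : ℕ) = 2 ^ 7 * 25515 by norm_num, Nat.factorization_mul (by norm_num) (by norm_num)]
    simp only [Finsupp.coe_add, Pi.add_apply, Nat.Prime.factorization_pow Nat.prime_two, Finsupp.single_eq_same]
    rw [Nat.factorization_eq_zero_of_not_dvd (by norm_num)])

/-- All involutions are conjugate. -/
theorem isConj_z (g : GP) (hg : orderOf g = 2) : IsConj zGP g := by
  haveI : Fact (Nat.Prime 2) := ⟨Nat.prime_two⟩
  haveI : Finite GP := Subtype.finite
  have hp : IsPGroup 2 (Subgroup.zpowers g) := IsPGroup.of_card (n := 1) (by rw [Nat.card_zpowers, hg]; rfl)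
  obtain ⟨P, hP⟩ := hp.exists_le_sylow
  obtain ⟨x, hx⟩ := MulAction.exists_smul_eq GP P sylowGP
  have hmem : x * g * x⁻¹ ∈ (sylowGP : Subgroup GP) := by
    rw [← hx]
    exact ⟨g, hP (Subgroup.mem_zpowers g), rfl⟩
  obtain ⟨y, hy⟩ : ∃ y, y = x * g * x⁻¹ := ⟨_, rfl⟩
  rw [← hy] at hmem
  have hyg : IsConj g y := isConj_iff.2 ⟨x, hy.symm⟩
  have hord : orderOf y = 2 := by rw [hy, ← hg]; exact orderOf_conj' x g
  have hy' : (y : Equiv.Perm (Fin 112)) ∈ sylowGrp := by
    simpa [sylowGP, Subgroup.mem_subgroupOf] using hmem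
  obtain ⟨c, hc, e⟩ := list_of_mem hy'
  have hok := conj_ok
  simp only [conjOK, Bool.or_eq_true, List.all_eq_true, List.any_eq_true, Bool.not_eq_true'] at hok
  have hneed := mem_need_list hc
  rcases hok c hc with (h | h) | h
  · have := eq_of_eqW (by simp [hneed]) (by simp [needFacts]) h
    rw [prodW_one, prodW_one, e, permOf_codeOne] at this
    have : y = 1 := Subtype.ext this
    simp [this] at hord
  · have h2 : (y : Equiv.Perm (Fin 112)) * y = 1 := congrArg Subtype.val
      (show y * y = 1 by rw [← pow_two, ← hord, pow_orderOf_eq_one])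
    have := (eqW_iff (n := 112) (L := [c, c]) (L' := [codeOne]) (by simp [(mem_facts hneed).1])
      (by simp [(mem_facts (show codeOne ∈ needFacts by simp [needFacts])).1])).2
      (by rw [prodW_one, prodW_two, e, permOf_codeOne, h2])
    rw [h] at this
    exact Bool.noConfusion this
  · obtain ⟨p, hp, he⟩ := h
    have hpn : p.2 ∈ needFacts := List.mem_append_right _ (List.mem_map.2 ⟨p, hp, rfl⟩)
    have := eq_of_eqW (a := [p.2, codeZ]) (b := [c, p.2]) (fun a ha => by
        rcases List.mem_cons.1 ha with rfl | ha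
        · exact hpn
        · rw [List.mem_singleton] at ha; subst ha; simp [needFacts]) (by simp [hpn, hneed]) he
    rw [prodW_two, prodW_two, e] at this
    refine (isConj_iff.2 ⟨⟨permOf 112 p.2, (mem_facts hpn).2⟩, ?_⟩ : IsConj zGP y).trans hyg.symm
    rw [mul_inv_eq_iff_eq_mul]
    exact Subtype.ext this

theorem exists_first : ∀ j : Fin 112, first.any (fun c => Nat.beq (pimg c 0) j) = true := by decide +kernel

theorem five_fixed : ∀ i : Fin 112, pimg codeFive i = i ↔ ((i : ℕ) = 58 ∨ (i : ℕ) = 64) := by decide +kernel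

theorem five_pow : eqW 112 [codeFive, codeFive, codeFive, codeFive, codeFive] [codeOne] = true := by
  decide +kernel

theorem card_point_stab (p : Fin 112) : Nat.card (MulAction.stabilizer GP p) = 29160 := by
  have htr : ∀ j, j ∈ MulAction.orbit GP (p0 : Fin 112) := fun j => by
    obtain ⟨c, hc, he⟩ := List.any_eq_true.1 (exists_first j)
    have hm := mem_needG (show c ∈ needG by simp [needG, hc])
    exact ⟨⟨permOf 112 c, hm.2⟩, Fin.ext (by
      show ((permOf 112 c p0 : Fin 112) : ℕ) = j
      rw [permOf_val hm.1]; exact Nat.eq_of_beq_eq_true he)⟩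
  have horb : MulAction.orbit GP p = Set.univ := Set.eq_univ_of_forall fun j => by
    rw [MulAction.orbit_eq_iff.2 (htr p)]
    exact htr j
  have h := Nat.card_congr (MulAction.orbitProdStabilizerEquivGroup GP p)
  rw [Nat.card_prod, horb, Nat.card_univ, Nat.card_fin, card_GP] at h
  omega

/-- No element has order 35. -/
theorem order_ne (g : GP) : orderOf g ≠ 35 := by
  intro hg
  haveI : Fact (Nat.Prime 5) := ⟨by norm_num⟩
  haveI : Finite GP := Subtype.finite
  have hu : orderOf (g ^ 7) = 5 := by rw [orderOf_pow, hg]; rfl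
  have hv : orderOf (g ^ 5) = 7 := by rw [orderOf_pow, hg]; rfl
  have hv5 : valid 112 codeFive = true := (mem_facts (by simp [needFacts])).1
  obtain ⟨f, hf⟩ : ∃ f : GP, (f : Equiv.Perm (Fin 112)) = permOf 112 codeFive :=
    ⟨⟨_, (mem_facts (show codeFive ∈ needFacts by simp [needFacts])).2⟩, rfl⟩
  have hf5 : orderOf f = 5 := orderOf_eq_prime (by
    refine Subtype.ext ?_
    have h1 := (eqW_iff (n := 112) (L := [codeFive, codeFive, codeFive, codeFive, codeFive]) (L' := [codeOne])
      (by simp [hv5]) (by simp [(mem_facts (show codeOne ∈ needFacts by simp [needFacts])).1])).1 five_pow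
    rw [prodW_one, permOf_codeOne] at h1
    rw [SubgroupClass.coe_pow, hf]
    show _ = (1 : Equiv.Perm (Fin 112))
    rw [← h1]
    simp [prodW, pow_succ, mul_assoc]) (fun e => by
    have h1 : pimg codeFive 0 = 0 := by
      have := congrArg (fun x : GP => (((x : Equiv.Perm (Fin 112)) (⟨0, by norm_num⟩ : Fin 112)) : ℕ)) e
      simpa [hf, permOf_val hv5] using this
    have := (five_fixed ⟨0, by norm_num⟩).1 h1
    simp at this)
  -- Sylow subgroups of order five
  have hcard : ∀ x : GP, orderOf x = 5 → ∃ P : Sylow 5 GP, (P : Subgroup GP) = Subgroup.zpowers x := fun x hx =>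
    ⟨Sylow.ofCard (Subgroup.zpowers x) (by
      rw [Nat.card_zpowers, hx, card_GP, show (3265920 : ℕ) = 5 ^ 1 * 653184 by norm_num,
        Nat.factorization_mul (by norm_num) (by norm_num)]
      simp only [Finsupp.coe_add, Pi.add_apply, Nat.Prime.factorization_pow (by norm_num : Nat.Prime 5),
        Finsupp.single_eq_same]
      rw [Nat.factorization_eq_zero_of_not_dvd (by norm_num)]
      rfl), rfl⟩
  obtain ⟨P, hP⟩ := hcard _ hu
  obtain ⟨R, hR⟩ := hcard _ hf5
  obtain ⟨x, hx⟩ := MulAction.exists_smul_eq GP P R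
  obtain ⟨v, hvdef⟩ : ∃ v, v = x * g ^ 5 * x⁻¹ := ⟨_, rfl⟩
  have hv7 : orderOf v = 7 := by rw [hvdef, orderOf_conj']; exact hv
  have hcomm : Commute v f := by
    have hm : f ∈ (x • P : Sylow 5 GP).toSubgroup := by
      rw [hx, hR]; exact Subgroup.mem_zpowers f
    obtain ⟨w, hw, rfl⟩ := hm
    have hw' : w ∈ Subgroup.zpowers (g ^ 7) := hP ▸ hw
    obtain ⟨k, rfl⟩ := Subgroup.mem_zpowers_iff.1 hw'
    have hc : Commute (g ^ 5) ((g ^ 7) ^ k) := ((Commute.refl g).pow_pow 5 7).zpow_right k
    show v * (x * (g ^ 7) ^ k * x⁻¹) = x * (g ^ 7) ^ k * x⁻¹ * v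
    rw [hvdef]
    calc x * g ^ 5 * x⁻¹ * (x * (g ^ 7) ^ k * x⁻¹) = x * (g ^ 5 * (g ^ 7) ^ k) * x⁻¹ := by group
      _ = x * ((g ^ 7) ^ k * g ^ 5) * x⁻¹ := by rw [hc.eq]
      _ = x * (g ^ 7) ^ k * x⁻¹ * (x * g ^ 5 * x⁻¹) := by group
  -- it permutes the two fixed points
  have hfix : ∀ i : Fin 112, f • i = i ↔ ((i : ℕ) = 58 ∨ (i : ℕ) = 64) := fun i => by
    rw [← five_fixed i]
    show ((f : Equiv.Perm (Fin 112)) i = i) ↔ _
    rw [hf, Fin.ext_iff, permOf_val hv5]
  obtain ⟨p, hp⟩ : ∃ p : Fin 112, p = ⟨58, by norm_num⟩ := ⟨_, rfl⟩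
  have himg : ∀ i : Fin 112, f • i = i → f • (v • i) = v • i := fun i hi => by
    rw [← mul_smul, ← hcomm.eq, mul_smul, hi]
  have hfp : f • p = p := (hfix p).2 (Or.inl (by rw [hp]))
  have h2 : v ^ 2 • p = p := by
    rw [pow_two, mul_smul]
    rcases (hfix _).1 (himg p hfp) with h | h
    · have e : v • p = p := Fin.ext (by rw [h, hp])
      rw [e, e]
    · rcases (hfix _).1 (himg _ (himg p hfp)) with h' | h'
      · exact Fin.ext (by rw [h', hp])
      · exfalso
        have e : v • (v • p) = v • p := Fin.ext (by rw [h', h])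
        rw [MulAction.injective v e] at h
        rw [hp] at h
        norm_num at h
  have hmem : v ∈ MulAction.stabilizer GP p := by
    have h8 : v = (v ^ 2) ^ 4 := by
      rw [← pow_mul, show 2 * 4 = 7 + 1 by norm_num, pow_succ, ← hv7, pow_orderOf_eq_one, one_mul]
    rw [h8]
    exact pow_mem (MulAction.mem_stabilizer_iff.2 h2) _
  have := Subgroup.orderOf_dvd_natCard (MulAction.stabilizer GP p) hmem
  rw [hv7, card_point_stab] at this
  norm_num at this

/-- The model is simple. -/
theorem isSimple_GP : IsSimpleGroup GP := by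
  haveI : Fact (Nat.Prime 3) := ⟨Nat.prime_three⟩
  letI : Fintype (GaloisField 3 2) := Fintype.ofFinite _
  have h0 : Fintype.card (GaloisField 3 2) = 9 := by
    rw [← Nat.card_eq_fintype_card, GaloisField.card 3 2 (by norm_num)]
    norm_num
  obtain ⟨e⟩ := exists_equiv h0
  haveI : IsSimpleGroup (Cfsg.PSU 4 (GaloisField 3 2) 3) :=
    CfsgLib.Classical.isSimpleGroup_psu (q := 3) (by rw [h0]; norm_num) (by norm_num) (by norm_num)
  exact e.isSimpleGroup

end CfsgLib.U43
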