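import Cfsg.Agent.Lib.U43.Amalgam
import Cfsg.Agent.Lib.U43.Closing
import Cfsg.Agent.Lib.Comp.FStar
import Cfsg.Agent.Lib.Comp.Subnormal
import Cfsg.Prelude.Def_Local

/-!
# Recognition of the groups of unitary type `U₄(3)` from generators satisfying the relators
-/

set_option autoImplicit false

namespace CfsgLib.U43

open CfsgLib.InvChar.Coset CfsgLib.Invol

/-- What is needed of the model: involutions conjugate to the first letter, no elements of order 21, 35. -/
structure ModelFacts {P : Type*} [Group P] (m : ℕ → P) : Prop extends IsModel m where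
  conj : ∀ x : P, orderOf x = 2 → ∃ p : P, p * m 0 * p⁻¹ = x
  no21 : ∀ x : P, orderOf x ≠ 21
  no35 : ∀ x : P, orderOf x ≠ 35

variable {G : Type*} [Group G] [Finite G]

/-- The centre of the centraliser has no element of order three when the generalised Fitting subgroup is
a two-group. -/
theorem eq_one_of_central {z : G}
    (hF : IsPGroup 2 (Cfsg.generalizedFittingSubgroup (Subgroup.centralizer ({z} : Set G)))) {w : G}
    (hw : w ∈ Subgroup.centralizer ({z} : Set G))
    (hc : ∀ g ∈ Subgroup.centralizer ({z} : Set G), g * w = w * g) (h3 : w ^ 3 = 1) : w = 1 := by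
  set H := Subgroup.centralizer ({z} : Set G)
  have hmem : (⟨w, hw⟩ : H) ∈ Cfsg.generalizedFittingSubgroup H :=
    CfsgLib.Comp.centralizer_generalizedFitting_le H
      (Subgroup.mem_centralizer_iff.2 fun g _ => Subtype.ext (hc g g.2))
  obtain ⟨k, hk⟩ := hF ⟨_, hmem⟩
  have hk' : w ^ 2 ^ k = 1 := congrArg (fun a : Cfsg.generalizedFittingSubgroup H => ((a : H) : G)) hk
  have h1 : orderOf w ∣ Nat.gcd (2 ^ k) 3 :=
    Nat.dvd_gcd (orderOf_dvd_of_pow_eq_one hk') (orderOf_dvd_of_pow_eq_one h3)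
  rw [Nat.Coprime.gcd_eq_one (Nat.Coprime.pow_left k (by norm_num)), Nat.dvd_one, orderOf_eq_one_iff] at h1
  exact h1

/-- **Recognition.** -/
theorem nonempty_mulEquiv_of_rels {P : Type*} [Group P] [IsSimpleGroup P] {m : ℕ → P}
    (hm : ModelFacts m) {z : G} {f : ℕ → G} (h : Rels z f) (hz : orderOf z = 2)
    (hcard : Nat.card (Subgroup.centralizer ({z} : Set G)) = 1152)
    (hF : IsPGroup 2 (Cfsg.generalizedFittingSubgroup (Subgroup.centralizer ({z} : Set G)))) :
    Nonempty (G ≃* P) := by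
  obtain ⟨ψ, hinj, hψ⟩ := exists_injective_of_rels hm.toIsModel h (invol_ne_one hz)
    fun w hw hc h3 => eq_one_of_central hF hw hc h3
  have hord : ∀ x, orderOf (ψ x) = orderOf x := orderOf_injective ψ hinj
  have htop : ψ.range = ⊤ := by
    refine eq_top_of_centralizer hz ?_ hcard ?_ ?_ ?_ ?_
    · refine h.centralizer_le.trans ((Subgroup.closure_le _).2 ?_)
      rintro _ ⟨x, hx, rfl⟩
      have : ∀ x ∈ lettersH, x < 7 := by decide
      exact ⟨m x, hψ x (this x hx)⟩
    · rw [← hm.card]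
      exact (Nat.card_congr (MonoidHom.ofInjective hinj).toEquiv).symm
    · rintro _ ⟨x, rfl⟩ hx
      rw [hord] at hx
      obtain ⟨p, rfl⟩ := hm.conj x hx
      refine ⟨ψ p, ⟨p, rfl⟩, ?_⟩
      rw [map_mul, map_mul, map_inv, hψ 0 (by norm_num), h.zeq]
    · rintro _ ⟨x, rfl⟩
      rw [hord]; exact hm.no21 x
    · rintro _ ⟨x, rfl⟩
      rw [hord]; exact hm.no35 x
  exact ⟨(MulEquiv.ofBijective ψ ⟨hinj, MonoidHom.range_eq_top.1 htop⟩).symm⟩

end CfsgLib.U43
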