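import Cfsg.Agent.Lib.U43.Model
import Cfsg.Agent.Lib.U43.Recog

/-!
The permutation model satisfies what the recognition asks of it.
-/

set_option autoImplicit false
set_option maxRecDepth 100000
set_option Elab.async false

namespace CfsgLib.U43

open CfsgLib.KnownA.PermCert CfsgLib.KnownA.U4ThreeSchur CfsgLib.InvChar.Coset

theorem relsAll_ok : (relsAll ++ [wordC]).all relOK = true := by decide +kernel

/-- The model has every property needed. -/
theorem mGen_facts : ModelFacts mGen where
  rel r hr := wprod_eq_one (List.all_eq_true.1 relsAll_ok r (List.mem_append_left _ hr))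
  wordC := wprod_eq_one (List.all_eq_true.1 relsAll_ok wordC (List.mem_append_right _ (by simp)))
  gen := closure_mGen
  card := card_GP
  conj x hx := isConj_iff.1 (model_facts.2.2.1 x hx)
  no21 := model_facts.2.2.2.1
  no35 := model_facts.2.2.2.2

/-- Recognition against `PSU₄(3)` over any field of nine elements. -/
theorem nonempty_mulEquiv_psu {F : Type*} [Field F] [Fintype F] (hq : Fintype.card F = 9)
    {G : Type*} [Group G] [Finite G] {z : G} {f : ℕ → G} (h : Rels z f) (hz : orderOf z = 2)
    (hcard : Nat.card (Subgroup.centralizer ({z} : Set G)) = 1152)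
    (hF : IsPGroup 2 (Cfsg.generalizedFittingSubgroup (Subgroup.centralizer ({z} : Set G)))) :
    Nonempty (G ≃* Cfsg.PSU 4 F 3) := by
  haveI := model_facts.2.1
  obtain ⟨e⟩ := nonempty_mulEquiv_of_rels mGen_facts h hz hcard hF
  obtain ⟨e'⟩ := exists_equiv hq
  exact ⟨e.trans e'⟩

end CfsgLib.U43
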