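import Mathlib.LinearAlgebra.Matrix.SpecialLinearGroup
import Mathlib.Data.ZMod.Basic
import Mathlib.Data.Fintype.Pi
import Mathlib.Tactic

/-!
# `SL(2, 3)` by numbers

`el i` is the `i`-th element, `0` the identity and `1` its negative; `mT`, `iT`, `nT` are product, inverse,
negative, `dT` is conjugation by the diagonal matrix `(1, -1)`.
-/

set_option autoImplicit false
set_option maxRecDepth 100000

namespace CfsgLib.U43.SL23

/-- The group. -/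
abbrev S3 : Type := Matrix.SpecialLinearGroup (Fin 2) (ZMod 3)

/-- The entries. -/
def rows : List (ℕ × ℕ × ℕ × ℕ) := [(1, 0, 0, 1), (2, 0, 0, 2), (0, 1, 2, 0), (0, 1, 2, 1), (0, 1, 2, 2), (0, 2, 1, 0), (0, 2, 1, 1), (0, 2, 1, 2), (1, 0, 1, 1), (1, 0, 2, 1), (1, 1, 0, 1), (1, 1, 1, 2), (1, 1, 2, 0), (1, 2, 0, 1), (1, 2, 1, 0), (1, 2, 2, 2), (2, 0, 1, 2), (2, 0, 2, 2), (2, 1, 0, 2), (2, 1, 1, 1), (2, 1, 2, 0), (2, 2, 0, 2), (2, 2, 1, 0), (2, 2, 2, 1)]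

/-- The matrix of a number. -/
def mat (i : ℕ) : Matrix (Fin 2) (Fin 2) (ZMod 3) :=
  let r := rows.getD i (1, 0, 0, 1)
  !![(r.1 : ZMod 3), r.2.1; r.2.2.1, r.2.2.2]

/-- The element of a number. -/
def el (i : ℕ) : S3 := if h : (mat i).det = 1 then ⟨mat i, h⟩ else 1

/-- Multiplication table. -/
def mTab : List (List ℕ) :=
  [[0, 1, 2, 3, 4, 5, 6, 7, 8, 9, 10, 11, 12, 13, 14, 15, 16, 17, 18, 19, 20, 21, 22, 23],
   [1, 0, 5, 7, 6, 2, 4, 3, 17, 16, 21, 23, 22, 18, 20, 19, 9, 8, 13, 15, 14, 10, 12, 11],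
   [2, 5, 1, 18, 21, 0, 10, 13, 12, 20, 4, 15, 17, 3, 9, 23, 14, 22, 7, 11, 16, 6, 8, 19],
   [3, 7, 17, 20, 23, 8, 11, 14, 10, 19, 2, 13, 16, 4, 0, 22, 15, 21, 6, 12, 1, 5, 9, 18],
   [4, 6, 16, 19, 22, 9, 12, 15, 11, 18, 3, 14, 1, 2, 8, 21, 13, 23, 5, 10, 17, 7, 0, 20],
   [5, 2, 0, 13, 10, 1, 21, 18, 22, 14, 6, 19, 8, 7, 16, 11, 20, 12, 3, 23, 9, 4, 17, 15],
   [6, 4, 9, 15, 12, 16, 22, 19, 23, 13, 7, 20, 0, 5, 17, 10, 18, 11, 2, 21, 8, 3, 1, 14],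
   [7, 3, 8, 14, 11, 17, 23, 20, 21, 15, 5, 18, 9, 6, 1, 12, 19, 10, 4, 22, 0, 2, 16, 13],
   [8, 17, 3, 4, 2, 7, 5, 6, 9, 0, 11, 12, 10, 14, 15, 13, 1, 16, 20, 18, 19, 23, 21, 22],
   [9, 16, 4, 2, 3, 6, 7, 5, 0, 8, 12, 10, 11, 15, 13, 14, 17, 1, 19, 20, 18, 22, 23, 21],
   [10, 21, 20, 23, 17, 14, 8, 11, 19, 3, 13, 16, 2, 0, 22, 4, 7, 15, 1, 6, 12, 18, 5, 9],
   [11, 23, 19, 22, 16, 15, 9, 12, 18, 4, 14, 1, 3, 8, 21, 2, 6, 13, 17, 5, 10, 20, 7, 0],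
   [12, 22, 18, 21, 1, 13, 0, 10, 20, 2, 15, 17, 4, 9, 23, 3, 5, 14, 16, 7, 11, 19, 6, 8],
   [13, 18, 12, 9, 15, 22, 19, 16, 6, 23, 0, 7, 20, 10, 5, 17, 11, 4, 21, 8, 2, 1, 14, 3],
   [14, 20, 10, 0, 13, 21, 18, 1, 5, 22, 8, 6, 19, 11, 7, 16, 12, 2, 23, 9, 3, 17, 15, 4],
   [15, 19, 11, 8, 14, 23, 20, 17, 7, 21, 9, 5, 18, 12, 6, 1, 10, 3, 22, 0, 4, 16, 13, 2],
   [16, 9, 6, 5, 7, 4, 3, 2, 1, 17, 22, 21, 23, 19, 18, 20, 8, 0, 15, 14, 13, 12, 11, 10],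
   [17, 8, 7, 6, 5, 3, 2, 4, 16, 1, 23, 22, 21, 20, 19, 18, 0, 9, 14, 13, 15, 11, 10, 12],
   [18, 13, 22, 16, 19, 12, 15, 9, 4, 11, 1, 3, 14, 21, 2, 8, 23, 6, 10, 17, 5, 0, 20, 7],
   [19, 15, 23, 17, 20, 11, 14, 8, 3, 10, 16, 2, 13, 22, 4, 0, 21, 7, 12, 1, 6, 9, 18, 5],
   [20, 14, 21, 1, 18, 10, 13, 0, 2, 12, 17, 4, 15, 23, 3, 9, 22, 5, 11, 16, 7, 8, 19, 6],
   [21, 10, 14, 11, 8, 20, 17, 23, 15, 7, 18, 9, 5, 1, 12, 6, 3, 19, 0, 4, 22, 13, 2, 16],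
   [22, 12, 13, 10, 0, 18, 1, 21, 14, 5, 19, 8, 6, 16, 11, 7, 2, 20, 9, 3, 23, 15, 4, 17],
   [23, 11, 15, 12, 9, 19, 16, 22, 13, 6, 20, 0, 7, 17, 10, 5, 4, 18, 8, 2, 21, 14, 3, 1]]

/-- Product. -/
def mT (i j : ℕ) : ℕ := (mTab.getD i []).getD j 0

/-- Inverse. -/
def iT (i : ℕ) : ℕ := [0, 1, 5, 14, 22, 2, 12, 20, 9, 8, 13, 23, 6, 10, 3, 19, 17, 16, 21, 15, 7, 18, 4, 11].getD i 0

/-- Negative. -/
def nT (i : ℕ) : ℕ := [1, 0, 5, 7, 6, 2, 4, 3, 17, 16, 21, 23, 22, 18, 20, 19, 9, 8, 13, 15, 14, 10, 12, 11].getD i 0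

/-- The diagonal automorphism. -/
def dT (i : ℕ) : ℕ := [0, 1, 5, 6, 7, 2, 3, 4, 9, 8, 13, 15, 14, 10, 12, 11, 17, 16, 21, 23, 22, 18, 20, 19].getD i 0

/-- Generators of order three. -/
abbrev gS : ℕ := 10

/-- Generators of order three. -/
abbrev gT : ℕ := 8

/-- An element of order four. -/
abbrev gI : ℕ := 5

/-- An element of order four anticommuting with `gI`. -/
abbrev gJ : ℕ := 11

/-- The quaternion subgroup. -/
def q8 : List ℕ := [0, 1, 2, 5, 11, 15, 19, 23]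

/-- Words in the two generators (`false` for `gS`). -/
def words : List (List Bool) :=
  [[],
   [false, true, false, true],
   [false, true, true, false],
   [false, true, true],
   [true, false, true, true],
   [true, false, false, true],
   [false, false, true],
   [false, false, true, false],
   [true],
   [true, true],
   [false],
   [true, false],
   [true, true, false],
   [false, false],
   [true, false, false],
   [true, true, false, false],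
   [false, true, false],
   [false, true, false, true, true],
   [true, false, true],
   [false, true],
   [true, true, false, true],
   [false, false, true, false, true],
   [false, true, false, false],
   [false, false, true, true]]

/-- The value of a word from images of the generators. -/
def valW (a b : ℕ) (L : List Bool) : ℕ := L.foldl (fun p k => mT p (bif k then b else a)) 0

theorem el_one : el 0 = 1 ∧ el 1 * el 1 = 1 := by decide +kernel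

theorem el_mul : ∀ i < 24, ∀ j < 24, el i * el j = el (mT i j) ∧ mT i j < 24 := by decide +kernel

theorem el_inj : ∀ i < 24, ∀ j < 24, el i = el j → i = j := by decide +kernel

theorem el_surj : ∀ x : S3, ∃ i < 24, el i = x := by decide +kernel

theorem tab_lt : ∀ i < 24, iT i < 24 ∧ nT i < 24 ∧ dT i < 24 := by decide +kernel

theorem tab_facts : ∀ i < 24, mT i (iT i) = 0 ∧ mT (iT i) i = 0 ∧ mT 1 i = nT i ∧ mT i 1 = nT i ∧
    mT 0 i = i ∧ mT i 0 = i ∧ valW gS gT (words.getD i []) = i := by decide +kernel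

/-- Conjugation by `el k` after the diagonal automorphism when `e`. -/
def cj (k : ℕ) (e : Bool) (i : ℕ) : ℕ := mT (mT k (bif e then dT i else i)) (iT k)

/-- Two elements related as the generators are. -/
def good (a b : ℕ) : Bool :=
  decide (a ≠ 0 ∧ b ≠ 0 ∧ mT (mT a a) a = 0 ∧ mT (mT b b) b = 0 ∧ mT a b ≠ mT b a ∧
    mT (mT (mT a b) (mT a b)) (mT (mT a b) (mT a b)) = 0)

theorem good_gen : good gS gT = true := by decide +kernel

theorem exists_cj : ∀ a < 24, ∀ b < 24, good a b = true →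
    ∃ k < 24, ∃ e : Bool, cj k e gS = a ∧ cj k e gT = b := by decide +kernel

theorem cj_word : ∀ k < 24, ∀ e : Bool, ∀ i < 24,
    valW (cj k e gS) (cj k e gT) (words.getD i []) = cj k e i ∧ cj k e i < 24 := by decide +kernel

end CfsgLib.U43.SL23
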